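import Mathlib.Algebra.Homology.DerivedCategory.Ext.ExtClass
import Mathlib.Algebra.Homology.DerivedCategory.TStructure
import Mathlib.Algebra.Homology.DerivedCategory.HomologySequence
import Mathlib.Algebra.Homology.DerivedCategory.FullyFaithful

/-!
Every class in `Ext¹` of an abelian category (with no assumption of enough injectives or
projectives) is the class of a short exact sequence.
-/

set_option autoImplicit false

universe w' w v u

open CategoryTheory CategoryTheory.Limits CategoryTheory.Abelian DerivedCategory Pretriangulated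

namespace Groth.Agent.SGA7X

variable {C : Type u} [Category.{v} C] [Abelian C]

section

variable [HasDerivedCategory.{w'} C]

theorem isZero_homology_single (A : C) (n : ℤ) (hn : n ≠ 0) :
    IsZero ((homologyFunctor C n).obj ((singleFunctor C 0).obj A)) := by
  rcases lt_or_gt_of_ne hn with h | h
  · exact isZero_of_isGE _ 0 n h
  · exact isZero_of_isLE _ 0 n h

/-- A morphism `A → B⟦1⟧` between single objects is the connecting map of a short exact sequence. -/
theorem exists_singleδ_eq {A B : C}
    (h : (singleFunctor C 0).obj A ⟶ ((singleFunctor C 0).obj B)⟦(1 : ℤ)⟧) :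
    ∃ (F : C) (i : B ⟶ F) (p : F ⟶ A) (hip : i ≫ p = 0) (hS : (ShortComplex.mk i p hip).ShortExact),
      hS.singleδ = h := by
  let S₀ := singleFunctor C 0
  obtain ⟨Y, f, g, hT⟩ := distinguished_cocone_triangle₂ h
  have hY : ∀ n : ℤ, n ≠ 0 → IsZero ((homologyFunctor C n).obj Y) := fun n hn =>
    (HomologySequence.exact₂ _ hT n).isZero_X₂
      ((isZero_homology_single B n hn).eq_of_src _ _) ((isZero_homology_single A n hn).eq_of_tgt _ _)
  have : Y.IsGE 0 := (isGE_iff Y 0).2 fun i hi => hY i (by omega)
  have : Y.IsLE 0 := (isLE_iff Y 0).2 fun i hi => hY i (by omega)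
  obtain ⟨F, ⟨e⟩⟩ := exists_iso_singleFunctor_obj_of_isGE_of_isLE Y 0
  obtain ⟨i, hi⟩ := S₀.map_surjective (f ≫ e.hom)
  obtain ⟨p, hp⟩ := S₀.map_surjective (e.inv ≫ g)
  have hT' : Triangle.mk (S₀.map i) (S₀.map p) h ∈ distTriang (DerivedCategory C) := by
    refine isomorphic_distinguished _ hT _ (Triangle.isoMk _ _ (Iso.refl _) e.symm (Iso.refl _) ?_ ?_ ?_)
    · show S₀.map i ≫ e.inv = 𝟙 _ ≫ f
      rw [hi, Category.assoc, e.hom_inv_id, Category.comp_id, Category.id_comp]
    · show S₀.map p ≫ 𝟙 _ = e.inv ≫ g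
      rw [Category.comp_id, hp]
    · show h ≫ (shiftFunctor (DerivedCategory C) (1 : ℤ)).map (𝟙 _) = 𝟙 _ ≫ h
      rw [CategoryTheory.Functor.map_id, Category.comp_id, Category.id_comp]
  have hip : i ≫ p = 0 := S₀.map_injective (by
    rw [Functor.map_comp, Functor.map_zero]
    exact comp_distTriang_mor_zero₁₂ _ hT')
  let S : ShortComplex C := ShortComplex.mk i p hip
  let H := homologyFunctor C 0
  let η := singleFunctorCompHomologyFunctorIso C 0
  have hex : (S.map (S₀ ⋙ H)).ShortExact := by
    refine { exact := HomologySequence.exact₂ _ hT' 0, mono_f := ?_, epi_g := ?_ }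
    · exact (HomologySequence.mono_homologyMap_mor₁_iff _ hT' (-1) 0).2
        ((isZero_homology_single A (-1) (by omega)).eq_of_src _ _)
    · exact (HomologySequence.epi_homologyMap_mor₂_iff _ hT' 0 1).2
        ((isZero_homology_single B 1 (by omega)).eq_of_tgt _ _)
  have hS : S.ShortExact := by
    refine ShortComplex.shortExact_of_iso ?_ hex
    exact ShortComplex.isoMk (η.app B) (η.app F) (η.app A)
      (η.hom.naturality i).symm (η.hom.naturality p).symm
  have : Epi p := hS.epi_g
  refine ⟨F, i, p, hip, hS, ?_⟩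
  obtain ⟨c, hc₂, hc₃⟩ := complete_distinguished_triangle_morphism hS.singleTriangle
    (Triangle.mk (S₀.map i) (S₀.map p) h) hS.singleTriangle_distinguished hT' (𝟙 _) (𝟙 _) ((Category.comp_id _).trans (Category.id_comp _).symm)
  obtain ⟨φ, rfl⟩ := S₀.map_surjective c
  have hφ : φ = 𝟙 A := by
    rw [← cancel_epi p]
    apply S₀.map_injective
    rw [Category.comp_id, Functor.map_comp]
    exact hc₂.trans (Category.id_comp _)
  subst hφ
  exact (((congrArg (hS.singleδ ≫ ·) ((shiftFunctor (DerivedCategory C) (1 : ℤ)).map_id _)).trans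
    (Category.comp_id _)).symm.trans hc₃).trans
    ((congrArg (· ≫ h) (S₀.map_id A)).trans (Category.id_comp _))

end

variable [HasExt.{w} C]

/-- Every class in `Ext¹` is the class of a short exact sequence. -/
theorem exists_shortExact_extClass_eq {A B : C} (e : Ext.{w} A B 1) :
    ∃ (F : C) (i : B ⟶ F) (p : F ⟶ A) (hip : i ≫ p = 0) (hS : (ShortComplex.mk i p hip).ShortExact),
      hS.extClass = e := by
  let := HasDerivedCategory.standard C
  obtain ⟨F, i, p, hip, hS, h⟩ := exists_singleδ_eq e.hom
  exact ⟨F, i, p, hip, hS, Ext.ext (hS.extClass_hom.trans h)⟩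

end Groth.Agent.SGA7X
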