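import Groth.Agent.SGA7X.SmoothUnibranch
import Groth.Agent.IntBC.UnibranchDescent
import Groth.Agent.GrpSchLib.Cartier
import Groth.Agent.GrpSchLib.RedSubgroup
import Groth.Agent.S9812

/-!
The local rings of a group scheme locally of finite type over a field are geometrically unibranch.
-/

set_option autoImplicit false
set_option backward.isDefEq.respectTransparency.types false

universe u

open CategoryTheory Limits AlgebraicGeometry MonoidalCategory CartesianMonoidalCategory MonObj GrpObj

namespace Groth.Agent.SGA7X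

/-- Geometric unibranchness goes up along surjections with nil kernel. -/
theorem isGeomUnibranch_of_surjective_nil {A B : Type u} [CommRing A] [IsLocalRing A] [CommRing B] [IsLocalRing B]
    (φ : A →+* B) (hs : Function.Surjective φ) (hker : ∀ a, φ a = 0 → IsNilpotent a)
    (h : CAlg2.IsGeomUnibranch B) : CAlg2.IsGeomUnibranch A := by
  refine IntBC.isGeomUnibranch_of_branch ?_
  obtain ⟨D, _, _, _, _, hD, hk, hint, hins⟩ := IntBC.branch_of_isGeomUnibranch h
  letI : Algebra A D := ((algebraMap B D).comp φ).toAlgebra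
  refine ⟨D, inferInstance, inferInstance, inferInstance, inferInstance, hD, fun a ha => ?_, ⟨?_⟩, fun d => ?_⟩
  · obtain ⟨n, hn⟩ := hk (φ a) ha
    obtain ⟨m, hm⟩ := hker (a ^ n) (by rw [map_pow, hn])
    exact ⟨n * m, by rw [pow_mul, hm]⟩
  · exact (RingHom.isIntegral_of_surjective φ hs).trans _ _ hint.isIntegral
  · obtain ⟨n, b, hb⟩ := hins d
    obtain ⟨a, rfl⟩ := hs b
    exact ⟨n, a, hb⟩

/-- The stalk map of a surjective closed immersion has nil kernel. -/
theorem stalkMap_ker_nil {X H : Scheme.{u}} (i : H ⟶ X) [IsClosedImmersion i] [Surjective i] (y : H)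
    (a : X.presheaf.stalk (i y)) (ha : (i.stalkMap y).hom a = 0) : IsNilpotent a := by
  rw [nilpotent_iff_mem_prime]
  intro q hq
  let p : Spec (X.presheaf.stalk (i y)) := ⟨q, hq⟩
  let z := X.fromSpecStalk (i y) p
  have hz : z ⤳ i y := (Scheme.range_fromSpecStalk (X := X)).le ⟨p, rfl⟩
  obtain ⟨w, hw⟩ := i.surjective z
  have hwy : w ⤳ y := (i.isClosedEmbedding.isInducing.specializes_iff).1 (hw.symm ▸ hz)
  obtain ⟨q', hq'⟩ := (Scheme.range_fromSpecStalk (X := H)).ge hwy
  have h1 : X.fromSpecStalk (i y) (Spec.map (i.stalkMap y) q') = X.fromSpecStalk (i y) p := by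
    rw [← Scheme.Hom.comp_apply, Scheme.SpecMap_stalkMap_fromSpecStalk, Scheme.Hom.comp_apply, hq', hw]
  have h2 : Spec.map (i.stalkMap y) q' = p := (X.fromSpecStalk (i y)).isEmbedding.injective h1
  have h3 : (Spec.map (i.stalkMap y) q').asIdeal = q := congrArg PrimeSpectrum.asIdeal h2
  rw [← h3]
  show (i.stalkMap y).hom a ∈ q'.asIdeal
  rw [ha]
  exact zero_mem _

theorem isGeomUnibranch_stalk_of_closedImmersion {X H : Scheme.{u}} (i : H ⟶ X) [IsClosedImmersion i] [Surjective i]
    (hH : ∀ y : H, CAlg2.IsGeomUnibranch (H.presheaf.stalk y)) (x : X) :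
    CAlg2.IsGeomUnibranch (X.presheaf.stalk x) := by
  obtain ⟨y, rfl⟩ := i.surjective x
  exact isGeomUnibranch_of_surjective_nil (i.stalkMap y).hom (i.stalkMap_surjective y)
    (stalkMap_ker_nil i y) (hH y)

theorem isGeomUnibranch_of_isField {A : Type u} [CommRing A] [IsLocalRing A] (hA : IsField A) :
    CAlg2.IsGeomUnibranch A := by
  letI := hA.toField
  exact S9812.result A

/-- A smooth scheme over a field has geometrically unibranch local rings. -/
theorem isGeomUnibranch_stalk_of_smooth_field {k : Type u} [Field k] {X : Scheme.{u}}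
    (f : X ⟶ Spec (CommRingCat.of k)) [Smooth f] (x : X) :
    CAlg2.IsGeomUnibranch (X.presheaf.stalk x) := by
  refine isGeomUnibranch_stalk_of_smooth f x (isGeomUnibranch_of_isField ?_)
  have hy : f x = genericPoint (Spec (CommRingCat.of k)) := Subsingleton.elim _ _
  rw [hy]
  exact Field.toIsField (Spec (CommRingCat.of k)).functionField

/-- The local rings of a group scheme locally of finite type over an algebraically closed field. -/
theorem isGeomUnibranch_stalk_group_aux {k : Type u} [Field k] [IsAlgClosed k]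
    (G : Over (Spec (CommRingCat.of k))) [GrpObj G] [LocallyOfFiniteType G.hom] (x : G.left) :
    CAlg2.IsGeomUnibranch (G.left.presheaf.stalk x) := by
  let H : Over (Spec (CommRingCat.of k)) := Over.mk (G.left.nilradical.subschemeι ≫ G.hom)
  let i : H ⟶ G := Over.homMk G.left.nilradical.subschemeι rfl
  haveI : IsReduced H.left := H23.RedSub.isReduced_nilradical G.left
  haveI : IsClosedImmersion i.left := inferInstanceAs (IsClosedImmersion G.left.nilradical.subschemeι)
  haveI hs : Surjective i.left := ⟨fun x => by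
    have h : Set.range G.left.nilradical.subschemeι = Set.univ := by
      rw [Scheme.IdealSheafData.range_subschemeι, ← Scheme.IdealSheafData.vanishingIdeal_top]
      simp [Scheme.IdealSheafData.coe_support_vanishingIdeal]
    exact h.ge (Set.mem_univ x)⟩
  haveI : Mono i.left := inferInstance
  haveI : Mono i := (Over.forget _).mono_of_mono_map (inferInstanceAs (Mono i.left))
  haveI : IsReduced (H ⊗ H).left := GrpSchLib.isReduced_pullback_of_perfectField H.hom H.hom
  haveI : IsReduced (𝟙_ (Over (Spec (CommRingCat.of k)))).left := inferInstanceAs (IsReduced (Spec (CommRingCat.of k)))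
  have hl : ∀ (T : Over (Spec (CommRingCat.of k))) (_ : IsReduced T.left) (f : T ⟶ G), ∃ g : T ⟶ H, g ≫ i = f := by
    intro T _ f
    obtain ⟨g, hg⟩ := H23.RedSub.exists_lift_closed f.left i.left
      (by rw [i.left.surjective.range_eq]; exact Set.subset_univ _)
    exact ⟨Over.homMk g (by rw [← Over.w i, reassoc_of% hg, Over.w f]), Over.OverMorphism.ext hg⟩
  obtain ⟨e, he⟩ := hl _ inferInstance η[G]
  obtain ⟨m, hm⟩ := hl _ inferInstance ((fst H H ≫ i) * (snd H H ≫ i))
  obtain ⟨v, hv⟩ := hl _ inferInstance i⁻¹
  obtain ⟨str, -⟩ := GrpSchLib.exists_grpObj_of_mono i e he m hm v hv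
  haveI : LocallyOfFiniteType H.hom := inferInstanceAs (LocallyOfFiniteType (G.left.nilradical.subschemeι ≫ G.hom))
  haveI : Smooth H.hom := GrpSchLib.smooth_of_isReduced_of_isAlgClosed H
  exact isGeomUnibranch_stalk_of_closedImmersion i.left
    (fun y => isGeomUnibranch_stalk_of_smooth_field H.hom y) x

/-- The local rings of a group scheme locally of finite type over a field are geometrically unibranch. -/
theorem isGeomUnibranch_stalk_group {k : Type u} [Field k]
    (G : Over (Spec (CommRingCat.of k))) [GrpObj G] [LocallyOfFiniteType G.hom] (x : G.left) :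
    CAlg2.IsGeomUnibranch (G.left.presheaf.stalk x) := by
  let g : Spec (CommRingCat.of (AlgebraicClosure k)) ⟶ Spec (CommRingCat.of k) :=
    Spec.map (CommRingCat.ofHom <| algebraMap k (AlgebraicClosure k))
  let : GrpObj (Over.mk G.hom) := ‹GrpObj G›
  let : GrpObj (Over.mk (pullback.snd G.hom g)) := Over.grpObjMkPullbackSnd
  haveI : LocallyOfFiniteType (Over.mk (pullback.snd G.hom g)).hom :=
    inferInstanceAs (LocallyOfFiniteType (pullback.snd G.hom g))
  haveI : Flat g := inferInstance
  haveI : Surjective g := inferInstance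
  obtain ⟨y, rfl⟩ := (pullback.fst G.hom g).surjective x
  letI := ((pullback.fst G.hom g).stalkMap y).hom.toAlgebra
  haveI : Module.Flat _ _ := Flat.stalkMap (pullback.fst G.hom g) y
  have hB : CAlg2.IsGeomUnibranch ((pullback G.hom g).presheaf.stalk y) :=
    isGeomUnibranch_stalk_group_aux (Over.mk (pullback.snd G.hom g)) y
  haveI : IsLocalHom (algebraMap (G.left.presheaf.stalk (pullback.fst G.hom g y)) ((pullback G.hom g).presheaf.stalk y)) :=
    inferInstanceAs (IsLocalHom ((pullback.fst G.hom g).stalkMap y).hom)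
  exact IntBC.isGeomUnibranch_descent hB

end Groth.Agent.SGA7X
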