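import Groth.Agent.SGA7X.SectionChart
import Groth.Agent.SGA7X.GroupUnibranch
import Groth.Agent.H23.FinCondSch
import Groth.Prelude.Def_MoreMor

/-!
The section components of a smooth morphism are open.
-/

set_option autoImplicit false
set_option backward.isDefEq.respectTransparency.types false

universe u

open CategoryTheory Limits AlgebraicGeometry TensorProduct

namespace Groth.Agent.SGA7X.SectionOpen

variable {X S : Scheme.{u}} (f : X ⟶ S)

theorem connectedComponentIn_subset_sectionComponents (e : S ⟶ X) (s : S) :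
    connectedComponentIn (f ⁻¹' {s}) (e s) ⊆ MoreMor.sectionComponents f e := by
  intro x hx
  have hfx : x ∈ f ⁻¹' {s} := connectedComponentIn_subset _ _ hx
  show x ∈ connectedComponentIn (f ⁻¹' {f x}) (e (f x))
  rwa [show f x = s from hfx]

theorem mem_component {e : S ⟶ X} {x : X} (hx : x ∈ MoreMor.sectionComponents f e) {s : S} (hs : f x = s) :
    x ∈ connectedComponentIn (f ⁻¹' {s}) (e s) := hs ▸ hx

/-- A preconnected piece of a fibre meeting the section components is contained in them. -/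
theorem subset_sectionComponents {e : S ⟶ X} {T : Set X} (hT : _root_.IsPreconnected T) {s : S}
    (hTs : T ⊆ f ⁻¹' {s}) {x : X} (hxT : x ∈ T) (hx : x ∈ MoreMor.sectionComponents f e) :
    T ⊆ MoreMor.sectionComponents f e := by
  refine Set.Subset.trans ?_ (connectedComponentIn_subset_sectionComponents f e s)
  rw [connectedComponentIn_eq (mem_component f hx (hTs hxT))]
  exact hT.subset_connectedComponentIn hxT hTs

/-- Points of one connected component of a smooth fibre have a common generization in it. -/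
theorem exists_common_generization [Smooth f] {s : S} {y z : X} (hy : y ∈ connectedComponentIn (f ⁻¹' {s}) z) :
    ∃ η : X, η ⤳ y ∧ η ⤳ z ∧ f η = s := by
  have hz : z ∈ f ⁻¹' {s} := by
    by_contra h
    rw [connectedComponentIn_eq_empty h] at hy
    exact hy
  let F := f.fiber s
  let k := S.residueField s
  haveI : Smooth (f.fiberToSpecResidueField s) := inferInstanceAs (Smooth (pullback.snd f _))
  haveI : Subsingleton ↥(Spec k) := inferInstanceAs (Subsingleton (Spec (CommRingCat.of k)))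
  haveI : IrreducibleSpace ↥(Spec k) := inferInstanceAs (IrreducibleSpace (Spec (CommRingCat.of k)))
  have hu : ∀ a : F, CAlg2.IsGeomUnibranch (F.presheaf.stalk a) := fun a =>
    isGeomUnibranch_stalk_of_smooth_field (k := k) (f.fiberToSpecResidueField s) a
  have hS : ∀ t : Spec k, CAlg2.IsGeomUnibranch ((Spec k).presheaf.stalk t) := fun t =>
    isGeomUnibranch_stalk_of_smooth_field (k := k) (𝟙 (Spec k)) t
  obtain ⟨z', rfl⟩ : z ∈ Set.range (f.fiberι s) := by rw [f.range_fiberι]; exact hz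
  let P : Set F := f.fiberι s ⁻¹' connectedComponentIn (f ⁻¹' {s}) (f.fiberι s z')
  have himg : f.fiberι s '' P = connectedComponentIn (f ⁻¹' {s}) (f.fiberι s z') := by
    rw [Set.image_preimage_eq_of_subset]
    rw [f.range_fiberι]
    exact connectedComponentIn_subset _ _
  have hP : _root_.IsPreconnected P :=
    (f.fiberι s).isEmbedding.isInducing.isPreconnected_image.1 (himg.symm ▸ isPreconnected_connectedComponentIn)
  obtain ⟨y', hy', rfl⟩ : y ∈ f.fiberι s '' P := by rw [himg]; exact hy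
  let C := irreducibleComponent z'
  have hC : C ∈ irreducibleComponents F := irreducibleComponent_mem_irreducibleComponents z'
  have hCo : IsOpen C := by
    rw [isOpen_iff_forall_mem_open]
    intro a ha
    obtain ⟨W, haW, hW⟩ := exists_irreducible_nhd (f.fiberToSpecResidueField s) hS a
    obtain ⟨C', hC', hWC'⟩ := exists_mem_irreducibleComponents_subset_of_isIrreducible _ hW
    refine ⟨W, ?_, W.2, haW⟩
    rwa [H23.FinCondSch.unique_component (nilradical_isPrime_of_isGeomUnibranch (hu a)) hC hC' ha (hWC' haW)]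
  have hCc : IsClopen C := ⟨isClosed_irreducibleComponent, hCo⟩
  have hyC : y' ∈ C :=
    hCc.connectedComponent_subset mem_irreducibleComponent (hP.subset_connectedComponent
      (mem_connectedComponentIn hz : z' ∈ P) hy')
  have hgen := hC.1.isGenericPoint_genericPoint isClosed_irreducibleComponent
  refine ⟨f.fiberι s hC.1.genericPoint, (hgen.specializes hyC).map (f.fiberι s).continuous,
    (hgen.specializes mem_irreducibleComponent).map (f.fiberι s).continuous, ?_⟩
  have := Set.mem_range_self (f := f.fiberι s) hC.1.genericPoint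
  rwa [f.range_fiberι] at this

/-- A neighbourhood of the section inside the section components. -/
theorem exists_nhd_section [Smooth f] (e : S ⟶ X) (he : e ≫ f = 𝟙 S) (s : S) :
    ∃ U : Set X, IsOpen U ∧ e s ∈ U ∧ U ⊆ MoreMor.sectionComponents f e := by
  have hfe : ∀ t, f (e t) = t := fun t => congrArg (fun m : S ⟶ S => m t) he
  obtain ⟨W₁, hW₁, hsW₁, -⟩ := exists_isAffineOpen_mem_and_subset (x := s) (U := (⊤ : S.Opens)) trivial
  obtain ⟨V₁, hV₁, hsV₁, hV₁W⟩ := exists_isAffineOpen_mem_and_subset (x := e s) (U := f ⁻¹ᵁ W₁)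
    (by show f (e s) ∈ W₁; rwa [hfe])
  replace hV₁W : V₁ ≤ f ⁻¹ᵁ W₁ := hV₁W
  obtain ⟨r, hrle, hsr⟩ := hW₁.exists_basicOpen_le (V := W₁ ⊓ e ⁻¹ᵁ V₁) ⟨s, hsW₁, hsV₁⟩ hsW₁
  let W := S.basicOpen r
  let V := X.basicOpen (f.appLE W₁ V₁ hV₁W r)
  have hW : IsAffineOpen W := hW₁.basicOpen r
  have hV : IsAffineOpen V := hV₁.basicOpen _
  have hVeq : V = V₁ ⊓ f ⁻¹ᵁ W := by
    rw [Scheme.preimage_basicOpen]
    exact X.basicOpen_res _ (homOfLE hV₁W).op
  have hVW : V ≤ f ⁻¹ᵁ W := hVeq ▸ inf_le_right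
  have hWV : W ≤ e ⁻¹ᵁ V := fun t ht => by
    show e t ∈ V
    rw [hVeq]
    exact ⟨(hrle ht).2, show f (e t) ∈ W by rwa [hfe]⟩
  have hsm : (f.appLE W V hVW).hom.Smooth :=
    HasRingHomProperty.appLE (P := @Smooth) f ‹_› ⟨W, hW⟩ ⟨V, hV⟩ hVW
  algebraize [(f.appLE W V hVW).hom]
  have hcomp : f.appLE W V hVW ≫ e.appLE V W hWV = 𝟙 _ := by
    rw [Scheme.Hom.appLE_comp_appLE]
    have key : ∀ (m : S ⟶ S) (h : W ≤ m ⁻¹ᵁ W), m = 𝟙 S → m.appLE W W h = 𝟙 _ := by
      rintro m h rfl
      simp [Scheme.Hom.appLE]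
      exact S.presheaf.map_id _
    exact key _ _ he
  let σ : Γ(X, V) →ₐ[Γ(S, W)] Γ(S, W) :=
    { (e.appLE V W hWV).hom with commutes' := fun a => congr($hcomp a) }
  let p := hW.primeIdealOf ⟨s, hsr⟩
  obtain ⟨R₂, A, g, a, b, v₀, hg, -, ha, hb, hba, hconn, hp, hχ, hσ⟩ :=
    exists_chart Γ(S, W) Γ(X, V) p.asIdeal p.asIdeal.ResidueField ((Algebra.ofId Γ(S, W) _).comp σ)
  obtain ⟨O, hv₀O, hO⟩ := hσ σ fun _ => rfl
  let i := hV.fromSpec
  let k := hW.fromSpec
  have hif : i ≫ f = Spec.map (f.appLE W V hVW) ≫ k := (hW.SpecMap_appLE_fromSpec f hV hVW).symm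
  have hke : Spec.map (CommRingCat.ofHom σ.toRingHom) ≫ i = k ≫ e := hV.SpecMap_appLE_fromSpec e hW hWV
  have hfib : ∀ w, f (i (b w)) = k (g (a w)) := fun w => by
    rw [← Scheme.Hom.comp_apply, hif, Scheme.Hom.comp_apply]
    refine congrArg k ?_
    exact congrArg (fun m : Spec A ⟶ Spec Γ(S, W) => m w) hba
  refine ⟨(b ≫ i) '' (a ⁻¹' O), ?_, ⟨v₀, hv₀O, ?_⟩, ?_⟩
  · exact (hb.comp ⟨inferInstance, inferInstance⟩).isOpenMap _ (O.2.preimage a.continuous)
  · have h1 : b v₀ = Spec.map (CommRingCat.ofHom σ.toRingHom) p := by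
      refine PrimeSpectrum.ext (hχ.trans ?_)
      ext d
      exact Ideal.algebraMap_residueField_eq_zero
    rw [Scheme.Hom.comp_apply, h1, ← Scheme.Hom.comp_apply, hke, Scheme.Hom.comp_apply]
    exact congrArg e (hW.fromSpec_primeIdealOf ⟨s, hsr⟩)
  · rintro _ ⟨w, hw, rfl⟩
    obtain ⟨v, hav, hbv⟩ := hO (a w) hw
    have hev : (b ≫ i) v = e (k (g (a w))) := by
      rw [Scheme.Hom.comp_apply, hbv, ← Scheme.Hom.comp_apply, hke, Scheme.Hom.comp_apply]
    refine subset_sectionComponents f ((hconn (a w)).image _ (b ≫ i).continuous.continuousOn) (s := k (g (a w))) ?_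
      ⟨v, hav, rfl⟩ ?_ ⟨w, rfl, rfl⟩
    · rintro _ ⟨w', hw', rfl⟩
      show f (i (b w')) = _
      rw [hfib, show a w' = a w from hw']
    · rw [hev]
      exact connectedComponentIn_subset_sectionComponents f e _ (mem_connectedComponentIn (hfe _))

/-- The section components of a smooth morphism are open. -/
theorem isOpen_sectionComponents [Smooth f] (e : S ⟶ X) (he : e ≫ f = 𝟙 S) :
    IsOpen (MoreMor.sectionComponents f e) := by
  rw [isOpen_iff_forall_mem_open]
  intro x hx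
  obtain ⟨U, hU, hesU, hUC⟩ := exists_nhd_section f e he (f x)
  obtain ⟨W, hW, hxW, -⟩ := exists_isAffineOpen_mem_and_subset (x := f x) (U := (⊤ : S.Opens)) trivial
  obtain ⟨V, hV, hxV, hVW⟩ := exists_isAffineOpen_mem_and_subset (x := x) (U := f ⁻¹ᵁ W) hxW
  replace hVW : V ≤ f ⁻¹ᵁ W := hVW
  have hsm : (f.appLE W V hVW).hom.Smooth :=
    HasRingHomProperty.appLE (P := @Smooth) f ‹_› ⟨W, hW⟩ ⟨V, hV⟩ hVW
  algebraize [(f.appLE W V hVW).hom]
  let p := hW.primeIdealOf ⟨f x, hxW⟩
  let q := hV.primeIdealOf ⟨x, hxV⟩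
  have hqp : q.asIdeal.comap (algebraMap Γ(S, W) Γ(X, V)) = p.asIdeal :=
    congr($(IsAffineOpen.comap_primeIdealOf_appLE W hW V hV hVW hxV).1)
  let Q₀ : PrimeSpectrum (p.asIdeal.Fiber Γ(X, V)) :=
    PrimeSpectrum.preimageEquivFiber Γ(S, W) Γ(X, V) p ⟨q, PrimeSpectrum.ext hqp⟩
  obtain ⟨Q, hQ, hQle⟩ := Ideal.exists_le_maximal Q₀.asIdeal Q₀.isPrime.ne_top
  let L := p.asIdeal.Fiber Γ(X, V) ⧸ Q
  letI : Field L := Ideal.Quotient.field Q
  haveI : FiniteDimensional p.asIdeal.ResidueField L :=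
    finite_of_finite_type_of_isJacobsonRing p.asIdeal.ResidueField L
  let χ : Γ(X, V) →ₐ[Γ(S, W)] L := (Ideal.Quotient.mkₐ Γ(S, W) Q).comp Algebra.TensorProduct.includeRight
  obtain ⟨R₂, A, g, a, b, v₀, hg, hgq, ha, hb, hba, hconn, hp, hχ, -⟩ :=
    exists_chart Γ(S, W) Γ(X, V) p.asIdeal L χ
  let i := hV.fromSpec
  let k := hW.fromSpec
  have hif : i ≫ f = Spec.map (f.appLE W V hVW) ≫ k := (hW.SpecMap_appLE_fromSpec f hV hVW).symm
  have hfib : ∀ w, f (i (b w)) = k (g (a w)) := fun w => by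
    rw [← Scheme.Hom.comp_apply, hif, Scheme.Hom.comp_apply]
    refine congrArg k ?_
    exact congrArg (fun m : Spec A ⟶ Spec Γ(S, W) => m w) hba
  let y : X := i (b v₀)
  have hpx : k p = f x := hW.fromSpec_primeIdealOf ⟨f x, hxW⟩
  have hgp : g (a v₀) = p := PrimeSpectrum.ext hp
  have hfy : f y = f x := by rw [hfib, hgp, hpx]
  have hxy : x ⤳ y := by
    rw [← show i q = x from hV.fromSpec_primeIdealOf ⟨x, hxV⟩]
    refine Specializes.map ?_ i.continuous
    refine (PrimeSpectrum.le_iff_specializes _ _).1 ?_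
    show q.asIdeal ≤ (b v₀).asIdeal
    rw [hχ]
    intro d hd
    refine Ideal.Quotient.eq_zero_iff_mem.2 (hQle ?_)
    have h := congrArg Subtype.val
      ((PrimeSpectrum.preimageEquivFiber Γ(S, W) Γ(X, V) p).symm_apply_apply ⟨q, PrimeSpectrum.ext hqp⟩)
    exact h.symm.le hd
  have hyC : y ∈ MoreMor.sectionComponents f e :=
    subset_sectionComponents f (T := {x, y})
      (isPreconnected_singleton.subset_closure (Set.singleton_subset_iff.2 (Set.mem_insert x _))
        (Set.insert_subset (subset_closure (Set.mem_singleton x))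
          (Set.singleton_subset_iff.2 (specializes_iff_mem_closure.1 hxy))))
      (s := f x) (Set.insert_subset rfl (Set.singleton_subset_iff.2 hfy)) (Set.mem_insert x _) hx
      (Set.mem_insert_of_mem _ rfl)
  -- the generic point of the component lies over the chosen point
  obtain ⟨η, hηy, hηe, hfη⟩ := exists_common_generization f (mem_component f hyC hfy)
  have hηU : η ∈ U := hηe.mem_open hU hesU
  have hbi : FlatLfp (b ≫ i) := hb.comp ⟨inferInstance, inferInstance⟩
  obtain ⟨_, _⟩ := hbi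
  obtain ⟨v, hvv₀, hv⟩ := Flat.generalizingMap (b ≫ i) (show η ⤳ (b ≫ i) v₀ from hηy)
  have hav : a v = a v₀ := by
    have h1 : a v ⤳ a v₀ := hvv₀.map a.continuous
    have h2 : g (a v) = p := by
      apply k.isOpenEmbedding.injective
      rw [← hfib, hpx, ← hfη, ← hv, Scheme.Hom.comp_apply]
    have hd := g.isDiscrete_preimage_singleton p
    rw [isDiscrete_iff_discreteTopology] at hd
    have h3 : (⟨a v, h2⟩ : ↥(g ⁻¹' {p})) ⤳ ⟨a v₀, hgp⟩ := (subtype_specializes_iff _ _).2 h1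
    exact congrArg Subtype.val h3.eq
  refine ⟨(b ≫ i) '' (a ⁻¹' (a '' ((b ≫ i) ⁻¹' U))), ?_, ?_, ?_⟩
  · rintro _ ⟨w, ⟨w₁, hw₁, hw⟩, rfl⟩
    refine subset_sectionComponents f ((hconn (a w)).image _ (b ≫ i).continuous.continuousOn) (s := k (g (a w))) ?_
      ⟨w₁, hw, rfl⟩ (hUC hw₁) ⟨w, rfl, rfl⟩
    rintro _ ⟨w', hw', rfl⟩
    show f (i (b w')) = _
    rw [hfib, show a w' = a w from hw']
  · exact (b ≫ i).isOpenMap _ ((ha.isOpenMap _ (hU.preimage (b ≫ i).continuous)).preimage a.continuous)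
  · have hy : y ∈ (b ≫ i) '' (a ⁻¹' (a '' ((b ≫ i) ⁻¹' U))) := by
      refine ⟨v₀, ⟨v, ?_, hav⟩, rfl⟩
      show (b ≫ i) v ∈ U
      rw [hv]
      exact hηU
    exact hxy.mem_open ((b ≫ i).isOpenMap _ ((ha.isOpenMap _ (hU.preimage (b ≫ i).continuous)).preimage a.continuous)) hy

end Groth.Agent.SGA7X.SectionOpen
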