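import Groth.Agent.SGA7X.SectionLift
import Groth.Agent.GrpSchLib.FieldComp
import Groth.Prelude.Def_SGA7IX
import Mathlib.AlgebraicGeometry.Noetherian
import Mathlib.Topology.Homeomorph.Lemmas

/-!
Connected components of the closed fibre of a group scheme over a local ring and translations by
sections.
-/

set_option autoImplicit false

universe u

open CategoryTheory Limits AlgebraicGeometry MonoidalCategory CartesianMonoidalCategory MonObj IsLocalRing

namespace Groth.Agent.SGA7X

variable {R : Type u} [CommRing R] [IsLocalRing R] {N : Over (Spec (CommRingCat.of R))}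

/-- The value at the closed point of a section. -/
noncomputable abbrev secPt (x : 𝟙_ (Over (Spec (CommRingCat.of R))) ⟶ N) : N.left :=
  x.left.base (closedPoint R)

theorem secPt_mem (x : 𝟙_ (Over (Spec (CommRingCat.of R))) ⟶ N) : secPt x ∈ SGA7.specialFibreSet R N := by
  show N.hom.base (x.left.base (closedPoint R)) = closedPoint R
  rw [← Scheme.Hom.comp_apply, Over.w x]
  rfl

section Translation

variable [GrpObj N]

/-- Translation on the right by a section, as a homeomorphism. -/
noncomputable def trHomeo (c : 𝟙_ (Over (Spec (CommRingCat.of R))) ⟶ N) : N.left ≃ₜ N.left :=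
  Scheme.homeoOfIso ((Over.forget _).mapIso
    { hom := (𝟙 N * (toUnit N ≫ c) : N ⟶ N)
      inv := (𝟙 N * (toUnit N ≫ c⁻¹) : N ⟶ N)
      hom_inv_id := by
        rw [MonObj.comp_mul, Category.comp_id, ← Category.assoc,
          toUnit_unique (_ ≫ toUnit N) (toUnit N), GrpObj.comp_inv, _root_.mul_inv_cancel_right]
      inv_hom_id := by
        rw [MonObj.comp_mul, Category.comp_id, ← Category.assoc,
          toUnit_unique (_ ≫ toUnit N) (toUnit N), GrpObj.comp_inv, _root_.inv_mul_cancel_right] })

theorem trHomeo_secPt (c x : 𝟙_ (Over (Spec (CommRingCat.of R))) ⟶ N) :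
    trHomeo c (secPt x) = secPt (x * c) := by
  have h : x * c = x ≫ (𝟙 N * (toUnit N ≫ c)) := by
    rw [MonObj.comp_mul, Category.comp_id, ← Category.assoc, toUnit_unique (x ≫ toUnit N) (𝟙 _), Category.id_comp]
  rw [h]
  rfl

theorem hom_trHomeo (c : 𝟙_ (Over (Spec (CommRingCat.of R))) ⟶ N) (z : N.left) :
    N.hom.base (trHomeo c z) = N.hom.base z := by
  show N.hom.base ((𝟙 N * (toUnit N ≫ c) : N ⟶ N).left.base z) = N.hom.base z
  rw [← Scheme.Hom.comp_apply, Over.w]

theorem trHomeo_image_specialFibreSet (c : 𝟙_ (Over (Spec (CommRingCat.of R))) ⟶ N) :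
    trHomeo c '' SGA7.specialFibreSet R N = SGA7.specialFibreSet R N := by
  ext z
  constructor
  · rintro ⟨w, hw, rfl⟩
    exact (hom_trHomeo c w).trans hw
  · intro hz
    refine ⟨(trHomeo c).symm z, ?_, (trHomeo c).apply_symm_apply z⟩
    show N.hom.base _ = _
    rw [← hom_trHomeo c, (trHomeo c).apply_symm_apply]
    exact hz

theorem trHomeo_image_secComp (c x : 𝟙_ (Over (Spec (CommRingCat.of R))) ⟶ N) :
    trHomeo c '' SGA7.secComp R N x = SGA7.secComp R N (x * c) := by
  show trHomeo c '' connectedComponentIn _ (secPt x) = connectedComponentIn _ (secPt (x * c))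
  rw [Homeomorph.image_connectedComponentIn _ (secPt_mem x), trHomeo_image_specialFibreSet, trHomeo_secPt]

theorem secComp_eq_iff_mem (x y : 𝟙_ (Over (Spec (CommRingCat.of R))) ⟶ N) :
    SGA7.secComp R N x = SGA7.secComp R N y ↔ secPt x ∈ SGA7.secComp R N y :=
  ⟨fun h => h ▸ mem_connectedComponentIn (secPt_mem x), fun h => (connectedComponentIn_eq h).symm⟩

theorem secComp_one : SGA7.secComp R N 1 = connectedComponentIn (SGA7.specialFibreSet R N)
    (η[N].left.base (closedPoint R)) := by
  show connectedComponentIn _ (secPt (1 : 𝟙_ _ ⟶ N)) = _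
  rw [← MonObj.one_eq_one]

theorem mem_secUnitComp_iff (x : 𝟙_ (Over (Spec (CommRingCat.of R))) ⟶ N) :
    x ∈ SGA7.secUnitComp R N ↔ SGA7.secComp R N x = SGA7.secComp R N 1 := by
  rw [secComp_eq_iff_mem, secComp_one]
  rfl

theorem secComp_mul_right {x y : 𝟙_ (Over (Spec (CommRingCat.of R))) ⟶ N}
    (h : SGA7.secComp R N x = SGA7.secComp R N y) (c : 𝟙_ (Over (Spec (CommRingCat.of R))) ⟶ N) :
    SGA7.secComp R N (x * c) = SGA7.secComp R N (y * c) := by
  rw [← trHomeo_image_secComp, ← trHomeo_image_secComp, h]

theorem secComp_eq_iff (x y : 𝟙_ (Over (Spec (CommRingCat.of R))) ⟶ N) :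
    SGA7.secComp R N x = SGA7.secComp R N y ↔ x * y⁻¹ ∈ SGA7.secUnitComp R N := by
  rw [mem_secUnitComp_iff]
  refine ⟨fun h => ?_, fun h => ?_⟩
  · have h' := secComp_mul_right h y⁻¹
    rwa [mul_inv_cancel] at h'
  · have h' := secComp_mul_right h y
    rwa [inv_mul_cancel_right, _root_.one_mul] at h'

theorem mul_mem_secUnitComp {x y : 𝟙_ (Over (Spec (CommRingCat.of R))) ⟶ N}
    (hx : x ∈ SGA7.secUnitComp R N) (hy : y ∈ SGA7.secUnitComp R N) : x * y ∈ SGA7.secUnitComp R N := by
  rw [mem_secUnitComp_iff] at hx hy ⊢
  rw [secComp_mul_right hx, _root_.one_mul, hy]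

end Translation

section Field

variable [LocallyOfFiniteType N.hom] [QuasiCompact N.hom]

/-- The closed fibre as a group scheme over the residue field. -/
noncomputable abbrev closedFibre (N : Over (Spec (CommRingCat.of R))) :
    Over (Spec ((Spec (CommRingCat.of R)).residueField (closedPoint R))) :=
  (Over.pullback ((Spec (CommRingCat.of R)).fromSpecResidueField (closedPoint R))).obj N

omit [LocallyOfFiniteType N.hom] [QuasiCompact N.hom] in
theorem range_fiberι : Set.range (N.hom.fiberι (closedPoint R)).base = SGA7.specialFibreSet R N :=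
  Scheme.Hom.range_fiberι N.hom (closedPoint R)

theorem finite_components : (Set.range (SGA7.secComp R N)).Finite := by
  let F := N.hom.fiber (closedPoint R)
  have : LocallyOfFiniteType (N.hom.fiberToSpecResidueField (closedPoint R)) :=
    MorphismProperty.pullback_snd _ _ inferInstance
  have : QuasiCompact (N.hom.fiberToSpecResidueField (closedPoint R)) :=
    MorphismProperty.pullback_snd _ _ inferInstance
  have : IsLocallyNoetherian F :=
    LocallyOfFiniteType.isLocallyNoetherian (N.hom.fiberToSpecResidueField (closedPoint R))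
  have : CompactSpace F :=
    QuasiCompact.compactSpace_of_compactSpace (N.hom.fiberToSpecResidueField (closedPoint R))
  have : IsNoetherian F := {}
  let ι' := (N.hom.fiberι (closedPoint R)).base
  have hfin := finite_irreducibleComponents_of_isNoetherian (X := F)
  refine Set.Finite.subset (hfin.image fun Z => ⋃ z ∈ Z, connectedComponentIn (SGA7.specialFibreSet R N) (ι' z)) ?_
  rintro _ ⟨x, rfl⟩
  obtain ⟨w, hw⟩ : secPt x ∈ Set.range ι' := by
    rw [range_fiberι]; exact secPt_mem x
  refine ⟨irreducibleComponent w, irreducibleComponent_mem_irreducibleComponents w, ?_⟩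
  have hsub : ι' '' irreducibleComponent w ⊆ SGA7.secComp R N x := by
    refine IsPreconnected.subset_connectedComponentIn ?_ ⟨w, mem_irreducibleComponent, hw⟩ ?_
    · exact isIrreducible_irreducibleComponent.isPreirreducible.isPreconnected.image _
        (N.hom.fiberι (closedPoint R)).continuous.continuousOn
    · rw [← range_fiberι]; exact Set.image_subset_range _ _
  refine subset_antisymm (Set.iUnion₂_subset fun z hz => ?_) ?_
  · rw [show SGA7.secComp R N x = connectedComponentIn (SGA7.specialFibreSet R N) (ι' z) from
      connectedComponentIn_eq (hsub ⟨z, hz, rfl⟩)]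
  · intro p hp
    refine Set.mem_iUnion₂.2 ⟨w, mem_irreducibleComponent, ?_⟩
    rw [hw]; exact hp

/-- A connected component of the closed fibre is open in the closed fibre. -/
theorem exists_open_inter_eq_component (x : N.left) (hx : x ∈ SGA7.specialFibreSet R N) :
    ∃ O : N.left.Opens, (O : Set N.left) ∩ SGA7.specialFibreSet R N =
      connectedComponentIn (SGA7.specialFibreSet R N) x := by
  let F := N.hom.fiber (closedPoint R)
  have : LocallyOfFiniteType (N.hom.fiberToSpecResidueField (closedPoint R)) :=
    MorphismProperty.pullback_snd _ _ inferInstance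
  have : QuasiCompact (N.hom.fiberToSpecResidueField (closedPoint R)) :=
    MorphismProperty.pullback_snd _ _ inferInstance
  have : IsLocallyNoetherian F :=
    LocallyOfFiniteType.isLocallyNoetherian (N.hom.fiberToSpecResidueField (closedPoint R))
  have : CompactSpace F :=
    QuasiCompact.compactSpace_of_compactSpace (N.hom.fiberToSpecResidueField (closedPoint R))
  have : IsNoetherian F := {}
  obtain ⟨w, rfl⟩ : x ∈ Set.range (N.hom.fiberι (closedPoint R)).base := by rw [range_fiberι]; exact hx
  have hopen : IsOpen (connectedComponent w) := by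
    have : (connectedComponent w)ᶜ = ⋃₀ {Z ∈ irreducibleComponents F | Disjoint Z (connectedComponent w)} := by
      ext z
      constructor
      · intro hz
        refine ⟨irreducibleComponent z, ⟨irreducibleComponent_mem_irreducibleComponents z, ?_⟩, mem_irreducibleComponent⟩
        refine Set.disjoint_left.2 fun y hy hy' => hz ?_
        have h1 := isIrreducible_irreducibleComponent.isPreirreducible.isPreconnected.subset_connectedComponent hy
          (mem_irreducibleComponent (x := z))
        rwa [← connectedComponent_eq hy'] at h1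
      · rintro ⟨Z, ⟨-, hd⟩, hzZ⟩ hz
        exact Set.disjoint_left.1 hd hzZ hz
    rw [← isClosed_compl_iff, this]
    rw [Set.sUnion_eq_biUnion]
    refine Set.Finite.isClosed_biUnion ((finite_irreducibleComponents_of_isNoetherian (X := F)).subset fun Z h => h.1)
      fun Z h => ?_
    exact isClosed_of_mem_irreducibleComponents Z h.1
  obtain ⟨O, hO, hOw⟩ := (N.hom.fiberι (closedPoint R)).isEmbedding.isInducing.isOpen_iff.1 hopen
  refine ⟨⟨O, hO⟩, ?_⟩
  rw [← range_fiberι]
  show O ∩ _ = _
  rw [← Set.image_preimage_eq_inter_range, hOw, ← connectedComponentIn_univ, ← Set.image_univ]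
  refine subset_antisymm ((N.hom.fiberι (closedPoint R)).continuous.continuousOn.image_connectedComponentIn_subset trivial) ?_
  intro p hp
  have h2 := connectedComponentIn_subset _ _ hp
  obtain ⟨z, -, rfl⟩ := h2
  refine ⟨z, ?_, rfl⟩
  have hpre : _root_.IsPreconnected ((N.hom.fiberι (closedPoint R)).base ⁻¹'
      connectedComponentIn ((N.hom.fiberι (closedPoint R)).base '' Set.univ) ((N.hom.fiberι (closedPoint R)).base w)) := by
    refine (N.hom.fiberι (closedPoint R)).isEmbedding.isInducing.isPreconnected_image.1 ?_
    rw [Set.image_preimage_eq_of_subset (by rw [← Set.image_univ]; exact connectedComponentIn_subset _ _)]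
    exact isPreconnected_connectedComponentIn
  rw [connectedComponentIn_univ]
  exact hpre.subset_connectedComponent (mem_connectedComponentIn ⟨w, trivial, rfl⟩) hp

end Field

/-- Every point of the closed fibre lies on the component of a section, over a strictly henselian base. -/
theorem exists_section_mem_component {R : Type u} [CommRing R] [HenselianLocalRing R]
    [IsSepClosed (ResidueField R)] (N : Over (Spec (CommRingCat.of R))) [Smooth N.hom] [QuasiCompact N.hom]
    (z : N.left) (hz : z ∈ SGA7.specialFibreSet R N) :
    ∃ x : 𝟙_ (Over (Spec (CommRingCat.of R))) ⟶ N, z ∈ SGA7.secComp R N x := by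
  obtain ⟨O, hO⟩ := exists_open_inter_eq_component z hz
  have hzO : z ∈ O := (hO.symm.subset (mem_connectedComponentIn hz)).1
  obtain ⟨s, hs, hsO⟩ := exists_section_of_smooth N.hom O hzO hz
  let x : 𝟙_ (Over (Spec (CommRingCat.of R))) ⟶ N := Over.homMk s hs
  refine ⟨x, ?_⟩
  have hx : secPt x ∈ connectedComponentIn (SGA7.specialFibreSet R N) z := hO.subset ⟨hsO, secPt_mem x⟩
  show z ∈ connectedComponentIn _ (secPt x)
  rw [← connectedComponentIn_eq hx]
  exact mem_connectedComponentIn hz

section Irreducible

variable [GrpObj N]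

/-- The identity component of the closed fibre is irreducible. -/
theorem isIrreducible_secComp_one : IsIrreducible (SGA7.secComp R N 1) := by
  let σ := (Spec (CommRingCat.of R)).fromSpecResidueField (closedPoint R)
  let K := (Spec (CommRingCat.of R)).residueField (closedPoint R)
  let G : Over (Spec (CommRingCat.of (K : Type u))) := closedFibre N
  let : GrpObj G := (Functor.grpObjObj : GrpObj ((Over.pullback σ).obj N))
  let ι' : G.left ⟶ N.left := N.hom.fiberι (closedPoint R)
  let p : G.left := η[G].left.base (closedPoint K)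
  have hp : ι'.base p = secPt (1 : 𝟙_ (Over (Spec (CommRingCat.of R))) ⟶ N) := by
    let q : ((Over.pullback σ).obj (𝟙_ (Over (Spec (CommRingCat.of R))))).left :=
      (pullback.lift σ (𝟙 _) (by exact (Category.comp_id _).trans (Category.id_comp _).symm) :
        Spec K ⟶ pullback (𝟙 (Spec (CommRingCat.of R))) σ).base (closedPoint K)
    have h1 : (Over.pullback σ).map (1 : 𝟙_ (Over (Spec (CommRingCat.of R))) ⟶ N) = 1 :=
      _root_.map_one (Over.pullback σ).homMonoidHom
    have h2 : ((Over.pullback σ).map (1 : 𝟙_ (Over (Spec (CommRingCat.of R))) ⟶ N)).left.base q = p := by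
      rw [h1]
      show (toUnit _ ≫ η[G]).left.base q = _
      exact congrArg η[G].left.base (Subsingleton.elim (α := PrimeSpectrum K) _ _)
    rw [← h2]
    show (((Over.pullback σ).map _).left ≫ pullback.fst N.hom σ).base q = _
    rw [show ((Over.pullback σ).map (1 : 𝟙_ (Over (Spec (CommRingCat.of R))) ⟶ N)).left ≫ pullback.fst N.hom σ =
      pullback.fst (𝟙_ (Over (Spec (CommRingCat.of R)))).hom σ ≫ (1 : 𝟙_ (Over (Spec (CommRingCat.of R))) ⟶ N).left from
        pullback.lift_fst _ _ _]
    rw [Scheme.Hom.comp_apply]
    refine congrArg (1 : 𝟙_ (Over (Spec (CommRingCat.of R))) ⟶ N).left.base ?_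
    show (pullback.fst (𝟙 (Spec (CommRingCat.of R))) σ).base q = closedPoint R
    rw [← Scheme.Hom.comp_apply, pullback.lift_fst]
    exact Scheme.fromSpecResidueField_apply _ _
  obtain ⟨g, hg, hge⟩ := GrpSchLib.exists_isMaxPt p
  have hcc : connectedComponent p = closure {g} := GrpSchLib.connectedComponent_one hg hge
  have hirr : IsIrreducible (connectedComponent p) := hcc ▸ isIrreducible_singleton.closure
  have him : ι'.base '' connectedComponent p = SGA7.secComp R N 1 := by
    have hrange : Set.range ι'.base = SGA7.specialFibreSet R N := Scheme.Hom.range_fiberι N.hom (closedPoint R)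
    show _ = connectedComponentIn _ (secPt (1 : 𝟙_ (Over (Spec (CommRingCat.of R))) ⟶ N))
    rw [← hp, ← hrange]
    refine subset_antisymm ?_ fun z hz => ?_
    · exact (isPreconnected_connectedComponent.image _ ι'.continuous.continuousOn).subset_connectedComponentIn
        ⟨p, mem_connectedComponent, rfl⟩ (Set.image_subset_range _ _)
    · obtain ⟨w, rfl⟩ := connectedComponentIn_subset _ _ hz
      refine ⟨w, ?_, rfl⟩
      have hpre : _root_.IsPreconnected (ι'.base ⁻¹' connectedComponentIn (Set.range ι'.base) (ι'.base p)) := by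
        refine ((N.hom.fiberι (closedPoint R)).isEmbedding.isInducing).isPreconnected_image.1 ?_
        show _root_.IsPreconnected (ι'.base '' (ι'.base ⁻¹' _))
        rw [Set.image_preimage_eq_of_subset (connectedComponentIn_subset _ _)]
        exact isPreconnected_connectedComponentIn
      exact hpre.subset_connectedComponent (mem_connectedComponentIn ⟨p, rfl⟩) hz
  rw [← him]
  exact hirr.image _ ι'.continuous.continuousOn

end Irreducible

end Groth.Agent.SGA7X
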