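import Groth.Prelude.Def_NonAbH2
import Mathlib.AlgebraicGeometry.Sites.Fpqc

/-!
Descent of morphisms along fppf-locally surjective morphisms, and exact sequences of group schemes.
-/

set_option autoImplicit false

universe u

open CategoryTheory Limits AlgebraicGeometry MonoidalCategory CartesianMonoidalCategory MonObj

namespace Groth.Agent.SGA7X.FppfExact

variable {S : Scheme.{u}}

/-- The morphisms to the target along which a lift exists. -/
def liftSieve {F Q : Over S} (w : F ⟶ Q) : Sieve Q.left where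
  arrows W f := ∃ l : W ⟶ F.left, l ≫ w.left = f
  downward_closed := by
    rintro W W' f ⟨l, rfl⟩ g
    exact ⟨g ≫ l, Category.assoc _ _ _⟩

/-- Local surjectivity for the fppf topology. -/
def LocEpi {F Q : Over S} (w : F ⟶ Q) : Prop :=
  liftSieve w ∈ Scheme.fppfTopology Q.left

theorem locEpi_of_isLocallyTrivialFor {F Q : Over S} (w : F ⟶ Q)
    (h : NonAbH1.IsLocallyTrivialFor Scheme.fppfPrecoverage (Over.mk w.left : Over Q.left)) : LocEpi w := by
  obtain ⟨R, hR, hsec⟩ := h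
  refine GrothendieckTopology.superset_covering _ ?_ (Precoverage.generate_mem_toGrothendieck hR)
  exact (Sieve.generate_le_iff _ _).2 fun W f hf => hsec f hf

theorem LocEpi.comp {E F Q : Over S} {a : E ⟶ F} {b : F ⟶ Q} (ha : LocEpi a) (hb : LocEpi b) :
    LocEpi (a ≫ b) := by
  refine GrothendieckTopology.transitive _ hb _ ?_
  rintro W f ⟨l, rfl⟩
  refine GrothendieckTopology.superset_covering _ ?_ (Scheme.fppfTopology.pullback_stable l ha)
  rintro W' g ⟨m, hm⟩
  exact ⟨m, by rw [Over.comp_left, reassoc_of% hm]⟩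

theorem LocEpi.whiskerRight {F Q : Over S} {w : F ⟶ Q} (hw : LocEpi w) (P : Over S) : LocEpi (w ▷ P) := by
  refine GrothendieckTopology.superset_covering _ ?_
    (Scheme.fppfTopology.pullback_stable (fst Q P).left hw)
  rintro W f ⟨l, hl⟩
  let T : Over S := Over.mk (f ≫ (Q ⊗ P).hom)
  let a : T ⟶ F := Over.homMk l (by
    show l ≫ F.hom = f ≫ _
    rw [← Over.w w, ← Category.assoc, hl, Category.assoc, Over.w])
  let t : T ⟶ Q ⊗ P := Over.homMk f
  refine ⟨(lift a (t ≫ snd Q P)).left, ?_⟩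
  have h : lift a (t ≫ snd Q P) ≫ (w ▷ P) = t := by
    rw [lift_whiskerRight]
    refine CartesianMonoidalCategory.hom_ext _ _ ?_ (lift_snd _ _)
    rw [lift_fst]
    exact Over.OverMorphism.ext hl
  exact congrArg CommaMorphism.left h

theorem LocEpi.whiskerLeft {F Q : Over S} {w : F ⟶ Q} (hw : LocEpi w) (P : Over S) : LocEpi (P ◁ w) := by
  refine GrothendieckTopology.superset_covering _ ?_
    (Scheme.fppfTopology.pullback_stable (snd P Q).left hw)
  rintro W f ⟨l, hl⟩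
  let T : Over S := Over.mk (f ≫ (P ⊗ Q).hom)
  let a : T ⟶ F := Over.homMk l (by
    show l ≫ F.hom = f ≫ _
    rw [← Over.w w, ← Category.assoc, hl, Category.assoc, Over.w])
  let t : T ⟶ P ⊗ Q := Over.homMk f
  refine ⟨(lift (t ≫ fst P Q) a).left, ?_⟩
  have h : lift (t ≫ fst P Q) a ≫ (P ◁ w) = t := by
    rw [lift_whiskerLeft]
    refine CartesianMonoidalCategory.hom_ext _ _ (lift_fst _ _) ?_
    rw [lift_snd]
    exact Over.OverMorphism.ext hl
  exact congrArg CommaMorphism.left h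

theorem LocEpi.tensorHom {F Q F' Q' : Over S} {w : F ⟶ Q} {w' : F' ⟶ Q'} (hw : LocEpi w) (hw' : LocEpi w') :
    LocEpi (w ⊗ₘ w') := by
  rw [MonoidalCategory.tensorHom_def]
  exact (hw.whiskerRight F').comp (hw'.whiskerLeft Q)

theorem hom_eq_of_sieve {X Y : Scheme.{u}} (R : Sieve X) (hR : R ∈ Scheme.fppfTopology X) (a b : X ⟶ Y)
    (h : ∀ ⦃W : Scheme.{u}⦄ (f : W ⟶ X), R f → f ≫ a = f ≫ b) : a = b :=
  ((GrothendieckTopology.Subcanonical.isSheaf_of_isRepresentable (yoneda.obj Y)) R hR).isSeparatedFor.ext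
    fun _ f hf => h f hf

theorem LocEpi.cancel {F Q Z : Over S} {w : F ⟶ Q} (hw : LocEpi w) {a b : Q ⟶ Z} (h : w ≫ a = w ≫ b) : a = b := by
  refine Over.OverMorphism.ext (hom_eq_of_sieve _ hw _ _ ?_)
  rintro W _ ⟨l, rfl⟩
  rw [Category.assoc, Category.assoc, ← Over.comp_left, h, Over.comp_left]

/-- Morphisms constant on the fibres of a locally surjective morphism descend. -/
theorem LocEpi.desc {F Q Z : Over S} {w : F ⟶ Q} (hw : LocEpi w) (D : F ⟶ Z)
    (hD : ∀ (T : Over S) (a b : T ⟶ F), a ≫ w = b ≫ w → a ≫ D = b ≫ D) : ∃ c : Q ⟶ Z, w ≫ c = D := by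
  have hsh := (GrothendieckTopology.Subcanonical.isSheaf_of_isRepresentable
    (J := Scheme.fppfTopology) (yoneda.obj Z.left)) _ hw
  have key : ∀ ⦃W : Scheme.{u}⦄ (f : W ⟶ Q.left) (l l' : W ⟶ F.left),
      l ≫ w.left = f → l' ≫ w.left = f → l ≫ D.left = l' ≫ D.left := by
    intro W f l l' hl hl'
    let T : Over S := Over.mk (f ≫ Q.hom)
    let a : T ⟶ F := Over.homMk l (by show l ≫ F.hom = f ≫ Q.hom; rw [← Over.w w, ← Category.assoc, hl])
    let b : T ⟶ F := Over.homMk l' (by show l' ≫ F.hom = f ≫ Q.hom; rw [← Over.w w, ← Category.assoc, hl'])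
    exact congrArg CommaMorphism.left (hD T a b (Over.OverMorphism.ext (hl.trans hl'.symm)))
  let x : Presieve.FamilyOfElements (yoneda.obj Z.left) (liftSieve w).arrows := fun W f hf => hf.choose ≫ D.left
  have hx : x.Compatible := by
    intro W₁ W₂ W g₁ g₂ f₁ f₂ h₁ h₂ hg
    show g₁ ≫ h₁.choose ≫ D.left = g₂ ≫ h₂.choose ≫ D.left
    rw [← Category.assoc, ← Category.assoc]
    exact key (g₁ ≫ f₁) _ _ (by rw [Category.assoc, h₁.choose_spec]) (by rw [Category.assoc, h₂.choose_spec, hg])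
  obtain ⟨c, hc, -⟩ := hsh x hx
  have hcl : ∀ ⦃W : Scheme.{u}⦄ (l : W ⟶ F.left), (l ≫ w.left) ≫ c = l ≫ D.left := fun W l => by
    have hf : liftSieve w (l ≫ w.left) := ⟨l, rfl⟩
    exact (hc _ hf).trans (key (l ≫ w.left) _ _ hf.choose_spec rfl)
  have hcS : c ≫ Z.hom = Q.hom := hom_eq_of_sieve _ hw _ _ (by
    rintro W _ ⟨l, rfl⟩
    rw [← Category.assoc, hcl, Category.assoc, Over.w, Category.assoc, Over.w])
  refine ⟨Over.homMk c hcS, Over.OverMorphism.ext ?_⟩
  show w.left ≫ c = D.left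
  have := hcl (𝟙 F.left)
  rwa [Category.id_comp, Category.id_comp] at this

variable {G E P : Over S} [GrpObj G] [GrpObj E] [GrpObj P] {u : G ⟶ E} {v : E ⟶ P}

theorem whiskerLeft_mu : (E ◁ u) ≫ μ[E] = fst E G * (snd E G ≫ u) := by
  rw [Hom.mul_def]
  congr 1

theorem mono (hex : NonAbH1.IsExactSeq Scheme.fppfPrecoverage u v) {T : Over S} {a b : T ⟶ G}
    (h : a ≫ u = b ≫ u) : a = b := by
  have h' := hex.2.2.2.1.hom_ext (k := lift (1 : T ⟶ E) a) (l := lift 1 b) (by simp)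
    (by simp [whiskerLeft_mu, MonObj.comp_mul, h])
  simpa using congrArg (· ≫ snd _ _) h'

/-- Points with the same image differ by a point of the subgroup. -/
theorem exists_mul_right (hex : NonAbH1.IsExactSeq Scheme.fppfPrecoverage u v) {T : Over S} {x y : T ⟶ E}
    (h : x ≫ v = y ≫ v) : ∃ g : T ⟶ G, y = x * (g ≫ u) := by
  let l := hex.2.2.2.1.lift x y h
  refine ⟨l ≫ snd _ _, ?_⟩
  have h1 : l ≫ fst _ _ = x := hex.2.2.2.1.lift_fst _ _ _
  have h2 : l ≫ (E ◁ u) ≫ μ[E] = y := hex.2.2.2.1.lift_snd _ _ _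
  rw [← h2, whiskerLeft_mu, MonObj.comp_mul, h1, Category.assoc]

/-- Points of the kernel come from the subgroup. -/
theorem exists_ker (hex : NonAbH1.IsExactSeq Scheme.fppfPrecoverage u v) {T : Over S} {y : T ⟶ E}
    (h : y ≫ v = 1) : ∃ g : T ⟶ G, g ≫ u = y := by
  have := hex.2.1
  obtain ⟨g, hg⟩ := exists_mul_right hex (x := (1 : T ⟶ E)) (y := y) (by rw [h, MonObj.one_comp])
  exact ⟨g, by rw [hg, _root_.one_mul]⟩

theorem locEpi (hex : NonAbH1.IsExactSeq Scheme.fppfPrecoverage u v) : LocEpi v :=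
  locEpi_of_isLocallyTrivialFor v hex.2.2.2.2

theorem comp_u_v (hex : NonAbH1.IsExactSeq Scheme.fppfPrecoverage u v) {T : Over S} (g : T ⟶ G) :
    (g ≫ u) ≫ v = 1 := by
  rw [Category.assoc, hex.2.2.1, MonObj.comp_one]

end Groth.Agent.SGA7X.FppfExact
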