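import Groth.Agent.SGA7X.QFHom
import Groth.Agent.AVIsog3.Basic
import Groth.Prelude.Def_SGA7IX
import Mathlib.Topology.KrullDimension

/-!
A homomorphism of Néron models which is quasi-finite on the special fibre is an isogeny generically.
-/

set_option autoImplicit false
set_option backward.isDefEq.respectTransparency.types false

universe u

open CategoryTheory Limits AlgebraicGeometry MonoidalCategory CartesianMonoidalCategory MonObj GrpObj

namespace Groth.Agent.SGA7X.NeronIsogeny

theorem isIsogeny_generic (R K : Type u) [CommRing R] [IsLocalRing R] [Field K] [Algebra R K]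
    (N N' : Over (Spec (CommRingCat.of R))) [GrpObj N] [GrpObj N']
    [LocallyOfFiniteType N.hom]
    [IsProper ((SGA7.genFib R K).obj N).hom] [GeometricallyIntegral ((SGA7.genFib R K).obj N).hom]
    [IsProper ((SGA7.genFib R K).obj N').hom] [GeometricallyIntegral ((SGA7.genFib R K).obj N').hom]
    (hdim : topologicalKrullDim ↥((SGA7.genFib R K).obj N).left = topologicalKrullDim ↥((SGA7.genFib R K).obj N').left)
    (u : N ⟶ N') [IsMonHom u]
    [LocallyQuasiFinite (SGA7.fibreHom (IsLocalRing.closedPoint R) u).left] :
    SGA7.IsIsogenyOver ((SGA7.genFib R K).map u) := by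
  haveI : LocallyOfFiniteType u.left := by
    have : LocallyOfFiniteType (u.left ≫ N'.hom) := by rw [Over.w u]; infer_instance
    exact locallyOfFiniteType_of_comp u.left N'.hom
  let s : Spec (CommRingCat.of R) := IsLocalRing.closedPoint R
  have he : N.hom (η[N].left s) = s := congrArg (fun m : Spec (CommRingCat.of R) ⟶ Spec (CommRingCat.of R) => m s)
    (Over.w η[N])
  have h0 := QFHom.quasiFiniteAt_of_fibre u (IsLocalRing.closedPoint R) (η[N].left s) he
  let g : Spec (CommRingCat.of K) ⟶ Spec (CommRingCat.of R) := Spec.map (CommRingCat.ofHom (algebraMap R K))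
  let uK : (SGA7.genFib R K).obj N ⟶ (SGA7.genFib R K).obj N' := (SGA7.genFib R K).map u
  haveI : IsMonHom uK := inferInstanceAs (IsMonHom ((Over.pullback g).map u))
  haveI : IsProper uK.left := AVIsog3.isProper_left uK
  haveI : LocallyQuasiFinite uK.left := by
    refine QFHom.locallyQuasiFinite_of_qfAt_one uK ?_
    refine QFHom.quasiFiniteAt_of_isPullback (GrpSchLib.IsogenyFibre.fibre_isPullback u g).flip _ ?_
    obtain ⟨m, hm⟩ := QFHom.exists_unit_fst g N
    have h1 : pullback.fst N.hom g (η[(Over.pullback g).obj N].left (IsLocalRing.closedPoint K)) =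
        η[N].left (m (IsLocalRing.closedPoint K)) :=
      congrArg (fun f : Spec (CommRingCat.of K) ⟶ N.left => f (IsLocalRing.closedPoint K)) hm
    show u.left.QuasiFiniteAt (pullback.fst N.hom g _)
    rw [h1]
    exact ((IsLocalRing.specializes_closedPoint _).map η[N].left.continuous).mem_open
      u.left.quasiFiniteLocus.isOpen h0
  haveI : IsFinite uK.left := IsFinite.of_isProper_of_locallyQuasiFinite uK.left
  refine ⟨AVIsog3.surjective_of_isFinite uK hdim, fun M i hi => ?_⟩
  have h2 : IsFinite (toUnit M).left :=
    MorphismProperty.of_isPullback (P := @IsFinite) ((hi : IsPullback _ _ _ _).map (Over.forget _)) ‹IsFinite uK.left›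
  have h3 := Over.w (toUnit M)
  rw [← h3]
  exact (Category.comp_id (toUnit M).left).symm ▸ h2

end Groth.Agent.SGA7X.NeronIsogeny
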