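import Groth.Prelude.Def_SGA7a
import Mathlib

/-!
Galois extensions of degree invertible at a place all of whose automorphisms are inertia.
-/

set_option autoImplicit false
set_option backward.isDefEq.respectTransparency.types false

universe u

open IntermediateField

namespace Groth.Agent.SGA7X.KummerInertia

variable {R K Ω : Type u} [CommRing R] [IsDomain R] [IsDiscreteValuationRing R] [Field K] [Algebra R K]
  [IsFractionRing R K] [Field Ω] [Algebra K Ω] [IsSepClosure K Ω] (W : ValuationSubring Ω)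

instance isGalois_sepClosure : IsGalois K Ω :=
  IsSepClosure.isGalois

omit [IsSepClosure K Ω] in
theorem valuation_map_trichotomy {σ : Ω ≃ₐ[K] Ω} (hσ : SGA7.IsInertia W σ) {x : Ω}
    (hx : W.valuation x < 1) : W.valuation (σ x) < 1 := by
  have hxW : x ∈ W := (W.valuation_le_one_iff x).1 hx.le
  have h := (hσ x hxW).2
  rw [show σ x = (σ x - x) + x by ring]
  exact lt_of_le_of_lt (W.valuation.map_add _ _) (max_lt h hx)

/-- Automorphisms preserving positivity preserve the valuation. -/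
theorem valuation_map_of_preserves
    (hP : ∀ (σ : Ω ≃ₐ[K] Ω) (x : Ω), W.valuation x < 1 → W.valuation (σ x) < 1) (σ : Ω ≃ₐ[K] Ω) (x : Ω) :
    W.valuation (σ x) = W.valuation x := by
  classical
  rcases eq_or_ne x 0 with rfl | hx
  · rw [map_zero σ]
  obtain ⟨N, hN, hNx⟩ : ∃ N, 0 < N ∧ (σ ^ N) x = x := by
    have : IsIntegral K x := Algebra.IsIntegral.isIntegral x
    have hfin : (MulAction.orbit (Ω ≃ₐ[K] Ω) x).Finite := by
      refine (((minpoly K x).map (algebraMap K Ω)).roots.toFinset.finite_toSet).subset ?_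
      rintro _ ⟨τ, rfl⟩
      simp only [Finset.mem_coe, Multiset.mem_toFinset, Polynomial.mem_roots',
        Polynomial.map_ne_zero_iff (algebraMap K Ω).injective, minpoly.ne_zero this, ne_eq, not_false_iff,
        true_and, Polynomial.IsRoot, Polynomial.eval_map, AlgEquiv.smul_def]
      rw [← Polynomial.aeval_def]
      exact (Polynomial.aeval_algHom_apply (τ : Ω →ₐ[K] Ω) x _).trans (by rw [minpoly.aeval, map_zero])
    obtain ⟨a, b, hab, he⟩ := Set.Finite.exists_lt_map_eq_of_forall_mem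
      (f := fun n : ℕ => (σ ^ n) • x) (t := MulAction.orbit (Ω ≃ₐ[K] Ω) x) (fun n => MulAction.mem_orbit _ _) hfin
    refine ⟨b - a, by omega, ?_⟩
    have h := congrArg (fun y => ((σ ^ a)⁻¹ : Ω ≃ₐ[K] Ω) • y) he
    simp only [← mul_smul, inv_mul_cancel, one_smul] at h
    rw [show σ ^ (b - a) = (σ ^ a)⁻¹ * σ ^ b by
      rw [eq_inv_mul_iff_mul_eq, ← pow_add, show a + (b - a) = b by omega]]
    exact h.symm
  set w := σ x / x with hw
  have hprod : ∀ n : ℕ, (σ ^ n) x = x * ∏ k ∈ Finset.range n, (σ ^ k) w := by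
    intro n
    induction n with
    | zero => simp
    | succ n ih =>
      rw [Finset.prod_range_succ, ← mul_assoc, ← ih, ← map_mul, hw, mul_div_cancel₀ _ hx, pow_succ]
      rfl
  have hone : ∏ k ∈ Finset.range N, (σ ^ k) w = 1 := by
    have h := hprod N
    rw [hNx] at h
    exact mul_left_cancel₀ hx (by rw [mul_one]; exact h.symm)
  have hw0 : w ≠ 0 := div_ne_zero (by simpa using hx) hx
  rcases lt_trichotomy (W.valuation w) 1 with h | h | h
  · exfalso
    have h2 : W.valuation (∏ k ∈ Finset.range N, (σ ^ k) w) < 1 := by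
      obtain ⟨m, rfl⟩ : ∃ m, N = m + 1 := ⟨N - 1, by omega⟩
      rw [map_prod, Finset.prod_range_succ]
      exact mul_lt_one_of_nonneg_of_lt_one_right
        (Finset.prod_le_one' fun k _ => (hP (σ ^ k) _ h).le) zero_le
        (hP (σ ^ m) _ h)
    rw [hone, map_one] at h2
    exact lt_irrefl _ h2
  · rw [hw, map_div₀] at h
    exact eq_of_div_eq_one h
  · exfalso
    have h' : W.valuation w⁻¹ < 1 := by rw [map_inv₀]; exact inv_lt_one_of_one_lt₀ h
    have h2 : W.valuation (∏ k ∈ Finset.range N, (σ ^ k) w⁻¹) < 1 := by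
      obtain ⟨m, rfl⟩ : ∃ m, N = m + 1 := ⟨N - 1, by omega⟩
      rw [map_prod, Finset.prod_range_succ]
      exact mul_lt_one_of_nonneg_of_lt_one_right
        (Finset.prod_le_one' fun k _ => (hP (σ ^ k) _ h').le) zero_le
        (hP (σ ^ m) _ h')
    rw [show (∏ k ∈ Finset.range N, (σ ^ k) w⁻¹) = (∏ k ∈ Finset.range N, (σ ^ k) w)⁻¹ by
      rw [← Finset.prod_inv_distrib]; simp, hone, inv_one, map_one] at h2
    exact lt_irrefl _ h2

/-- Inertia preserves the valuation. -/
theorem valuation_map (hI : ∀ σ : Ω ≃ₐ[K] Ω, SGA7.IsInertia W σ) (σ : Ω ≃ₐ[K] Ω) (x : Ω) :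
    W.valuation (σ x) = W.valuation x :=
  valuation_map_of_preserves W (fun τ _ h => valuation_map_trichotomy W (hI τ) h) σ x

variable (hW : SGA7.LiesOver K R W)

include hW in
theorem valuation_unit (u : Rˣ) : W.valuation (algebraMap K Ω (algebraMap R K (u : R))) = 1 := by
  refine le_antisymm ((W.valuation_le_one_iff _).2 (hW.1 _)) ?_
  have h := (W.valuation_le_one_iff _).2 (hW.1 ((u⁻¹ : Rˣ) : R))
  by_contra hlt
  push Not at hlt
  have h2 := mul_lt_one_of_nonneg_of_lt_one_right h zero_le hlt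
  rw [← map_mul, ← map_mul, ← map_mul, Units.inv_mul, map_one, map_one, map_one] at h2
  exact lt_irrefl _ h2

omit [IsDomain R] [IsDiscreteValuationRing R] [IsFractionRing R K] [IsSepClosure K Ω] in
/-- A root of unity of order invertible at the place which is congruent to `1` is `1`. -/
theorem eq_one_of_valuation_lt {r : ℕ} (hr : W.valuation (r : Ω) = 1) {ζ : Ω} (hζ : ζ ^ r = 1)
    (h : W.valuation (ζ - 1) < 1) : ζ = 1 := by
  by_contra hne
  have hr0 : r ≠ 0 := fun h0 => by rw [h0, Nat.cast_zero, map_zero] at hr; exact zero_ne_one hr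
  have hW1 : ζ ∈ W := by
    refine (W.valuation_le_one_iff _).1 ?_
    rw [show ζ = (ζ - 1) + 1 by ring]
    exact le_trans (W.valuation.map_add _ _) (max_le h.le (by rw [map_one]))
  have hs : ∑ k ∈ Finset.range r, ζ ^ k = 0 := by
    have := geom_sum_mul ζ r
    rw [hζ, sub_self] at this
    exact (mul_eq_zero.1 this).resolve_right (sub_ne_zero.2 hne)
  have hd : ∀ k : ℕ, W.valuation (ζ ^ k - 1) < 1 := fun k => by
    rw [← geom_sum_mul, map_mul]
    exact mul_lt_one_of_nonneg_of_lt_one_right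
      ((W.valuation_le_one_iff _).2 (sum_mem fun i _ => pow_mem hW1 i)) zero_le h
  have : W.valuation (∑ k ∈ Finset.range r, (ζ ^ k - 1)) < 1 :=
    W.valuation.map_sum_lt one_ne_zero fun k _ => hd k
  rw [Finset.sum_sub_distrib, hs, Finset.sum_const, Finset.card_range, nsmul_one, zero_sub,
    Valuation.map_neg, hr] at this
  exact lt_irrefl _ this

include hW in
theorem valuation_natCast {r : ℕ} (hrk : (r : IsLocalRing.ResidueField R) ≠ 0) : W.valuation (r : Ω) = 1 := by
  have hu : IsUnit (r : R) := by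
    rw [← IsLocalRing.residue_ne_zero_iff_isUnit, map_natCast]
    exact hrk
  have h := valuation_unit W hW hu.unit
  rwa [IsUnit.unit_spec, map_natCast, map_natCast] at h

include hW in
/-- An inertia automorphism fixes the roots of unity of order invertible at the place. -/
theorem map_root_of_unity_of_isInertia {r : ℕ} (hrk : (r : IsLocalRing.ResidueField R) ≠ 0)
    {σ : Ω ≃ₐ[K] Ω} (hσ : SGA7.IsInertia W σ) {ζ : Ω} (hζ : ζ ^ r = 1) : σ ζ = ζ := by
  have hr := valuation_natCast W hW hrk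
  have hr0 : r ≠ 0 := fun h0 => hrk (by rw [h0, Nat.cast_zero])
  have h0 : ζ ≠ 0 := fun h => by rw [h, zero_pow hr0] at hζ; exact zero_ne_one hζ
  have hv : W.valuation ζ = 1 := by
    have h1 : W.valuation ζ ^ r = 1 := by rw [← map_pow, hζ, map_one]
    exact (pow_eq_one_iff.1 h1).resolve_right hr0
  have h2 : σ ζ / ζ = 1 := by
    refine eq_one_of_valuation_lt W hr (by rw [div_pow, ← map_pow, hζ, map_one, div_one]) ?_
    rw [div_sub_one h0, map_div₀, hv, div_one]
    exact (hσ ζ ((W.valuation_le_one_iff _).1 hv.le)).2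
  exact eq_of_div_eq_one h2

include hW in
/-- The automorphism fixes the roots of unity of order invertible at the place. -/
theorem map_root_of_unity {r : ℕ} (hrk : (r : IsLocalRing.ResidueField R) ≠ 0)
    (hI : ∀ σ : Ω ≃ₐ[K] Ω, SGA7.IsInertia W σ) (σ : Ω ≃ₐ[K] Ω) {ζ : Ω} (hζ : ζ ^ r = 1) : σ ζ = ζ :=
  map_root_of_unity_of_isInertia W hW hrk (hI σ) hζ

include hW in
/-- An automorphism fixing an `r`-th root of a uniformiser fixes every Galois extension of degree `r`. -/
theorem fixes_of_degree {r : ℕ} (hr : 0 < r) (hrk : (r : IsLocalRing.ResidueField R) ≠ 0)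
    (hI : ∀ σ : Ω ≃ₐ[K] Ω, SGA7.IsInertia W σ) {π : R} (hπ : Irreducible π) {y : Ω}
    (hy : y ^ r = algebraMap K Ω (algebraMap R K π)) (L : IntermediateField K Ω)
    (hL : Module.finrank K L = r) [IsGalois K L] (σ : Ω ≃ₐ[K] Ω) (hσ : σ y = y) :
    ∀ x ∈ L, σ x = x := by
  have : FiniteDimensional K L := FiniteDimensional.of_finrank_pos (hL ▸ hr)
  let s : L ≃ₐ[K] L := AlgEquiv.restrictNormal σ L
  have hs : ∀ a : L, ((s a : L) : Ω) = σ a := fun a => AlgEquiv.restrictNormal_commutes σ L a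
  suffices h1 : s = 1 by
    intro x hx
    have := hs ⟨x, hx⟩
    rw [h1] at this
    exact this.symm
  by_contra hne
  have hd : s ^ r = 1 := by
    rw [← hL, ← IsGalois.card_aut_eq_finrank]
    exact pow_card_eq_one'
  let d := orderOf s
  have hdr : d ∣ r := orderOf_dvd_of_pow_eq_one hd
  have hdpos : 0 < d := orderOf_pos s
  have hd1 : d ≠ 1 := fun h => hne (orderOf_eq_one_iff.1 h)
  -- a primitive root of unity
  have hdne : (d : Ω) ≠ 0 := by
    have hv := valuation_natCast W hW hrk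
    obtain ⟨c, hc⟩ := hdr
    intro h
    rw [hc, Nat.cast_mul, h, zero_mul, map_zero] at hv
    exact zero_ne_one hv
  have : IsSepClosed Ω := IsSepClosure.sep_closed K
  have : NeZero (d : Ω) := ⟨hdne⟩
  obtain ⟨ζ, hζ⟩ := HasEnoughRootsOfUnity.exists_primitiveRoot Ω d
  have hζr : ζ ^ r = 1 := by
    obtain ⟨c, hc⟩ := hdr
    rw [hc, pow_mul, hζ.pow_eq_one, one_pow]
  obtain ⟨ζK, hζK⟩ := (InfiniteGalois.mem_range_algebraMap_iff_fixed ζ).2
    fun τ => map_root_of_unity W hW hrk hI τ hζr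
  let ζL : L := algebraMap K L ζK
  have hζL : ((ζL : L) : Ω) = ζ := hζK
  -- the Lagrange resolvent
  have hlin : LinearIndependent L (fun i : Fin d => (((s ^ (i : ℕ)) : L ≃ₐ[K] L) : L → L)) := by
    refine (linearIndependent_monoidHom L L).comp
      (fun i : Fin d => (((s ^ (i : ℕ)) : L ≃ₐ[K] L).toAlgHom.toRingHom.toMonoidHom : L →* L)) fun i j hij => ?_
    have h : s ^ (i : ℕ) = s ^ (j : ℕ) := AlgEquiv.ext fun a => congrArg (fun f : L →* L => f a) hij
    exact Fin.ext (pow_injOn_Iio_orderOf (Set.mem_Iio.2 i.2) (Set.mem_Iio.2 j.2) h)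
  obtain ⟨a, ha⟩ : ∃ a : L, ∑ i : Fin d, ζL ^ (d - (i : ℕ)) * (s ^ (i : ℕ)) a ≠ 0 := by
    by_contra h
    push Not at h
    have := Fintype.linearIndependent_iff.1 hlin (fun i => ζL ^ (d - (i : ℕ))) (funext fun a => by
      simpa [Finset.sum_apply] using h a) ⟨0, hdpos⟩
    refine pow_ne_zero _ ?_ this
    intro h0
    have : (ζ : Ω) = 0 := by rw [← hζL, h0]; rfl
    exact hζ.ne_zero hdpos.ne' this
  set z : L := ∑ i : Fin d, ζL ^ (d - (i : ℕ)) * (s ^ (i : ℕ)) a with hzdef
  have hsz : s z = ζL * z := by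
    let f : ℕ → L := fun i => ζL ^ (d - i) * (s ^ i) a
    have hz : z = ∑ i ∈ Finset.range d, f i := by
      rw [hzdef]; exact Fin.sum_univ_eq_sum_range f d
    have hsd : s ^ d = 1 := pow_orderOf_eq_one s
    have hζd : ζL ^ d = 1 := Subtype.ext (by push_cast; rw [hζL, hζ.pow_eq_one])
    have hf : ∀ i < d, s (f i) = ζL * f (i + 1) := fun i hi => by
      show s (ζL ^ (d - i) * (s ^ i) a) = _
      rw [map_mul, map_pow, AlgEquiv.commutes, ← AlgEquiv.mul_apply, ← pow_succ', ← mul_assoc, ← pow_succ',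
        show d - (i + 1) + 1 = d - i by omega]
    rw [hz, map_sum, Finset.mul_sum, Finset.sum_congr rfl fun i hi => hf i (Finset.mem_range.1 hi),
      ← Finset.mul_sum, ← Finset.mul_sum]
    congr 1
    have h1 := Finset.sum_range_succ f d
    have h2 := Finset.sum_range_succ' f d
    have h3 : f d = f 0 := by
      show ζL ^ (d - d) * (s ^ d) a = ζL ^ (d - 0) * (s ^ 0) a
      rw [hsd, Nat.sub_self, Nat.sub_zero, hζd, pow_zero, pow_zero]
    rw [h1, h3] at h2
    exact (add_right_cancel h2).symm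
  -- valuation of the resolvent
  obtain ⟨n, u, hnu⟩ : ∃ (n : ℤ) (u : Rˣ),
      Algebra.norm K z = algebraMap R K π ^ n * algebraMap R K (u : R) := by
    obtain ⟨p, q, hq, hpq⟩ := IsFractionRing.div_surjective (A := R) (Algebra.norm K z)
    have hp : p ≠ 0 := fun h => by
      rw [h, map_zero, zero_div] at hpq
      exact ha (Algebra.norm_eq_zero_iff.1 hpq.symm)
    obtain ⟨i, up, rfl⟩ := IsDiscreteValuationRing.eq_unit_mul_pow_irreducible hp hπ
    obtain ⟨j, uq, rfl⟩ := IsDiscreteValuationRing.eq_unit_mul_pow_irreducible (nonZeroDivisors.ne_zero hq) hπ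
    refine ⟨(i : ℤ) - j, up * uq⁻¹, ?_⟩
    have hπ0 : algebraMap R K π ≠ 0 := (IsFractionRing.injective R K).ne_iff' (map_zero _) |>.2 hπ.ne_zero
    rw [← hpq, zpow_sub₀ hπ0, zpow_natCast, zpow_natCast, Units.val_mul, map_mul, map_mul, map_pow, map_mul,
      map_pow]
    have hu : algebraMap R K ((uq⁻¹ : Rˣ) : R) = (algebraMap R K (uq : R))⁻¹ :=
      eq_inv_of_mul_eq_one_left (by rw [← map_mul, Units.inv_mul, map_one])
    rw [hu]
    field_simp
  have hvz : W.valuation (z : Ω) = W.valuation y ^ n := by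
    have h := congrArg (fun c => W.valuation (algebraMap K Ω c)) hnu
    rw [map_mul, map_mul, map_zpow₀, map_zpow₀, valuation_unit W hW, mul_one, ← hy, map_pow] at h
    have hN : algebraMap K Ω (Algebra.norm K z) = ∏ τ : L ≃ₐ[K] L, ((τ z : L) : Ω) := by
      rw [IsScalarTower.algebraMap_apply K L Ω, Algebra.norm_eq_prod_automorphisms, map_prod]
      rfl
    rw [hN, map_prod, Finset.prod_congr rfl (fun τ _ => ?_ : ∀ τ ∈ (Finset.univ : Finset (L ≃ₐ[K] L)),
      W.valuation ((τ z : L) : Ω) = W.valuation (z : Ω))] at h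
    · rw [Finset.prod_const, Finset.card_univ, ← Nat.card_eq_fintype_card, IsGalois.card_aut_eq_finrank, hL,
        ← zpow_natCast, ← zpow_natCast, ← zpow_mul, mul_comm, zpow_mul, zpow_natCast, zpow_natCast] at h
      exact (pow_left_inj₀ zero_le zero_le hr.ne').1 h
    · obtain ⟨τ', hτ'⟩ := AlgEquiv.restrictNormalHom_surjective (F := K) (E := Ω) (K₁ := L) τ
      have h2 : ((τ z : L) : Ω) = τ' z := by
        rw [← hτ']
        exact AlgEquiv.restrictNormal_commutes τ' L z
      rw [h2]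
      exact valuation_map W hI τ' z
  have hy0 : y ≠ 0 := fun h => by
    rw [h, zero_pow hr.ne'] at hy
    exact hπ.ne_zero ((IsFractionRing.injective R K) ((algebraMap K Ω).injective (by rw [map_zero, map_zero, ← hy])))
  set w : Ω := (z : Ω) / y ^ n with hwdef
  have hyn : y ^ n ≠ 0 := zpow_ne_zero n hy0
  have hw1 : W.valuation w = 1 := by
    rw [hwdef, map_div₀, map_zpow₀, hvz, div_self (zpow_ne_zero n ((W.valuation.ne_zero_iff).2 hy0))]
  have hσw : σ w = ζ * w := by
    rw [hwdef, map_div₀, map_zpow₀, hσ, ← hs, hsz, MulMemClass.coe_mul, hζL, mul_div_assoc]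
  have hζ1 : W.valuation (ζ - 1) < 1 := by
    have h := (hI σ w ((W.valuation_le_one_iff _).1 hw1.le)).2
    rwa [hσw, ← sub_one_mul, map_mul, hw1, mul_one] at h
  refine hζ.ne_one (Nat.one_lt_iff_ne_zero_and_ne_one.2 ⟨hdpos.ne', hd1⟩) ?_
  refine eq_one_of_valuation_lt W (r := r) (valuation_natCast W hW hrk) hζr hζ1

end Groth.Agent.SGA7X.KummerInertia
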