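import Mathlib.RingTheory.MvPowerSeries.Derivative
import Mathlib.RingTheory.MvPowerSeries.Order
import Mathlib.RingTheory.MvPowerSeries.Inverse
import Mathlib.RingTheory.LocalRing.MaximalIdeal.Basic
import Mathlib.RingTheory.MvPowerSeries.Substitution
import Mathlib.RingTheory.MvPolynomial.Homogeneous
import Mathlib.LinearAlgebra.Matrix.NonsingularInverse

/-!
The formal Morse lemma over an arbitrary field.
-/

set_option autoImplicit false

open MvPowerSeries

namespace Groth.Agent.SGA7X.FormalMorse

variable {k : Type} [Field k] {n : ℕ}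

/-- All coefficients of degree less than `N` vanish. -/
def Ord (N : ℕ) (g : MvPowerSeries (Fin n) k) : Prop := ∀ m : Fin n →₀ ℕ, m.degree < N → coeff m g = 0

theorem ord_mul {a b : ℕ} {f g : MvPowerSeries (Fin n) k} (hf : Ord a f) (hg : Ord b g) : Ord (a + b) (f * g) := by
  classical
  intro m hm
  rw [coeff_mul]
  refine Finset.sum_eq_zero fun p hp => ?_
  rw [Finset.HasAntidiagonal.mem_antidiagonal] at hp
  rw [← hp, map_add] at hm
  rcases lt_or_ge p.1.degree a with h | h
  · rw [hf _ h, zero_mul]
  · rw [hg _ (by omega), mul_zero]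

theorem ord_mono {a b : ℕ} (hab : a ≤ b) {f : MvPowerSeries (Fin n) k} (hf : Ord b f) : Ord a f :=
  fun m hm => hf m (lt_of_lt_of_le hm hab)

theorem ord_add {a : ℕ} {f g : MvPowerSeries (Fin n) k} (hf : Ord a f) (hg : Ord a g) : Ord a (f + g) :=
  fun m hm => by rw [map_add, hf m hm, hg m hm, add_zero]

theorem ord_neg {a : ℕ} {f : MvPowerSeries (Fin n) k} (hf : Ord a f) : Ord a (-f) :=
  fun m hm => by rw [map_neg, hf m hm, neg_zero]

theorem ord_sub {a : ℕ} {f g : MvPowerSeries (Fin n) k} (hf : Ord a f) (hg : Ord a g) : Ord a (f - g) := by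
  rw [sub_eq_add_neg]; exact ord_add hf (ord_neg hg)

theorem ord_zero {a : ℕ} : Ord a (0 : MvPowerSeries (Fin n) k) := fun _ _ => map_zero _

theorem ord_sum {a : ℕ} {ι : Type} (s : Finset ι) {f : ι → MvPowerSeries (Fin n) k} (h : ∀ i ∈ s, Ord a (f i)) :
    Ord a (∑ i ∈ s, f i) := fun m hm => by
  rw [map_sum]; exact Finset.sum_eq_zero fun i hi => h i hi m hm

theorem ord_C_mul {a : ℕ} (c : k) {f : MvPowerSeries (Fin n) k} (hf : Ord a f) : Ord a (C c * f) :=
  fun m hm => by rw [coeff_C_mul, hf m hm, mul_zero]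

theorem ord_one_X (i : Fin n) : Ord 1 (X i : MvPowerSeries (Fin n) k) := by
  classical
  intro m hm
  rw [coeff_X, if_neg]
  rintro rfl
  simp at hm

/-- Dividing by the variables. -/
noncomputable def part (g : MvPowerSeries (Fin n) k) (i : Fin n) : MvPowerSeries (Fin n) k :=
  fun m => if ∀ j < i, m j = 0 then coeff (m + Finsupp.single i 1) g else 0

theorem coeff_part (g : MvPowerSeries (Fin n) k) (i : Fin n) (m : Fin n →₀ ℕ) :
    coeff m (part g i) = if ∀ j < i, m j = 0 then coeff (m + Finsupp.single i 1) g else 0 := rfl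

theorem ord_part {N : ℕ} {g : MvPowerSeries (Fin n) k} (hg : Ord (N + 1) g) (i : Fin n) : Ord N (part g i) := by
  intro m hm
  rw [coeff_part]
  split_ifs
  · exact hg _ (by rw [map_add, Finsupp.degree_single]; omega)
  · rfl

theorem sum_part {g : MvPowerSeries (Fin n) k} (hg : Ord 1 g) : g = ∑ i, X i * part g i := by
  classical
  ext m
  rw [map_sum]
  have key : ∀ i, coeff m (X i * part g i) =
      if m i ≠ 0 ∧ ∀ j < i, m j = 0 then coeff m g else 0 := by
    intro i
    rw [X_def, coeff_monomial_mul, one_mul]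
    by_cases hmi : Finsupp.single i 1 ≤ m
    · have hi : m i ≠ 0 := by
        have := hmi i
        simp at this
        omega
      rw [if_pos hmi, coeff_part]
      have h1 : (∀ j < i, (m - Finsupp.single i 1 : Fin n →₀ ℕ) j = 0) ↔ (∀ j < i, m j = 0) := by
        refine forall₂_congr fun j hj => ?_
        simp [Finsupp.single_eq_of_ne (ne_of_lt hj)]
      simp only [h1, hi, ne_eq, not_false_eq_true, true_and]
      rw [tsub_add_cancel_of_le hmi]
    · have hi : m i = 0 := by
        by_contra h
        exact hmi (Finsupp.single_le_iff.2 (Nat.one_le_iff_ne_zero.2 h))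
      rw [if_neg hmi, if_neg (fun h => h.1 hi)]
  simp only [key]
  by_cases hm : m = 0
  · subst hm
    rw [hg 0 (by simp)]
    simp
  · obtain ⟨i₀, hi₀, hmin⟩ : ∃ i₀, m i₀ ≠ 0 ∧ ∀ j < i₀, m j = 0 := by
      have hne : (Finset.univ.filter fun i => m i ≠ 0).Nonempty := by
        by_contra h
        refine hm (Finsupp.ext fun i => ?_)
        by_contra hi
        exact h ⟨i, by simpa using hi⟩
      refine ⟨(Finset.univ.filter fun i => m i ≠ 0).min' hne,
        (Finset.mem_filter.1 ((Finset.univ.filter fun i => m i ≠ 0).min'_mem hne)).2, fun j hj => ?_⟩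
      by_contra h
      exact not_lt.2 (Finset.min'_le _ j (by simp [h])) hj
    rw [Finset.sum_eq_single i₀]
    · rw [if_pos ⟨hi₀, hmin⟩]
    · intro i _ hne
      rw [if_neg]
      rintro ⟨h1, h2⟩
      rcases lt_or_gt_of_ne hne with h | h
      · exact h1 (hmin i h)
      · exact hi₀ (h2 i₀ h)
    · simp

section

variable (c : Fin n → Fin n → k)

/-- The quadratic form attached to a matrix. -/
noncomputable def quad (y : Fin n → MvPowerSeries (Fin n) k) : MvPowerSeries (Fin n) k :=
  ∑ i, ∑ j, C (c i j) * (y i * y j)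

theorem quad_add (y δ : Fin n → MvPowerSeries (Fin n) k) :
    quad c (fun i => y i + δ i) = quad c y + (∑ i, y i * ∑ j, C (c i j + c j i) * δ j) + quad c δ := by
  simp only [quad, map_add, add_mul, mul_add, Finset.sum_add_distrib, Finset.mul_sum]
  have h : ∀ a : Fin n → Fin n → MvPowerSeries (Fin n) k, ∑ i, ∑ j, a i j = ∑ i, ∑ j, a j i :=
    fun a => Finset.sum_comm
  rw [h (fun i j => C (c i j) * (δ i * y j))]
  have e1 : ∀ i j, y i * (C (c i j) * δ j) = C (c i j) * (y i * δ j) := fun i j => by ring
  have e2 : ∀ i j, y i * (C (c j i) * δ j) = C (c j i) * (δ j * y i) := fun i j => by ring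
  simp only [e1, e2]
  abel

theorem step (hB : IsUnit (Matrix.of fun i j => c i j + c j i).det) (f : MvPowerSeries (Fin n) k)
    (ε : Fin n → MvPowerSeries (Fin n) k) (N : ℕ) (hε : ∀ i, Ord 2 (ε i))
    (hf : Ord (N + 3) (f - quad c fun i => X i + ε i)) :
    ∃ δ : Fin n → MvPowerSeries (Fin n) k, (∀ i, Ord (N + 2) (δ i)) ∧
      Ord (N + 4) (f - quad c fun i => X i + (ε i + δ i)) := by
  classical
  set E := f - quad c fun i => X i + ε i with hE
  let B : Matrix (Fin n) (Fin n) k := Matrix.of fun i j => c i j + c j i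
  let δ : Fin n → MvPowerSeries (Fin n) k := fun j => ∑ l, C (B⁻¹ j l) * part E l
  have hδ : ∀ j, Ord (N + 2) (δ j) := fun j => ord_sum _ fun l _ => ord_C_mul _ (ord_part hf l)
  refine ⟨δ, hδ, ?_⟩
  have hBδ : ∀ i, ∑ j, C (c i j + c j i) * δ j = part E i := by
    intro i
    simp only [δ, Finset.mul_sum, ← mul_assoc, ← map_mul]
    rw [Finset.sum_comm]
    simp only [← Finset.sum_mul, ← map_sum]
    have h : ∀ l, ∑ j, (c i j + c j i) * B⁻¹ j l = (1 : Matrix (Fin n) (Fin n) k) i l := fun l => by
      rw [← Matrix.mul_nonsing_inv B hB]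
      rfl
    simp only [h, Matrix.one_apply]
    rw [Finset.sum_eq_single i]
    · simp
    · intro l _ hl; simp [Ne.symm hl]
    · simp
  have e : (fun i => X i + (ε i + δ i)) = fun i => (X i + ε i) + δ i := funext fun i => (add_assoc _ _ _).symm
  rw [e, quad_add]
  simp only [hBδ]
  have hX : ∑ i, (X i + ε i) * part E i = E + ∑ i, ε i * part E i := by
    simp only [add_mul, Finset.sum_add_distrib]
    rw [← sum_part (ord_mono (by omega) hf)]
  rw [hX]
  have : f - (quad c (fun i => X i + ε i) + (E + ∑ i, ε i * part E i) + quad c δ) =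
      -(∑ i, ε i * part E i) - quad c δ := by rw [hE]; ring
  rw [this]
  refine ord_sub (ord_neg (ord_sum _ fun i _ => ord_mono (by omega) (ord_mul (hε i) (ord_part hf i)))) ?_
  exact ord_sum _ fun i _ => ord_sum _ fun j _ => ord_C_mul _ (ord_mono (by omega) (ord_mul (hδ i) (hδ j)))

theorem ord_quad_sub {a : ℕ} {y z : Fin n → MvPowerSeries (Fin n) k} (hy : ∀ i, Ord 1 (y i))
    (hz : ∀ i, Ord 1 (z i)) (h : ∀ i, Ord a (y i - z i)) : Ord (a + 1) (quad c y - quad c z) := by
  simp only [quad, ← Finset.sum_sub_distrib]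
  refine ord_sum _ fun i _ => ord_sum _ fun j _ => ?_
  rw [← mul_sub, show y i * y j - z i * z j = (y i - z i) * y j + z i * (y j - z j) by ring]
  refine ord_C_mul _ (ord_add (ord_mul (h i) (hy j)) ?_)
  rw [add_comm a 1]
  exact ord_mul (hz i) (h j)

theorem exists_solution (hB : IsUnit (Matrix.of fun i j => c i j + c j i).det) (f : MvPowerSeries (Fin n) k)
    (hf : Ord 3 (f - quad c X)) :
    ∃ ε : Fin n → MvPowerSeries (Fin n) k, (∀ i, Ord 2 (ε i)) ∧ f = quad c fun i => X i + ε i := by
  classical
  let P : ℕ → (Fin n → MvPowerSeries (Fin n) k) → Prop := fun N e =>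
    (∀ i, Ord 2 (e i)) ∧ Ord (N + 3) (f - quad c fun i => X i + e i)
  have h0 : P 0 0 := ⟨fun i => ord_zero, by simpa using hf⟩
  have hs : ∀ N e, P N e → ∃ e', P (N + 1) e' ∧ ∀ i, Ord (N + 2) (e' i - e i) := by
    rintro N e ⟨he, hfe⟩
    obtain ⟨δ, hδ, hnew⟩ := step c hB f e N he hfe
    exact ⟨fun i => e i + δ i, ⟨fun i => ord_add (he i) (ord_mono (by omega) (hδ i)), hnew⟩,
      fun i => by simpa using hδ i⟩
  choose! next hP hd using hs
  let e : ℕ → Fin n → MvPowerSeries (Fin n) k := fun N => Nat.rec 0 next N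
  have heP : ∀ N, P N (e N) := fun N => by
    induction N with
    | zero => exact h0
    | succ N ih => exact hP N _ ih
  have hstab : ∀ N N', N ≤ N' → ∀ i, Ord (N + 2) (e N' i - e N i) := by
    intro N N' h
    induction N', h using Nat.le_induction with
    | base => intro i; rw [sub_self]; exact ord_zero
    | succ N' h ih =>
      intro i
      rw [show e (N' + 1) i - e N i = (e (N' + 1) i - e N' i) + (e N' i - e N i) by ring]
      exact ord_add (ord_mono (by omega) (hd N' _ (heP N') i)) (ih i)
  let ε : Fin n → MvPowerSeries (Fin n) k := fun i m => coeff m (e m.degree i)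
  have hε : ∀ N i, Ord (N + 2) (ε i - e N i) := by
    intro N i m hm
    rw [map_sub, sub_eq_zero]
    show coeff m (e m.degree i) = coeff m (e N i)
    rcases le_total m.degree N with h | h
    · have := hstab m.degree N h i m (by omega)
      rw [map_sub, sub_eq_zero] at this
      exact this.symm
    · have := hstab N m.degree h i m hm
      rwa [map_sub, sub_eq_zero] at this
  have hε2 : ∀ i, Ord 2 (ε i) := fun i => by simpa [e] using hε 0 i
  refine ⟨ε, hε2, sub_eq_zero.1 (ext fun m => ?_)⟩
  rw [map_zero]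
  have h1 : Ord (m.degree + 3) (quad c (fun i => X i + ε i) - quad c fun i => X i + e m.degree i) :=
    ord_quad_sub c (fun i => ord_add (ord_one_X i) (ord_mono (by omega) (hε2 i)))
      (fun i => ord_add (ord_one_X i) (ord_mono (by omega) ((heP m.degree).1 i)))
      (a := m.degree + 2) (fun i => by simpa using hε m.degree i)
  have h2 := (heP m.degree).2 m (by omega)
  have h3 := h1 m (by omega)
  rw [map_sub] at h2 h3 ⊢
  rw [sub_eq_zero.1 h3]
  exact h2

end

theorem coeff_single_mul (a b : MvPowerSeries (Fin n) k) (j : Fin n) :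
    coeff (Finsupp.single j 1) (a * b) =
      constantCoeff a * coeff (Finsupp.single j 1) b + coeff (Finsupp.single j 1) a * constantCoeff b := by
  classical
  rw [coeff_mul, Finsupp.antidiagonal_single, Finset.Nat.antidiagonal_succ]
  simp [coeff_zero_eq_constantCoeff]

/-- The formal Morse lemma. -/
theorem formal_morse (f : MvPowerSeries (Fin n) k) (hf0 : constantCoeff f = 0)
    (hJ : Ideal.span (Set.range fun i : Fin n => pderiv k i f) = IsLocalRing.maximalIdeal (MvPowerSeries (Fin n) k)) :
    ∃ (c : Fin n → Fin n → k) (ε : Fin n → MvPowerSeries (Fin n) k), (∀ i, Ord 2 (ε i)) ∧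
      f = quad c fun i => X i + ε i := by
  classical
  have hd : ∀ i, constantCoeff (pderiv k i f) = 0 := fun i => by
    have h : pderiv k i f ∈ IsLocalRing.maximalIdeal (MvPowerSeries (Fin n) k) :=
      hJ ▸ Ideal.subset_span ⟨i, rfl⟩
    rw [IsLocalRing.mem_maximalIdeal, mem_nonunits_iff, isUnit_iff_constantCoeff, isUnit_iff_ne_zero, ne_eq,
      not_not] at h
    exact h
  have hlin : ∀ i, coeff (Finsupp.single i 1) f = 0 := fun i => by
    have := hd i
    rw [← coeff_zero_eq_constantCoeff_apply, coeff_pderiv] at this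
    simpa using this
  have h2 : Ord 2 f := by
    intro m hm
    rcases Nat.lt_succ_iff.1 hm |>.lt_or_eq with h | h
    · rw [(Finsupp.degree_eq_zero_iff m).1 (by omega), coeff_zero_eq_constantCoeff_apply, hf0]
    · have hm0 : m ≠ 0 := by rintro rfl; simp at h
      obtain ⟨i, hi⟩ := Finsupp.ne_iff.1 hm0
      have hle : Finsupp.single i 1 ≤ m :=
        Finsupp.single_le_iff.2 (Nat.one_le_iff_ne_zero.2 (by simpa using hi))
      have h1 := congrArg Finsupp.degree (tsub_add_cancel_of_le hle)
      rw [map_add, Finsupp.degree_single] at h1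
      rw [← tsub_add_cancel_of_le hle, (Finsupp.degree_eq_zero_iff (m - Finsupp.single i 1)).1 (by omega), zero_add]
      exact hlin i
  let c : Fin n → Fin n → k := fun i j => constantCoeff (part (part f i) j)
  have h3 : Ord 3 (f - quad c X) := by
    have e1 : f = ∑ i, ∑ j, X i * X j * part (part f i) j := by
      conv_lhs => rw [sum_part (ord_mono (by omega) h2)]
      refine Finset.sum_congr rfl fun i _ => ?_
      conv_lhs => rw [sum_part (ord_part h2 i), Finset.mul_sum]
      simp only [mul_assoc]
    conv => enter [2, 1]; rw [e1]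
    rw [quad, ← Finset.sum_sub_distrib]
    refine ord_sum _ fun i _ => ?_
    rw [← Finset.sum_sub_distrib]
    refine ord_sum _ fun j _ => ?_
    rw [mul_comm (C (c i j)), ← mul_sub]
    refine ord_mul (a := 2) (b := 1) (ord_mul (ord_one_X i) (ord_one_X j)) fun m hm => ?_
    rw [(Finsupp.degree_eq_zero_iff m).1 (by omega), coeff_zero_eq_constantCoeff_apply, map_sub, constantCoeff_C]
    exact sub_self _
  have hB : IsUnit (Matrix.of fun i j => c i j + c j i).det := by
    have hco : ∀ i j, coeff (Finsupp.single j 1) (pderiv k i f) = c i j + c j i := by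
      intro i j
      have e : pderiv k i f = pderiv k i (quad c X) + pderiv k i (f - quad c X) := by
        rw [← map_add, add_sub_cancel]
      rw [e, map_add]
      have hz : coeff (Finsupp.single j 1) (pderiv k i (f - quad c X)) = 0 := by
        rw [coeff_pderiv, h3 _ (by simp [map_add, Finsupp.degree_single])]
        simp
      rw [hz, add_zero, quad]
      simp only [map_sum]
      have hterm : ∀ a b, coeff (Finsupp.single j 1) (pderiv k i (C (c a b) * (X a * X b : MvPowerSeries (Fin n) k))) =
          (if a = i ∧ b = j then c a b else 0) + (if b = i ∧ a = j then c a b else 0) := fun a b => by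
        rw [← smul_eq_C_mul, Derivation.map_smul, map_smul, Derivation.leibniz, map_add, smul_eq_mul, smul_eq_mul, pderiv_X,
          pderiv_X, smul_eq_mul, coeff_single_mul, coeff_single_mul]
        rcases eq_or_ne b i with hbi | hbi <;> rcases eq_or_ne a i with hai | hai <;>
          simp [Pi.single_apply, coeff_X, Finsupp.single_left_inj, hbi, hai, eq_comm, mul_add]
      simp only [hterm, Finset.sum_add_distrib]
      congr 1
      · simp [ite_and]
      · rw [Finset.sum_comm]; simp [ite_and]
    have hmem : ∀ l : Fin n, ∃ a : Fin n → MvPowerSeries (Fin n) k, ∑ i, a i * pderiv k i f = X l := fun l => by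
      refine Ideal.mem_span_range_iff_exists_fun.1 ?_
      rw [hJ, IsLocalRing.mem_maximalIdeal, mem_nonunits_iff, isUnit_iff_constantCoeff]
      simp
    choose a ha using hmem
    refine (Matrix.isUnit_iff_isUnit_det _).1 (IsUnit.of_mul_eq_one_right
      (Matrix.of fun l i => constantCoeff (a l i)) ?_)
    ext l j
    rw [Matrix.mul_apply]
    have h := congrArg (coeff (Finsupp.single j 1)) (ha l)
    rw [map_sum, coeff_X] at h
    simp only [coeff_single_mul, hd, hco, mul_zero, add_zero, Finsupp.single_left_inj one_ne_zero] at h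
    rw [Matrix.one_apply]
    simpa [eq_comm] using h
  obtain ⟨ε, hε, he⟩ := exists_solution c hB f h3
  exact ⟨c, ε, hε, he⟩

end Groth.Agent.SGA7X.FormalMorse
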