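import Mathlib.AlgebraicGeometry.Morphisms.FlatRank
import Mathlib.AlgebraicGeometry.Morphisms.FlatMono
import Mathlib.AlgebraicGeometry.Morphisms.Proper
import Mathlib.AlgebraicGeometry.ZariskisMainTheorem
import Mathlib.AlgebraicGeometry.PullbackCarrier

/-!
Separated flat quasi-finite morphisms of finite presentation of rank at most one are open immersions.
-/

set_option autoImplicit false
set_option backward.isDefEq.respectTransparency.types false

universe u

open CategoryTheory Limits AlgebraicGeometry

namespace Groth.Agent.SGA7X.RankOne

theorem exists_maximal_generization {X : Scheme.{u}} (x : X) : ∃ y : X, y ⤳ x ∧ ∀ z : X, z ⤳ y → z = y := by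
  let C := irreducibleComponent x
  have hC : IsIrreducible C := isIrreducible_irreducibleComponent
  have hgen := hC.isGenericPoint_genericPoint isClosed_irreducibleComponent
  refine ⟨hC.genericPoint, hgen.specializes mem_irreducibleComponent, fun z hz => ?_⟩
  have h1 : C ⊆ closure ({z} : Set X) := hgen.def ▸ specializes_iff_closure_subset.1 hz
  have h2 : closure ({z} : Set X) = C := eq_irreducibleComponent isIrreducible_singleton.closure.2 h1
  exact (show IsGenericPoint z C from h2).eq hgen

theorem maximal_map {X Y : Scheme.{u}} (f : X ⟶ Y) [Flat f] (x : X) (hx : ∀ z : X, z ⤳ x → z = x) :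
    ∀ t : Y, t ⤳ f x → t = f x := fun t ht => by
  obtain ⟨x', h1, h2⟩ := Flat.generalizingMap f ht
  rw [← h2, hx x' h1]

variable {T S : Scheme.{u}} (g : T ⟶ S)

theorem isOpenImmersion_of_rank_le_one [LocallyQuasiFinite g] [LocallyOfFinitePresentation g] [QuasiCompact g]
    [IsSeparated g] [Flat g]
    (h : ∀ s : S, (∀ t : S, t ⤳ s → t = s) →
      IsEmpty ↑(pullback g (S.fromSpecResidueField s)) ∨ IsIso (pullback.snd g (S.fromSpecResidueField s))) :
    IsOpenImmersion g := by
  -- the fibre over the image of a maximal point
  have hiso : ∀ t : T, (∀ z : S, z ⤳ g t → z = g t) → IsIso (pullback.snd g (S.fromSpecResidueField (g t))) := by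
    intro t ht
    refine (h _ ht).resolve_left fun he => ?_
    obtain ⟨w, -, -⟩ := Scheme.Pullback.exists_preimage_pullback (f := g) (g := S.fromSpecResidueField (g t)) t
      (IsLocalRing.closedPoint _) (Scheme.fromSpecResidueField_apply _ _).symm
    exact he.false w
  -- the diagonal is surjective
  have hd : Surjective (pullback.diagonal g) := by
    refine ⟨fun w => ?_⟩
    obtain ⟨w', hww', hmax⟩ := exists_maximal_generization w
    let ι := (pullback g g).fromSpecResidueField w'
    let π := pullback.fst g g ≫ g
    have hπ : ι ≫ pullback.fst g g ≫ g = Spec.map (π.residueFieldMap w') ≫ S.fromSpecResidueField (π w') :=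
      (π.SpecMap_residueFieldMap_fromSpecResidueField w').symm
    have : IsIso (pullback.snd g (S.fromSpecResidueField (π w'))) :=
      hiso (pullback.fst g g w') (maximal_map π w' hmax)
    let a := pullback.lift (f := g) (g := S.fromSpecResidueField (π w')) (ι ≫ pullback.fst g g)
      (Spec.map (π.residueFieldMap w')) (by rw [Category.assoc, hπ])
    let b := pullback.lift (f := g) (g := S.fromSpecResidueField (π w')) (ι ≫ pullback.snd g g)
      (Spec.map (π.residueFieldMap w')) (by rw [Category.assoc, ← pullback.condition, hπ])
    have hab : a = b := by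
      rw [← cancel_mono (pullback.snd g (S.fromSpecResidueField (π w'))), pullback.lift_snd, pullback.lift_snd]
    have h1 : ι ≫ pullback.fst g g = ι ≫ pullback.snd g g := by
      have := congrArg (· ≫ pullback.fst g (S.fromSpecResidueField (π w'))) hab
      simpa only [a, b, pullback.lift_fst] using this
    have h2 : (ι ≫ pullback.fst g g) ≫ pullback.diagonal g = ι := by
      apply pullback.hom_ext
      · rw [Category.assoc, pullback.diagonal_fst, Category.comp_id]
      · rw [Category.assoc, pullback.diagonal_snd, Category.comp_id, h1]
    have h3 : w' ∈ Set.range (pullback.diagonal g) := ⟨(ι ≫ pullback.fst g g) (IsLocalRing.closedPoint _), by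
      rw [← Scheme.Hom.comp_apply, h2]
      exact Scheme.fromSpecResidueField_apply _ _⟩
    exact hww'.mem_closed (pullback.diagonal g).isClosedEmbedding.isClosed_range h3
  -- so the second projection is finite flat of rank one
  let q := pullback.snd g g
  have : UniversallyClosed q := by
    have : UniversallyClosed (pullback.diagonal g ≫ q) := by rw [pullback.diagonal_snd]; infer_instance
    exact UniversallyClosed.of_comp_surjective (pullback.diagonal g) q
  have : IsProper q := {}
  have : IsFinite q := IsFinite.of_isProper_of_locallyQuasiFinite q
  have hrank : q.finrank = 1 := by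
    funext t₀
    obtain ⟨t, htt, hmax⟩ := exists_maximal_generization t₀
    have hlc := q.isLocallyConstant_finrank
    have hcl : q.finrank t₀ = q.finrank t := by
      have hopen := hlc.isOpen_fiber (q.finrank t₀)
      exact (htt.mem_open hopen rfl).symm
    rw [hcl, Pi.one_apply]
    let a := T.fromSpecResidueField t
    have ht : a (IsLocalRing.closedPoint _) = t := Scheme.fromSpecResidueField_apply _ _
    rw [← ht, ← Scheme.Hom.finrank_pullback_snd q a]
    have := hiso t (maximal_map g t hmax)
    have hiso' : IsIso (pullback.snd g (Spec.map (g.residueFieldMap t) ≫ S.fromSpecResidueField (g t))) := by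
      rw [← Iso.inv_hom_id_assoc (pullbackLeftPullbackSndIso g (S.fromSpecResidueField (g t))
        (Spec.map (g.residueFieldMap t))) (pullback.snd g _), pullbackLeftPullbackSndIso_hom_snd]
      infer_instance
    rw [Scheme.Hom.SpecMap_residueFieldMap_fromSpecResidueField] at hiso'
    have : IsIso (pullback.snd q a) := by
      rw [← pullbackLeftPullbackSndIso_hom_snd g g a]
      infer_instance
    exact congrFun (Scheme.Hom.finrank_eq_one_of_isIso (pullback.snd q a)) _
  have : IsIso q := Scheme.Hom.isIso_iff_finrank_eq q |>.2 hrank
  have : IsIso (pullback.diagonal g) := by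
    have h5 : pullback.diagonal g = inv q := by
      rw [← cancel_mono q, IsIso.inv_hom_id, pullback.diagonal_snd]
    rw [h5]; infer_instance
  have : Mono g := (pullback.isIso_diagonal_iff g).1 this
  exact IsOpenImmersion.of_flat_of_mono g

end Groth.Agent.SGA7X.RankOne
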