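import Groth.Agent.SGA7X.Torsion
import Groth.Agent.Neron6.Over
import Groth.Prelude.Def_SGA7IX

/-!
Inertia fixes the torsion points, of order invertible at the place, of an abelian scheme.
-/

set_option autoImplicit false

universe u

open CategoryTheory Limits AlgebraicGeometry MonoidalCategory CartesianMonoidalCategory MonObj IsLocalRing

namespace Groth.Agent.SGA7X

variable {R K Ω : Type u} [CommRing R] [IsLocalRing R] [Field K] [Algebra R K] [Field Ω] [Algebra K Ω]

/-- Inertia fixes the torsion points of order invertible at the place on the generic fibre of an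
abelian scheme. -/
theorem galAct_eq_self (W : ValuationSubring Ω) (hW : SGA7.LiesOver K R W)
    (B : Over (Spec (CommRingCat.of R))) [GrpObj B] [IsProper B.hom] [Smooth B.hom]
    [GeometricallyConnected B.hom] (n : ℕ) (hn : IsUnit (n : R))
    (σ : Ω ≃ₐ[K] Ω) (hσ : SGA7.IsInertia W σ)
    (y : SGA7.Pts Ω (Red.bc (Spec.map (CommRingCat.ofHom (algebraMap R K))) B)) (hy : y ^ n = 1) :
    SGA7.galAct σ y = y := by
  let g := Spec.map (CommRingCat.ofHom (algebraMap R K))
  let yb : (Over.map g).obj (SGA7.pt Ω) ⟶ B :=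
    ((Over.mapPullbackAdj g).homEquiv (SGA7.pt Ω) B).symm y
  have hyb : yb ^ n = 1 := by
    apply ((Over.mapPullbackAdj g).homEquiv (SGA7.pt Ω) B).injective
    rw [Adjunction.homEquiv_unit, Adjunction.homEquiv_unit]
    let : GrpObj ((Over.pullback g).obj B) := Functor.grpObjObj
    have h1 : (Over.pullback g).map (yb ^ n) = (Over.pullback g).map yb ^ n :=
      _root_.map_pow (Over.pullback g).homMonoidHom yb n
    have h2 : (Over.pullback g).map (1 : (Over.map g).obj (SGA7.pt Ω) ⟶ B) = 1 :=
      _root_.map_one (Over.pullback g).homMonoidHom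
    have h3 : (Over.mapPullbackAdj g).unit.app (SGA7.pt Ω) ≫ (Over.pullback g).map yb = y := by
      exact (Adjunction.homEquiv_unit (Over.mapPullbackAdj g) _ _ _).symm.trans (Equiv.apply_symm_apply _ _)
    rw [h1, h2, MonObj.comp_pow, MonObj.comp_one, h3]
    exact hy
  -- the valuation ring
  let ρW : R →+* W := ((algebraMap K Ω).comp (algebraMap R K)).codRestrict W.toSubring hW.1
  let s : Spec (CommRingCat.of W) ⟶ Spec (CommRingCat.of R) := Spec.map (CommRingCat.ofHom ρW)
  let inΩ : Spec (CommRingCat.of Ω) ⟶ Spec (CommRingCat.of W) :=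
    Spec.map (CommRingCat.ofHom (algebraMap W Ω))
  have hinΩ : inΩ ≫ s = ((Over.map g).obj (SGA7.pt Ω)).hom := by
    show inΩ ≫ s = Spec.map (CommRingCat.ofHom (algebraMap K Ω)) ≫ g
    rw [← Spec.map_comp, ← Spec.map_comp]
    rfl
  have hex : ValuativeCriterion.Existence B.hom := by
    have h : IsProper B.hom := inferInstance
    rw [IsProper.eq_valuativeCriterion] at h
    exact h.1.1.1.existence
  let sq : ValuativeCommSq B.hom :=
    { R := W
      K := Ω
      i₁ := yb.left
      i₂ := s
      commSq := ⟨(Over.w yb).trans hinΩ.symm⟩ }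
  obtain ⟨⟨L⟩⟩ := hex sq
  let lW : Spec (CommRingCat.of W) ⟶ B.left := L.l
  have hl1 : inΩ ≫ lW = yb.left := L.fac_left
  have hl2 : lW ≫ B.hom = s := L.fac_right
  let a : Over.mk s ⟶ B := Over.homMk lW hl2
  let σW : W →+* W := (σ : Ω →+* Ω).restrict W.toSubring W.toSubring (fun x hx => (hσ x hx).1)
  have hσρ : Spec.map (CommRingCat.ofHom σW) ≫ s = s := by
    rw [← Spec.map_comp]
    congr 1
    ext r
    exact σ.commutes _
  have hres : Spec.map (CommRingCat.ofHom (residue W)) ≫ Spec.map (CommRingCat.ofHom σW) =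
      Spec.map (CommRingCat.ofHom (residue W)) := by
    rw [← Spec.map_comp]
    congr 1
    ext w
    show residue W (σW w) = residue W w
    rw [← sub_eq_zero, ← map_sub, residue_eq_zero_iff]
    exact (W.valuation_lt_one_iff (σW w - w)).2 (hσ w w.2).2
  let t : Over.mk s ⟶ Over.mk s := Over.homMk (Spec.map (CommRingCat.ofHom σW)) hσρ
  let b : Over.mk s ⟶ B := t ≫ a
  have : IsDominant inΩ := by
    rw [isDominant_iff]
    exact (PrimeSpectrum.denseRange_comap_iff_ker_le_nilRadical _).2
      (by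
        show RingHom.ker (algebraMap W Ω) ≤ nilradical W
        rw [(RingHom.injective_iff_ker_eq_bot _).1 (IsFractionRing.injective W Ω)]
        exact bot_le)
  let inO : (Over.map g).obj (SGA7.pt Ω) ⟶ Over.mk s := Over.homMk inΩ hinΩ
  have hinΩa : inO ≫ a = yb := by ext1; exact hl1
  have han : a ^ n = 1 := by
    ext1
    have : IsReduced (Over.mk s).left := inferInstanceAs (IsReduced (Spec (CommRingCat.of W)))
    refine ext_of_isDominant_of_isSeparated B.hom ((Over.w _).trans (Over.w _).symm) inΩ ?_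
    show (inO ≫ a ^ n).left = (inO ≫ (1 : Over.mk s ⟶ B)).left
    rw [MonObj.comp_pow, MonObj.comp_one, hinΩa, hyb]
  have hbn : b ^ n = 1 := by
    show (t ≫ a) ^ n = 1
    rw [← MonObj.comp_pow, han, MonObj.comp_one]
  have hnu : IsUnit (n : Γ(Spec (CommRingCat.of R), ⊤)) := by
    have h := hn.map (Scheme.ΓSpecIso (CommRingCat.of R)).inv.hom
    rwa [map_natCast] at h
  have hab : a = b := torsion_eq_of_residue_eq B n hnu s a b han hbn (by
    show Spec.map (CommRingCat.ofHom (residue W)) ≫ lW =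
      Spec.map (CommRingCat.ofHom (residue W)) ≫ Spec.map (CommRingCat.ofHom σW) ≫ lW
    rw [← Category.assoc, hres])
  have hσinΩ : Spec.map (CommRingCat.ofHom (σ : Ω →+* Ω)) ≫ inΩ = inΩ ≫ Spec.map (CommRingCat.ofHom σW) := by
    rw [← Spec.map_comp, ← Spec.map_comp]
    rfl
  have hyfst : y.left ≫ pullback.fst B.hom g = yb.left := by
    have h3 : (Over.mapPullbackAdj g).homEquiv (SGA7.pt Ω) B yb = y := Equiv.apply_symm_apply _ _
    rw [← h3]
    show ((Over.mapPullbackAdj g).homEquiv (SGA7.pt Ω) B yb).left ≫ pullback.fst B.hom g = yb.left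
    simp [Over.mapPullbackAdj]
    exact pullback.lift_fst _ _ _
  refine Neron6.pullback_hom_ext g _ _ ?_
  show (Spec.map (CommRingCat.ofHom (σ : Ω →+* Ω)) ≫ y.left) ≫ pullback.fst B.hom g =
    y.left ≫ pullback.fst B.hom g
  rw [Category.assoc, hyfst, ← hl1, ← Category.assoc, hσinΩ, Category.assoc]
  exact congrArg (inΩ ≫ ·) (congrArg CommaMorphism.left hab).symm

/-- The transfer of torsion statements along an isomorphism of schemes from an abelian variety. -/
theorem galAct_eq_self_of_iso (W : ValuationSubring Ω) (hW : SGA7.LiesOver K R W)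
    (A : Over (Spec (CommRingCat.of K))) [GrpObj A] [IsProper A.hom] [GeometricallyIntegral A.hom]
    (B : Over (Spec (CommRingCat.of R))) [GrpObj B] [IsProper B.hom] [Smooth B.hom]
    [GeometricallyConnected B.hom]
    (e : Red.bc (Spec.map (CommRingCat.ofHom (algebraMap R K))) B ≅ A)
    (n : ℕ) (hn : IsUnit (n : R)) (σ : Ω ≃ₐ[K] Ω) (hσ : SGA7.IsInertia W σ)
    (x : SGA7.Pts Ω A) (hx : x ^ n = 1) : SGA7.galAct σ x = x := by
  have : IsSeparated (Red.bc (Spec.map (CommRingCat.ofHom (algebraMap R K))) B).hom :=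
    inferInstanceAs (IsSeparated (pullback.snd B.hom (Spec.map (CommRingCat.ofHom (algebraMap R K)))))
  let f : A ⟶ Red.bc (Spec.map (CommRingCat.ofHom (algebraMap R K))) B :=
    e.inv * (toUnit A ≫ η[A] ≫ e.inv)⁻¹
  have hf : η[A] ≫ f = η[Red.bc (Spec.map (CommRingCat.ofHom (algebraMap R K))) B] := by
    rw [MonObj.comp_mul, GrpObj.comp_inv, H23.AlbFormal.pt_toUnit, mul_inv_cancel, MonObj.one_eq_one]
  have := H23.AlbFormal.isMonHom_of_one f hf
  have hinj : ∀ z z' : SGA7.Pts Ω A, z ≫ f = z' ≫ f → z = z' := by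
    intro z z' h
    simp only [f, MonObj.comp_mul, GrpObj.comp_inv] at h
    rw [← Category.assoc z (toUnit A), ← Category.assoc z' (toUnit A),
      toUnit_unique (z' ≫ toUnit A) (z ≫ toUnit A), mul_left_inj] at h
    exact (cancel_mono e.inv).1 h
  refine hinj _ _ ?_
  show (SGA7.specAut σ ≫ x) ≫ f = x ≫ f
  rw [Category.assoc]
  exact galAct_eq_self W hW B n hn σ hσ (x ≫ f) (by rw [← MonObj.pow_comp, hx, MonObj.one_comp])

end Groth.Agent.SGA7X
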