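import Groth.Prelude.Def_Neron
import Mathlib

/-!
A Neron model of a group scheme is a group scheme.
-/

set_option autoImplicit false
set_option backward.isDefEq.respectTransparency.types false

universe u

open CategoryTheory CategoryTheory.Limits AlgebraicGeometry MonoidalCategory CartesianMonoidalCategory MonObj GrpObj

namespace Groth.Agent.SGA7X.NeronGrp

open Functor.LaxMonoidal in
/-- A group structure descends along a monoidal functor which is bijective on morphisms into the object
from a class of objects closed under products. -/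
theorem exists_grpObj_of_bijective {C D : Type*} [Category C] [CartesianMonoidalCategory C] [Category D]
    [CartesianMonoidalCategory D] (F : C ⥤ D) [F.Monoidal] (Y : C) [GrpObj (F.obj Y)] (P : C → Prop)
    (hP : ∀ A B, P A → P B → P (A ⊗ B)) (h1 : P (𝟙_ C)) (hY : P Y)
    (hbij : ∀ T, P T → Function.Bijective (fun g : T ⟶ Y => F.map g)) :
    ∃ g : GrpObj Y, letI := g
      IsMonHom (𝟙 (F.obj Y)) ∧ F.map μ[Y] = Functor.OplaxMonoidal.δ F Y Y ≫ μ[F.obj Y] := by
  obtain ⟨e, he'⟩ := (hbij _ h1).2 (Functor.OplaxMonoidal.η F ≫ η[F.obj Y])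
  obtain ⟨m, hm'⟩ := (hbij _ (hP _ _ hY hY)).2 (Functor.OplaxMonoidal.δ F Y Y ≫ μ[F.obj Y])
  obtain ⟨i, hi⟩ := (hbij _ hY).2 ι[F.obj Y]
  simp only at he' hm' hi
  refine ⟨{
    one := e
    mul := m
    inv := i
    one_mul := (hbij _ (hP _ _ h1 hY)).1 <| by simp [he', hm', ← Functor.OplaxMonoidal.δ_natural_left_assoc]
    mul_one := (hbij _ (hP _ _ hY h1)).1 <| by simp [he', hm', ← Functor.OplaxMonoidal.δ_natural_right_assoc]
    mul_assoc := (hbij _ (hP _ _ (hP _ _ hY hY) hY)).1 <| by
      simp [hm', ← Functor.OplaxMonoidal.δ_natural_left_assoc, ← Functor.OplaxMonoidal.δ_natural_right_assoc]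
    left_inv := (hbij _ hY).1 <| by
      simp [he', hm', hi, Functor.OplaxMonoidal.η_of_cartesianMonoidalCategory]
    right_inv := (hbij _ hY).1 <| by
      simp [he', hm', hi, Functor.OplaxMonoidal.η_of_cartesianMonoidalCategory] }, ?_, hm'⟩
  exact inferInstance

theorem smooth_tensor {S : Scheme.{u}} (A B : Over S) [Smooth A.hom] [Smooth B.hom] : Smooth (A ⊗ B).hom :=
  inferInstanceAs (Smooth (pullback.fst A.hom B.hom ≫ A.hom))

theorem exists_grpObj {R : Type u} [CommRing R] [IsDomain R] {N : Over (Spec (CommRingCat.of R))}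
    {A : Over (Spec (CommRingCat.of (FractionRing R)))} [GrpObj A] {e : (Neron.genericFibre R).obj N ≅ A}
    (hN : Neron.IsNeronModelOf R N A e) : Nonempty (GrpObj N) := by
  letI : GrpObj ((Neron.genericFibre R).obj N) := GrpObj.ofIso e.symm
  obtain ⟨g, -⟩ := exists_grpObj_of_bijective (Neron.genericFibre R) N (fun T => Smooth T.hom)
    (fun A B _ _ => smooth_tensor A B) (inferInstanceAs (Smooth (𝟙 _))) hN.1 fun T hT => by
      have h := hN.2.2.2.2 T hT
      refine ⟨fun a b hab => h.1 (congrArg (· ≫ e.hom) hab), fun b => ?_⟩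
      obtain ⟨a, ha⟩ := h.2 (b ≫ e.hom)
      exact ⟨a, (cancel_mono e.hom).1 ha⟩
  exact ⟨g⟩

end Groth.Agent.SGA7X.NeronGrp
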