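import Groth.Agent.SGA7X.UnramifiedLift
import Groth.Agent.SGA7X.KummerInertia

/-!
Tame inertia: the prime-to-residue-characteristic part of inertia acts through roots of a uniformiser, and
roots of unity of prime power order generate an infinite residue extension unless moved by Galois.
-/

set_option autoImplicit false
set_option backward.isDefEq.respectTransparency.types false

universe u

open IsLocalRing Polynomial
open scoped IntermediateField

namespace Groth.Agent.SGA7X.InertiaTame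

variable {R K Ω : Type u} [CommRing R] [IsDomain R] [IsDiscreteValuationRing R] [HenselianLocalRing R] [Field K]
  [Algebra R K] [IsFractionRing R K] [Field Ω] [Algebra K Ω] [IsSepClosure K Ω] [Algebra R Ω]
  [IsScalarTower R K Ω] (W : ValuationSubring Ω) (hW : SGA7.LiesOver K R W)

include hW in
theorem preserves (σ : Ω ≃ₐ[K] Ω) (x : Ω) (h : W.valuation x < 1) : W.valuation (σ x) < 1 := by
  rcases eq_or_ne x 0 with rfl | hx
  · simpa using h
  refine lt_of_le_of_ne ((W.valuation_le_one_iff _).2 (map_mem W hW σ ((W.valuation_le_one_iff _).1 h.le)))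
    fun he => ?_
  have h1 : (σ x)⁻¹ ∈ W := (W.valuation_le_one_iff _).1 (by rw [map_inv₀, he, inv_one])
  have h2 := map_mem W hW σ.symm h1
  rw [← map_inv₀, AlgEquiv.symm_apply_apply] at h2
  have h3 := (W.valuation_le_one_iff _).2 h2
  have h4 := mul_lt_one_of_nonneg_of_lt_one_left (zero_le (a := W.valuation x)) h h3
  rw [← map_mul, mul_inv_cancel₀ hx, map_one] at h4
  exact lt_irrefl _ h4

include hW in
/-- Every automorphism preserves the valuation. -/
theorem valuation_map (σ : Ω ≃ₐ[K] Ω) (x : Ω) : W.valuation (σ x) = W.valuation x :=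
  KummerInertia.valuation_map_of_preserves W (preserves W hW) σ x

include hW in
theorem inertia_mul {σ τ : Ω ≃ₐ[K] Ω} (hσ : SGA7.IsInertia W σ) (hτ : SGA7.IsInertia W τ) :
    SGA7.IsInertia W (σ * τ) := by
  intro x hx
  refine ⟨map_mem W hW _ hx, ?_⟩
  rw [AlgEquiv.mul_apply, show σ (τ x) - x = σ (τ x - x) + (σ x - x) by rw [map_sub]; ring]
  exact lt_of_le_of_lt (W.valuation.map_add _ _)
    (max_lt (by rw [valuation_map W hW]; exact (hτ x hx).2) (hσ x hx).2)

include hW in
theorem inertia_inv {σ : Ω ≃ₐ[K] Ω} (hσ : SGA7.IsInertia W σ) : SGA7.IsInertia W σ⁻¹ := by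
  intro x hx
  refine ⟨map_mem W hW _ hx, ?_⟩
  rw [← valuation_map W hW σ, map_sub, ← AlgEquiv.mul_apply, mul_inv_cancel, AlgEquiv.one_apply,
    Valuation.map_sub_swap]
  exact (hσ x hx).2

include hW in
theorem inertia_pow {σ : Ω ≃ₐ[K] Ω} (hσ : SGA7.IsInertia W σ) (k : ℕ) : SGA7.IsInertia W (σ ^ k) := by
  induction k with
  | zero =>
    intro x hx
    rw [pow_zero, AlgEquiv.one_apply, sub_self, map_zero]
    exact ⟨hx, zero_lt_one⟩
  | succ k ih => rw [pow_succ]; exact inertia_mul W hW ih hσ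

include hW in
theorem inertia_conj (g : Ω ≃ₐ[K] Ω) {σ : Ω ≃ₐ[K] Ω} (hσ : SGA7.IsInertia W σ) :
    SGA7.IsInertia W (g * σ * g⁻¹) := by
  intro x hx
  refine ⟨map_mem W hW _ hx, ?_⟩
  have he : (g * σ * g⁻¹) x - x = g (σ (g⁻¹ x) - g⁻¹ x) := by
    rw [map_sub, AlgEquiv.mul_apply, AlgEquiv.mul_apply, show g (g⁻¹ x) = x by
      rw [← AlgEquiv.mul_apply, mul_inv_cancel, AlgEquiv.one_apply]]
  rw [he, valuation_map W hW]
  exact (hσ _ (map_mem W hW _ hx)).2

include hW in
/-- An inertia automorphism fixing a deep enough root of a uniformiser fixes a finite Galois extension on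
which it has prime power order. -/
theorem fixes_of_pow {lam : ℕ} [hl : Fact lam.Prime] (hlam : (lam : ResidueField R) ≠ 0) {τ : Ω ≃ₐ[K] Ω}
    (hτ : SGA7.IsInertia W τ) (E : IntermediateField K Ω) [FiniteDimensional K E] [IsGalois K E] (m : ℕ)
    (hζE : ∀ ζ : Ω, ζ ^ lam ^ m = 1 → ζ ∈ E) (hpow : ∀ x ∈ E, (τ ^ lam ^ m) x = x)
    {π : R} (hπ : Irreducible π) {y : Ω} {j : ℕ} (hy : y ^ lam ^ j = algebraMap K Ω (algebraMap R K π))
    (hj : ∀ a : ℕ, lam ^ a ∣ Module.finrank K E → a ≤ j) (hyτ : τ y = y) : ∀ x ∈ E, τ x = x := by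
  have hmk : ((lam ^ m : ℕ) : ResidueField R) ≠ 0 := by
    rw [Nat.cast_pow]
    exact pow_ne_zero _ hlam
  let s : E ≃ₐ[K] E := AlgEquiv.restrictNormal τ E
  have hs : ∀ a : E, ((s a : E) : Ω) = τ a := fun a => AlgEquiv.restrictNormal_commutes τ E a
  have hsk : ∀ (k : ℕ) (a : E), (((s ^ k) a : E) : Ω) = (τ ^ k) a := by
    intro k
    induction k with
    | zero => intro a; rfl
    | succ k ih => intro a; rw [pow_succ', pow_succ', AlgEquiv.mul_apply, AlgEquiv.mul_apply, hs, ih]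
  suffices h1 : s = 1 by
    intro x hx
    have := hs ⟨x, hx⟩
    rw [h1] at this
    exact this.symm
  by_contra hne
  have hd : s ^ lam ^ m = 1 := AlgEquiv.ext fun a => Subtype.ext (by rw [hsk]; exact hpow a a.2)
  let d := orderOf s
  have hdr : d ∣ lam ^ m := orderOf_dvd_of_pow_eq_one hd
  have hdpos : 0 < d := Nat.pos_of_dvd_of_pos hdr (pow_pos hl.out.pos m)
  have hd1 : d ≠ 1 := fun h => hne (orderOf_eq_one_iff.1 h)
  have hv := KummerInertia.valuation_natCast W hW hmk
  have hdne : (d : Ω) ≠ 0 := by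
    intro h
    obtain ⟨c, hc⟩ := hdr
    rw [hc, Nat.cast_mul, h, zero_mul, map_zero] at hv
    exact zero_ne_one hv
  have : IsSepClosed Ω := IsSepClosure.sep_closed K
  have : NeZero (d : Ω) := ⟨hdne⟩
  obtain ⟨ζ, hζ⟩ := HasEnoughRootsOfUnity.exists_primitiveRoot Ω d
  have hζr : ζ ^ lam ^ m = 1 := by
    obtain ⟨c, hc⟩ := hdr
    rw [hc, pow_mul, hζ.pow_eq_one, one_pow]
  let ζL : E := ⟨ζ, hζE ζ hζr⟩
  have hsζ : s ζL = ζL :=
    Subtype.ext ((hs ζL).trans (KummerInertia.map_root_of_unity_of_isInertia W hW hmk hτ hζr))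
  have hlin : LinearIndependent E (fun i : Fin d => (((s ^ (i : ℕ)) : E ≃ₐ[K] E) : E → E)) := by
    refine (linearIndependent_monoidHom E E).comp
      (fun i : Fin d => (((s ^ (i : ℕ)) : E ≃ₐ[K] E).toAlgHom.toRingHom.toMonoidHom : E →* E)) fun i j hij => ?_
    have h : s ^ (i : ℕ) = s ^ (j : ℕ) := AlgEquiv.ext fun a => congrArg (fun f : E →* E => f a) hij
    exact Fin.ext (pow_injOn_Iio_orderOf (Set.mem_Iio.2 i.2) (Set.mem_Iio.2 j.2) h)
  obtain ⟨a, ha⟩ : ∃ a : E, ∑ i : Fin d, ζL ^ (d - (i : ℕ)) * (s ^ (i : ℕ)) a ≠ 0 := by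
    by_contra h
    push Not at h
    have := Fintype.linearIndependent_iff.1 hlin (fun i => ζL ^ (d - (i : ℕ))) (funext fun a => by
      simpa [Finset.sum_apply] using h a) ⟨0, hdpos⟩
    refine pow_ne_zero _ ?_ this
    intro h0
    exact hζ.ne_zero hdpos.ne' (congrArg Subtype.val h0)
  set z : E := ∑ i : Fin d, ζL ^ (d - (i : ℕ)) * (s ^ (i : ℕ)) a with hzdef
  have hsz : s z = ζL * z := by
    let f : ℕ → E := fun i => ζL ^ (d - i) * (s ^ i) a
    have hz : z = ∑ i ∈ Finset.range d, f i := by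
      rw [hzdef]; exact Fin.sum_univ_eq_sum_range f d
    have hsd : s ^ d = 1 := pow_orderOf_eq_one s
    have hζd : ζL ^ d = 1 := Subtype.ext (by push_cast; exact hζ.pow_eq_one)
    have hf : ∀ i < d, s (f i) = ζL * f (i + 1) := fun i hi => by
      show s (ζL ^ (d - i) * (s ^ i) a) = _
      rw [map_mul, map_pow, hsζ, ← AlgEquiv.mul_apply, ← pow_succ', ← mul_assoc, ← pow_succ',
        show d - (i + 1) + 1 = d - i by omega]
    rw [hz, map_sum, Finset.mul_sum, Finset.sum_congr rfl fun i hi => hf i (Finset.mem_range.1 hi),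
      ← Finset.mul_sum, ← Finset.mul_sum]
    congr 1
    have h1 := Finset.sum_range_succ f d
    have h2 := Finset.sum_range_succ' f d
    have h3 : f d = f 0 := by
      show ζL ^ (d - d) * (s ^ d) a = ζL ^ (d - 0) * (s ^ 0) a
      rw [hsd, Nat.sub_self, Nat.sub_zero, hζd, pow_zero, pow_zero]
    rw [h1, h3] at h2
    exact (add_right_cancel h2).symm
  obtain ⟨n, u, hnu⟩ : ∃ (n : ℤ) (u : Rˣ),
      Algebra.norm K z = algebraMap R K π ^ n * algebraMap R K (u : R) := by
    obtain ⟨p, q, hq, hpq⟩ := IsFractionRing.div_surjective (A := R) (Algebra.norm K z)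
    have hp : p ≠ 0 := fun h => by
      rw [h, map_zero, zero_div] at hpq
      exact ha (Algebra.norm_eq_zero_iff.1 hpq.symm)
    obtain ⟨i, up, rfl⟩ := IsDiscreteValuationRing.eq_unit_mul_pow_irreducible hp hπ
    obtain ⟨j, uq, rfl⟩ := IsDiscreteValuationRing.eq_unit_mul_pow_irreducible (nonZeroDivisors.ne_zero hq) hπ
    refine ⟨(i : ℤ) - j, up * uq⁻¹, ?_⟩
    have hπ0 : algebraMap R K π ≠ 0 := (IsFractionRing.injective R K).ne_iff' (map_zero _) |>.2 hπ.ne_zero
    rw [← hpq, zpow_sub₀ hπ0, zpow_natCast, zpow_natCast, Units.val_mul, map_mul, map_mul, map_pow, map_mul,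
      map_pow]
    have hu : algebraMap R K ((uq⁻¹ : Rˣ) : R) = (algebraMap R K (uq : R))⁻¹ :=
      eq_inv_of_mul_eq_one_left (by rw [← map_mul, Units.inv_mul, map_one])
    rw [hu]
    field_simp
  have hE0 : Module.finrank K E ≠ 0 := Module.finrank_pos.ne'
  obtain ⟨e, N, hN, hEN⟩ := Nat.exists_eq_pow_mul_and_not_dvd hE0 lam hl.out.ne_one
  obtain ⟨i, hi⟩ := Nat.exists_eq_add_of_le (hj e (hEN ▸ dvd_mul_right _ _))
  have hvz : W.valuation ((z : Ω) ^ N) = W.valuation y ^ (n * ((lam ^ i : ℕ) : ℤ)) := by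
    have h := congrArg (fun c => W.valuation (algebraMap K Ω c)) hnu
    rw [map_mul, map_mul, map_zpow₀, map_zpow₀, KummerInertia.valuation_unit W hW, mul_one, ← hy, map_pow] at h
    have hN' : algebraMap K Ω (Algebra.norm K z) = ∏ τ : E ≃ₐ[K] E, ((τ z : E) : Ω) := by
      rw [IsScalarTower.algebraMap_apply K E Ω, Algebra.norm_eq_prod_automorphisms, map_prod]
      rfl
    rw [hN', map_prod, Finset.prod_congr rfl (fun τ _ => ?_ : ∀ τ ∈ (Finset.univ : Finset (E ≃ₐ[K] E)),
      W.valuation ((τ z : E) : Ω) = W.valuation (z : Ω))] at h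
    · rw [Finset.prod_const, Finset.card_univ, ← Nat.card_eq_fintype_card, IsGalois.card_aut_eq_finrank, hEN] at h
      refine (pow_left_inj₀ zero_le zero_le (pow_ne_zero e hl.out.ne_zero)).1 ?_
      rw [map_pow, ← pow_mul, mul_comm N, h, ← zpow_natCast (W.valuation y), ← zpow_natCast _ (lam ^ e), ← zpow_mul,
        ← zpow_mul]
      congr 1
      rw [hi]
      push_cast
      ring
    · obtain ⟨τ', hτ'⟩ := AlgEquiv.restrictNormalHom_surjective (F := K) (E := Ω) (K₁ := E) τ
      have h2 : ((τ z : E) : Ω) = τ' z := by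
        rw [← hτ']
        exact AlgEquiv.restrictNormal_commutes τ' E z
      rw [h2]
      exact valuation_map W hW τ' z
  have hy0 : y ≠ 0 := fun h => by
    rw [h, zero_pow (pow_ne_zero j hl.out.ne_zero)] at hy
    exact hπ.ne_zero ((IsFractionRing.injective R K) ((algebraMap K Ω).injective (by rw [map_zero, map_zero, ← hy])))
  set k := n * ((lam ^ i : ℕ) : ℤ) with hk
  set w : Ω := (z : Ω) ^ N / y ^ k with hwdef
  have hw1 : W.valuation w = 1 := by
    rw [hwdef, map_div₀, map_zpow₀, hvz, div_self (zpow_ne_zero k ((W.valuation.ne_zero_iff).2 hy0))]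
  have hτz : τ (z : Ω) = ζ * z := by rw [← hs, hsz]; rfl
  have hτw : τ w = ζ ^ N * w := by
    rw [hwdef, map_div₀, map_zpow₀, map_pow, hyτ, hτz, mul_pow, mul_div_assoc]
  have hζ1 : W.valuation (ζ ^ N - 1) < 1 := by
    have h := (hτ w ((W.valuation_le_one_iff _).1 hw1.le)).2
    rwa [hτw, ← sub_one_mul, map_mul, hw1, mul_one] at h
  have hζN : ζ ^ N = 1 :=
    KummerInertia.eq_one_of_valuation_lt W hv (by rw [← pow_mul, mul_comm, pow_mul, hζr, one_pow]) hζ1
  exact hd1 (Nat.eq_one_of_dvd_coprimes (Nat.Coprime.pow_left m ((hl.out.coprime_iff_not_dvd).2 hN)) hdr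
    (hζ.dvd_of_pow_eq_one N hζN))

include hW in
/-- If no finite extension of the residue field contains all roots of unity of `lam`-power order, some element
of a given open subgroup fixes those of order `lam ^ 2` and moves another one. -/
theorem exists_moving {lam : ℕ} [hl : Fact lam.Prime] (hlam : (lam : ResidueField R) ≠ 0)
    (hstar : ∀ (k' : Type u) [Field k'] [Algebra (ResidueField R) k'],
      FiniteDimensional (ResidueField R) k' → ∃ m : ℕ, ∀ ζ : k', ¬ IsPrimitiveRoot ζ (lam ^ m))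
    (U : OpenSubgroup (Ω ≃ₐ[K] Ω)) :
    ∃ g ∈ U, (∀ ζ : Ω, ζ ^ lam ^ 2 = 1 → g ζ = ζ) ∧ ∃ (a : ℕ) (ζ : Ω), ζ ^ lam ^ a = 1 ∧ g ζ ≠ ζ := by
  have : IsSepClosed Ω := IsSepClosure.sep_closed K
  have : IsGalois K Ω := IsSepClosure.isGalois
  have hne : ∀ m : ℕ, ((lam ^ m : ℕ) : ResidueField R) ≠ 0 := fun m => by
    rw [Nat.cast_pow]; exact pow_ne_zero _ hlam
  have hprim : ∀ m : ℕ, ∃ ζ : Ω, IsPrimitiveRoot ζ (lam ^ m) := fun m => by
    have hv := KummerInertia.valuation_natCast W hW (hne m)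
    have : NeZero ((lam ^ m : ℕ) : Ω) := ⟨fun h => by rw [h, map_zero] at hv; exact zero_ne_one hv⟩
    exact HasEnoughRootsOfUnity.exists_primitiveRoot Ω _
  choose Z hZ using hprim
  by_contra hcon
  push Not at hcon
  let U' : Subgroup (Ω ≃ₐ[K] Ω) := U.toSubgroup ⊓ MulAction.stabilizer (Ω ≃ₐ[K] Ω) (Z 2)
  have hU'o : IsOpen (U' : Set (Ω ≃ₐ[K] Ω)) := U.isOpen.inter (stabilizer_isOpen_of_isIntegral (Z 2))
  have hfix : ∀ g ∈ U', ∀ m : ℕ, g (Z m) = Z m := by
    intro g hg m
    refine hcon g hg.1 (fun ζ hζ => ?_) m (Z m) (hZ m).pow_eq_one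
    have : NeZero (lam ^ 2) := ⟨pow_ne_zero _ hl.out.ne_zero⟩
    obtain ⟨i, -, rfl⟩ := (hZ 2).eq_pow_of_pow_eq_one hζ
    rw [map_pow, show g (Z 2) = Z 2 from hg.2]
  let H : ClosedSubgroup (Ω ≃ₐ[K] Ω) := ⟨U', Subgroup.isClosed_of_isOpen U' hU'o⟩
  let L := IntermediateField.fixedField U'
  have hL : FiniteDimensional K L := by
    refine (InfiniteGalois.isOpen_iff_finite L).1 ?_
    have h := InfiniteGalois.fixingSubgroup_fixedField H
    show IsOpen (L.fixingSubgroup : Set (Ω ≃ₐ[K] Ω))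
    rw [show L.fixingSubgroup = U' from h]
    exact hU'o
  let := (resMap W hW).toAlgebra
  let w : ℕ → W := fun m =>
    ⟨Z m, mem_of_isIntegral W hW _ (IsIntegral.of_pow (pow_pos hl.out.pos m) (by
      rw [(hZ m).pow_eq_one]; exact isIntegral_one))⟩
  let θ : ℕ → ResidueField W := fun m => residue W (w m)
  have hθint : ∀ m, IsIntegral (ResidueField R) (θ m) := fun m => isIntegral_residue W hW (w m)
  have hθprim : ∀ m, IsPrimitiveRoot (θ m) (lam ^ m) := by
    intro m
    refine ⟨?_, fun l hl' => ?_⟩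
    · show residue W (w m) ^ _ = 1
      rw [← map_pow, show w m ^ lam ^ m = 1 from Subtype.ext (hZ m).pow_eq_one, map_one]
    · refine (hZ m).dvd_of_pow_eq_one l (KummerInertia.eq_one_of_valuation_lt W
        (KummerInertia.valuation_natCast W hW (hne m))
        (by rw [← pow_mul, mul_comm, pow_mul, (hZ m).pow_eq_one, one_pow]) ?_)
      have h : residue W (w m ^ l - 1) = 0 := by rw [map_sub, map_one, map_pow, sub_eq_zero]; exact hl'
      rw [residue_eq_zero_iff] at h
      exact (W.valuation_lt_one_iff _).1 h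
  have hdeg : ∀ m, Module.finrank (ResidueField R) (ResidueField R)⟮θ m⟯ ≤ Module.finrank K L := by
    intro m
    have hmem : Z m ∈ L := fun g => hfix g.1 g.2 m
    have hint : IsIntegral R (Z m) := isIntegral_of_mem W hW _ (w m).2
    have h1 : (minpoly R (Z m)).natDegree ≤ Module.finrank K L := by
      rw [← (minpoly.monic hint).natDegree_map (algebraMap R K),
        ← minpoly.isIntegrallyClosed_eq_field_fractions' K hint,
        show minpoly K (Z m) = minpoly K (⟨Z m, hmem⟩ : L) from (IntermediateField.minpoly_eq (S := L) ⟨Z m, hmem⟩).symm]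
      exact minpoly.natDegree_le _
    rw [IntermediateField.adjoin.finrank (hθint m)]
    refine le_trans ?_ h1
    have h2 : aeval (θ m) ((minpoly R (Z m)).map (residue R)) = 0 := by
      rw [aeval_def, eval₂_map]
      show (minpoly R (Z m)).eval₂ ((residue W).comp (toW W hW)) (residue W (w m)) = 0
      rw [← hom_eval₂, (eval₂_toW_eq_zero_iff W hW _ (w m)).2 (minpoly.aeval R (Z m)), map_zero]
    have h3 := natDegree_le_of_dvd (minpoly.dvd _ _ h2) ((minpoly.monic hint).map _).ne_zero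
    exact h3.trans natDegree_map_le
  obtain ⟨m₀, hm₀⟩ := Nat.sSup_mem (Set.range_nonempty fun m => Module.finrank (ResidueField R) (ResidueField R)⟮θ m⟯)
    ⟨_, Set.forall_mem_range.2 hdeg⟩
  have := IntermediateField.adjoin.finiteDimensional (hθint m₀)
  obtain ⟨M, hM⟩ := hstar (ResidueField R)⟮θ m₀⟯ inferInstance
  let m := max M m₀
  have := IntermediateField.adjoin.finiteDimensional (hθint m)
  have hle : (ResidueField R)⟮θ m₀⟯ ≤ (ResidueField R)⟮θ m⟯ := by
    rw [IntermediateField.adjoin_simple_le_iff]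
    have : NeZero (lam ^ m) := ⟨pow_ne_zero _ hl.out.ne_zero⟩
    obtain ⟨i, -, hi⟩ := (hθprim m).eq_pow_of_pow_eq_one (ξ := θ m₀) (by
      obtain ⟨q, hq⟩ := pow_dvd_pow lam (le_max_right M m₀)
      rw [show lam ^ m = lam ^ m₀ * q from hq, pow_mul, (hθprim m₀).pow_eq_one, one_pow])
    rw [← hi]
    exact pow_mem (IntermediateField.mem_adjoin_simple_self _ _) i
  have heq := IntermediateField.eq_of_le_of_finrank_le hle (by
    show _ ≤ (fun m => Module.finrank (ResidueField R) (ResidueField R)⟮θ m⟯) m₀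
    rw [hm₀]
    exact le_csSup ⟨_, Set.forall_mem_range.2 hdeg⟩ ⟨m, rfl⟩)
  have hmem : θ m ^ lam ^ (m - M) ∈ (ResidueField R)⟮θ m₀⟯ := by
    rw [heq]
    exact pow_mem (IntermediateField.mem_adjoin_simple_self _ _) _
  refine hM ⟨_, hmem⟩ (IsPrimitiveRoot.of_map_of_injective (f := (ResidueField R)⟮θ m₀⟯.val) ?_
    Subtype.val_injective)
  exact (hθprim m).pow (pow_pos hl.out.pos m) (by rw [← pow_add]; congr 1; omega)

end Groth.Agent.SGA7X.InertiaTame
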