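import Mathlib

/-!
Congruence subgroups of the general linear group over the p-adic numbers.
-/

set_option autoImplicit false

namespace Groth.Agent.SGA7X.PadicGamma

open Matrix

variable {p : ℕ} [hp : Fact p.Prime] {n : ℕ}

/-- All entries are divisible by the `m`-th power of `p`. -/
def Small (m : ℕ) (M : Matrix (Fin n) (Fin n) ℚ_[p]) : Prop :=
  ∀ i j, ‖M i j‖ ≤ ‖(p : ℚ_[p])‖ ^ m

theorem norm_p_le_one : ‖(p : ℚ_[p])‖ ≤ 1 := (Padic.norm_p_lt_one (p := p)).le

theorem Small.mono {a b : ℕ} {M : Matrix (Fin n) (Fin n) ℚ_[p]} (h : Small b M) (hab : a ≤ b) : Small a M :=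
  fun i j => (h i j).trans (pow_le_pow_of_le_one (norm_nonneg _) norm_p_le_one hab)

theorem small_zero (m : ℕ) : Small m (0 : Matrix (Fin n) (Fin n) ℚ_[p]) := fun i j => by
  simp only [Matrix.zero_apply, norm_zero]
  positivity

theorem small_one : Small 0 (1 : Matrix (Fin n) (Fin n) ℚ_[p]) := fun i j => by
  rw [Matrix.one_apply, pow_zero]
  split_ifs <;> simp

theorem Small.add {m : ℕ} {M N : Matrix (Fin n) (Fin n) ℚ_[p]} (hM : Small m M) (hN : Small m N) :
    Small m (M + N) := fun i j => by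
  rw [Matrix.add_apply]
  exact (IsUltrametricDist.norm_add_le_max _ _).trans (max_le (hM i j) (hN i j))

theorem Small.neg {m : ℕ} {M : Matrix (Fin n) (Fin n) ℚ_[p]} (hM : Small m M) : Small m (-M) := fun i j => by
  rw [Matrix.neg_apply, norm_neg]
  exact hM i j

theorem Small.mul {a b : ℕ} {M N : Matrix (Fin n) (Fin n) ℚ_[p]} (hM : Small a M) (hN : Small b N) :
    Small (a + b) (M * N) := fun i j => by
  rw [Matrix.mul_apply, pow_add]
  refine IsUltrametricDist.norm_sum_le_of_forall_le_of_nonneg (by positivity) fun k _ => ?_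
  rw [norm_mul]
  exact mul_le_mul (hM i k) (hN k j) (norm_nonneg _) (by positivity)

theorem Small.sum {ι : Type*} (s : Finset ι) {m : ℕ} {f : ι → Matrix (Fin n) (Fin n) ℚ_[p]}
    (h : ∀ i ∈ s, Small m (f i)) : Small m (∑ i ∈ s, f i) :=
  Finset.sum_induction f (Small m) (fun _ _ ha hb => ha.add hb) (small_zero m) h

theorem small_of_sub_one {g : Matrix (Fin n) (Fin n) ℚ_[p]} (h : Small 0 (g - 1)) : Small 0 g := by
  have := h.add small_one
  rwa [sub_add_cancel] at this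

theorem small_mul_sub_one {m : ℕ} {g h : Matrix (Fin n) (Fin n) ℚ_[p]} (hg : Small m (g - 1))
    (hh : Small m (h - 1)) : Small m (g * h - 1) := by
  rw [show g * h - 1 = (g - 1) * (h - 1) + ((g - 1) + (h - 1)) by noncomm_ring]
  exact ((hg.mul hh).mono (Nat.le_add_left m m)).add (hg.add hh)

theorem small_pow_sub_one {m : ℕ} {g : Matrix (Fin n) (Fin n) ℚ_[p]} (hg : Small m (g - 1)) (k : ℕ) :
    Small m (g ^ k - 1) := by
  induction k with
  | zero => simpa using small_zero m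
  | succ k ih => rw [pow_succ]; exact small_mul_sub_one ih hg

theorem small_pow_prime_sub_one {m : ℕ} (hm : 1 ≤ m) {g : Matrix (Fin n) (Fin n) ℚ_[p]} (hg : Small m (g - 1)) :
    Small (m + 1) (g ^ p - 1) := by
  rw [← mul_geom_sum g p]
  refine hg.mul ?_
  rw [show ∑ i ∈ Finset.range p, g ^ i = ∑ i ∈ Finset.range p, (g ^ i - 1) + (p : Matrix (Fin n) (Fin n) ℚ_[p]) by simp]
  refine (Small.sum _ fun i _ => (small_pow_sub_one hg i).mono hm).add fun i j => ?_
  rw [Matrix.natCast_apply, pow_one]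
  split_ifs
  · exact le_rfl
  · simp

variable (p n) in
/-- The congruence subgroup of level `m`. -/
def Γ (m : ℕ) : Subgroup (Matrix.GeneralLinearGroup (Fin n) ℚ_[p]) where
  carrier := {g | Small m ((g : Matrix (Fin n) (Fin n) ℚ_[p]) - 1) ∧
    Small m (((g⁻¹ : Matrix.GeneralLinearGroup (Fin n) ℚ_[p]) : Matrix (Fin n) (Fin n) ℚ_[p]) - 1)}
  one_mem' := by constructor <;> simpa using small_zero m
  mul_mem' := fun {g h} hg hh => by
    refine ⟨?_, ?_⟩
    · rw [Units.val_mul]; exact small_mul_sub_one hg.1 hh.1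
    · rw [_root_.mul_inv_rev, Units.val_mul]; exact small_mul_sub_one hh.2 hg.2
  inv_mem' := fun {g} hg => ⟨hg.2, by rw [inv_inv]; exact hg.1⟩

theorem mem_Γ {m : ℕ} {g : Matrix.GeneralLinearGroup (Fin n) ℚ_[p]} :
    g ∈ Γ p n m ↔ Small m ((g : Matrix (Fin n) (Fin n) ℚ_[p]) - 1) ∧
      Small m (((g⁻¹ : Matrix.GeneralLinearGroup (Fin n) ℚ_[p]) : Matrix (Fin n) (Fin n) ℚ_[p]) - 1) := Iff.rfl

theorem Γ_anti {a b : ℕ} (h : a ≤ b) : Γ p n b ≤ Γ p n a := fun _ hg => ⟨hg.1.mono h, hg.2.mono h⟩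

theorem isOpen_Γ (m : ℕ) : IsOpen (Γ p n m : Set (Matrix.GeneralLinearGroup (Fin n) ℚ_[p])) := by
  have hε : ‖(p : ℚ_[p])‖ ^ m ≠ 0 := pow_ne_zero _ (norm_ne_zero_iff.2 (Nat.cast_ne_zero.2 hp.out.ne_zero))
  have hS : IsOpen {M : Matrix (Fin n) (Fin n) ℚ_[p] | Small m (M - 1)} := by
    simp only [Small, Set.setOf_forall]
    refine isOpen_iInter_of_finite fun i => isOpen_iInter_of_finite fun j => ?_
    have hb := (IsUltrametricDist.isOpen_closedBall ((1 : Matrix (Fin n) (Fin n) ℚ_[p]) i j) hε).preimage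
      ((continuous_apply j).comp (continuous_apply i) : Continuous fun M : Matrix (Fin n) (Fin n) ℚ_[p] => M i j)
    convert hb using 1
    ext M
    simp [dist_eq_norm]
  exact (hS.preimage Units.continuous_val).inter (hS.preimage Units.continuous_coe_inv)

theorem conj_mem_Γ {m : ℕ} {g h : Matrix.GeneralLinearGroup (Fin n) ℚ_[p]} (hg : g ∈ Γ p n 0)
    (hh : h ∈ Γ p n m) : g * h * g⁻¹ ∈ Γ p n m := by
  have aux : ∀ k : Matrix.GeneralLinearGroup (Fin n) ℚ_[p], Small m ((k : Matrix (Fin n) (Fin n) ℚ_[p]) - 1) →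
      Small m (((g * k * g⁻¹ : Matrix.GeneralLinearGroup (Fin n) ℚ_[p]) : Matrix (Fin n) (Fin n) ℚ_[p]) - 1) := by
    intro k hk
    rw [Units.val_mul, Units.val_mul,
      show (g : Matrix (Fin n) (Fin n) ℚ_[p]) * (k : Matrix (Fin n) (Fin n) ℚ_[p]) *
        ((g⁻¹ : Matrix.GeneralLinearGroup (Fin n) ℚ_[p]) : Matrix (Fin n) (Fin n) ℚ_[p]) - 1 =
        (g : Matrix (Fin n) (Fin n) ℚ_[p]) * ((k : Matrix (Fin n) (Fin n) ℚ_[p]) - 1) *
        ((g⁻¹ : Matrix.GeneralLinearGroup (Fin n) ℚ_[p]) : Matrix (Fin n) (Fin n) ℚ_[p]) by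
      rw [mul_sub, sub_mul, mul_one, Units.mul_inv]]
    have := ((small_of_sub_one hg.1).mul hk).mul (small_of_sub_one hg.2)
    simpa using this
  refine ⟨aux h hh.1, ?_⟩
  rw [_root_.mul_inv_rev, _root_.mul_inv_rev, inv_inv, ← mul_assoc]
  exact aux _ hh.2

theorem pow_mem_Γ {g : Matrix.GeneralLinearGroup (Fin n) ℚ_[p]} (hg : g ∈ Γ p n 2) (m : ℕ) :
    g ^ p ^ m ∈ Γ p n (2 + m) := by
  induction m with
  | zero => simpa using hg
  | succ m ih =>
    rw [pow_succ, pow_mul]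
    refine ⟨?_, ?_⟩
    · rw [Units.val_pow_eq_pow_val]
      exact small_pow_prime_sub_one (m := 2 + m) (by omega) ih.1
    · rw [← inv_pow, Units.val_pow_eq_pow_val]
      exact small_pow_prime_sub_one (m := 2 + m) (by omega) ih.2

/-- Matrices with small entries lift to the integers. -/
theorem exists_lift {m : ℕ} {M : Matrix (Fin n) (Fin n) ℚ_[p]} (h : Small m M) :
    ∃ A : Matrix (Fin n) (Fin n) ℤ_[p], ((p : ℤ_[p]) ^ m • A).map PadicInt.Coe.ringHom = M := by
  have hp0 : (p : ℚ_[p]) ≠ 0 := Nat.cast_ne_zero.2 hp.out.ne_zero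
  refine ⟨Matrix.of fun i j => ⟨M i j / (p : ℚ_[p]) ^ m, ?_⟩, ?_⟩
  · rw [norm_div, norm_pow]
    exact (div_le_one (pow_pos (norm_pos_iff.2 hp0) _)).2 (h i j)
  · ext i j
    show (((p : ℤ_[p]) ^ m * _ : ℤ_[p]) : ℚ_[p]) = _
    rw [PadicInt.coe_mul, PadicInt.coe_pow, PadicInt.coe_natCast]
    exact mul_div_cancel₀ _ (pow_ne_zero _ hp0)

theorem exists_integral_lift {M : Matrix (Fin n) (Fin n) ℚ_[p]} (h : Small 0 M) :
    ∃ A : Matrix (Fin n) (Fin n) ℤ_[p], A.map PadicInt.Coe.ringHom = M := by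
  obtain ⟨A, hA⟩ := exists_lift h
  exact ⟨A, by simpa using hA⟩

theorem coe_mapMatrix_injective :
    Function.Injective ((PadicInt.Coe.ringHom (p := p)).mapMatrix (m := Fin n)) := fun A B h => by
  ext i j
  exact Subtype.ext (congrFun (congrFun h i) j)

/-- Congruent conjugate matrices have congruent characteristic polynomials. -/
theorem charpoly_congr {g t s : Matrix.GeneralLinearGroup (Fin n) ℚ_[p]} (hg : g ∈ Γ p n 0)
    {X : Matrix (Fin n) (Fin n) ℤ_[p]} (hX : X.map PadicInt.Coe.ringHom = (t : Matrix (Fin n) (Fin n) ℚ_[p]))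
    {c m : ℕ} (h : g * t * g⁻¹ = t ^ c * s) (hs : s ∈ Γ p n m) :
    X.charpoly.map (PadicInt.toZModPow m) = (X ^ c).charpoly.map (PadicInt.toZModPow m) := by
  let ι := (PadicInt.Coe.ringHom (p := p)).mapMatrix (m := Fin n)
  obtain ⟨G, hG⟩ := exists_integral_lift (small_of_sub_one hg.1)
  obtain ⟨G', hG'⟩ := exists_integral_lift (small_of_sub_one hg.2)
  change ι G = _ at hG
  change ι G' = _ at hG'
  change ι X = _ at hX
  have h1 : G * G' = 1 := coe_mapMatrix_injective (show ι (G * G') = ι 1 by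
    rw [map_mul, map_one, hG, hG', Units.mul_inv])
  have h2 : G' * G = 1 := coe_mapMatrix_injective (show ι (G' * G) = ι 1 by
    rw [map_mul, map_one, hG, hG', Units.inv_mul])
  let u : (Matrix (Fin n) (Fin n) ℤ_[p])ˣ := ⟨G, G', h1, h2⟩
  have hcp : (G * X * G').charpoly = X.charpoly := by
    have h3 := Matrix.charpoly_units_conj u X
    rw [← Matrix.coe_units_inv] at h3
    exact h3
  rw [← hcp, ← Matrix.charpoly_map, ← Matrix.charpoly_map]
  congr 1
  ext i j
  simp only [Matrix.map_apply]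
  rw [← sub_eq_zero, ← map_sub, ← RingHom.mem_ker, PadicInt.ker_toZModPow,
    ← PadicInt.norm_le_pow_iff_mem_span_pow]
  have hint : Small 0 ((t : Matrix (Fin n) (Fin n) ℚ_[p]) ^ c) := by
    rw [← hX, ← map_pow]
    intro a b
    rw [pow_zero]
    exact PadicInt.norm_le_one _
  have hd : ι (G * X * G' - X ^ c) = (t : Matrix (Fin n) (Fin n) ℚ_[p]) ^ c *
      ((s : Matrix (Fin n) (Fin n) ℚ_[p]) - 1) := by
    rw [map_sub, map_mul, map_mul, map_pow, hG, hX, hG', ← Units.val_mul, ← Units.val_mul, h, Units.val_mul,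
      Units.val_pow_eq_pow_val, mul_sub, mul_one]
  have h3 := (hint.mul hs.1) i j
  rw [← hd, zero_add, Padic.norm_p, inv_pow] at h3
  rw [_root_.zpow_neg, zpow_natCast, PadicInt.norm_def]
  exact h3

end Groth.Agent.SGA7X.PadicGamma
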