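import Mathlib

/-!
A matrix congruent to one whose characteristic polynomial is congruent to that of powers with exponents
tending to an element of infinite order is unipotent.
-/

set_option autoImplicit false

namespace Groth.Agent.SGA7X.PadicPow

open Polynomial Matrix

section Field

variable {L : Type*} [NormedField L] [IsUltrametricDist L]

theorem norm_pow_le_one {x : L} (hx : ‖x‖ ≤ 1) (k : ℕ) : ‖x ^ k‖ ≤ 1 := by
  rw [norm_pow]
  exact pow_le_one₀ (norm_nonneg x) hx

theorem norm_le_one_of_sub_one {x : L} (hx : ‖x - 1‖ ≤ 1) : ‖x‖ ≤ 1 := by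
  rw [show x = (x - 1) + 1 by ring]
  exact (IsUltrametricDist.norm_add_le_max _ _).trans (max_le hx (by rw [norm_one]))

theorem norm_pow_sub_pow_le {x y : L} (hx : ‖x‖ ≤ 1) (hy : ‖y‖ ≤ 1) (k : ℕ) : ‖x ^ k - y ^ k‖ ≤ ‖x - y‖ := by
  rw [← geom_sum₂_mul, norm_mul]
  refine mul_le_of_le_one_left (norm_nonneg _) ?_
  refine IsUltrametricDist.norm_sum_le_of_forall_le_of_nonneg zero_le_one fun i _ => ?_
  rw [norm_mul]
  exact mul_le_one₀ (norm_pow_le_one hx _) (norm_nonneg _) (norm_pow_le_one hy _)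

theorem norm_pow_sub_one_eq (p : ℕ) (hp : p.Prime) (hp0 : 0 < ‖(p : L)‖) (hp1 : ‖(p : L)‖ < 1)
    (hunit : ∀ k : ℕ, ¬ p ∣ k → ‖(k : L)‖ = 1) (N : ℕ) :
    ∀ x : L, ‖x - 1‖ ≤ ‖(p : L)‖ ^ 2 → ‖x ^ N - 1‖ = ‖(N : L)‖ * ‖x - 1‖ := by
  induction N using Nat.strong_induction_on with
  | _ N ih =>
    intro x hx
    have hlt : ‖x - 1‖ < ‖(p : L)‖ := lt_of_le_of_lt hx (by nlinarith)
    have hx1 : ‖x‖ ≤ 1 := norm_le_one_of_sub_one (hlt.trans hp1).le
    have base : ∀ k : ℕ, ‖x - 1‖ < ‖(k : L)‖ → ‖x ^ k - 1‖ = ‖(k : L)‖ * ‖x - 1‖ := by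
      intro k hk
      rw [← geom_sum_mul, norm_mul]
      congr 1
      have h : ‖∑ i ∈ Finset.range k, (x ^ i - 1)‖ < ‖(k : L)‖ := by
        refine lt_of_le_of_lt (IsUltrametricDist.norm_sum_le_of_forall_le_of_nonneg (norm_nonneg _) fun i _ => ?_) hk
        simpa using norm_pow_sub_pow_le hx1 (norm_one (α := L)).le i
      rw [show ∑ i ∈ Finset.range k, x ^ i = ∑ i ∈ Finset.range k, (x ^ i - 1) + (k : L) by simp,
        IsUltrametricDist.norm_add_eq_max_of_norm_ne_norm h.ne, max_eq_right h.le]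
    rcases Nat.eq_zero_or_pos N with rfl | hN
    · simp
    by_cases hd : p ∣ N
    · obtain ⟨M, rfl⟩ := hd
      have hM : M < p * M := by
        have := hp.one_lt
        have hM0 : 0 < M := Nat.pos_of_mul_pos_left hN
        nlinarith
      have h1 := base p hlt
      rw [pow_mul, ih M hM (x ^ p) ?_, h1, Nat.cast_mul, norm_mul]
      · ring
      · rw [h1]
        exact (mul_le_of_le_one_left (norm_nonneg _) hp1.le).trans hx
    · exact base N (by rw [hunit N hd]; exact hlt.trans hp1)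

theorem exists_pow_le_prod (α : L) (R : Multiset L) (hR : R ≠ 0) :
    ∃ r ∈ R, ‖α - r‖ ^ Multiset.card R ≤ (R.map fun r => ‖α - r‖).prod := by
  classical
  obtain ⟨r, hr, hmin⟩ := Finset.exists_min_image R.toFinset (fun r => ‖α - r‖) (by simpa using hR)
  refine ⟨r, Multiset.mem_toFinset.1 hr, ?_⟩
  have key : ∀ T : Multiset L, (∀ t ∈ T, ‖α - r‖ ≤ ‖α - t‖) →
      ‖α - r‖ ^ Multiset.card T ≤ (T.map fun r => ‖α - r‖).prod := by
    intro T
    induction T using Multiset.induction with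
    | empty => simp
    | cons a T ih =>
      intro h
      rw [Multiset.card_cons, pow_succ', Multiset.map_cons, Multiset.prod_cons]
      exact mul_le_mul (h a (Multiset.mem_cons_self a T)) (ih fun t ht => h t (Multiset.mem_cons_of_mem ht))
        (pow_nonneg (norm_nonneg _) _) (norm_nonneg _)
  exact key R fun t ht => hmin t (Multiset.mem_toFinset.2 ht)

end Field

theorem isNilpotent_sub_one (p : ℕ) [hp : Fact p.Prime] {n : ℕ} (A : Matrix (Fin n) (Fin n) ℤ_[p]) (c : ℕ → ℕ)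
    (hc1 : ∀ m, (p : ℤ) ^ 2 ∣ (c m : ℤ) - 1) (a : ℕ) (hca : ∀ m, a ≤ m → ¬ (p : ℤ) ^ a ∣ (c m : ℤ) - 1)
    (hconj : ∀ m, 1 ≤ m → ((1 + (p : ℤ_[p]) ^ 2 • A).charpoly.map (PadicInt.toZModPow m)) =
      ((1 + (p : ℤ_[p]) ^ 2 • A) ^ c m).charpoly.map (PadicInt.toZModPow m)) :
    IsNilpotent ((1 + (p : ℤ_[p]) ^ 2 • A).map PadicInt.Coe.ringHom - 1) := by
  classical
  let L := PadicAlgCl p
  haveI : IsUltrametricDist L := IsUltrametricDist.isUltrametricDist_of_isNonarchimedean_norm (PadicAlgCl.isNonarchimedean p)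
  let φ : ℤ_[p] →+* L := (algebraMap ℚ_[p] L).comp PadicInt.Coe.ringHom
  have hφ : ∀ x, ‖φ x‖ = ‖x‖ := fun x => by
    show ‖algebraMap ℚ_[p] L (x : ℚ_[p])‖ = _
    rw [norm_algebraMap']
    rfl
  have hnat : ∀ k : ℕ, ‖(k : L)‖ = ‖(k : ℚ_[p])‖ := fun k => by
    rw [← map_natCast (algebraMap ℚ_[p] L), norm_algebraMap']
  have hpn : ‖(p : L)‖ = (p : ℝ)⁻¹ := by rw [hnat, Padic.norm_p]
  have hp0 : 0 < ‖(p : L)‖ := by rw [hpn]; exact inv_pos.2 (Nat.cast_pos.2 hp.out.pos)
  have hp1 : ‖(p : L)‖ < 1 := by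
    rw [hpn]
    exact inv_lt_one_of_one_lt₀ (by exact_mod_cast hp.out.one_lt)
  have hunit : ∀ k : ℕ, ¬ p ∣ k → ‖(k : L)‖ = 1 := fun k hk => by
    rw [hnat]
    have h := (Padic.norm_natCast_eq_one_iff (p := p) (n := k)).2 ((hp.out.coprime_iff_not_dvd).2 hk)
    exact h
  have hint : ∀ (d : ℤ) (b : ℕ), ‖(d : L)‖ ≤ ‖(p : L)‖ ^ b ↔ (p : ℤ) ^ b ∣ d := fun d b => by
    rw [← map_intCast (algebraMap ℚ_[p] L), norm_algebraMap', hpn, ← Padic.norm_int_le_pow_iff_dvd,
      inv_pow, _root_.zpow_neg, zpow_natCast]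
  set X := 1 + (p : ℤ_[p]) ^ 2 • A with hX
  set XL : Matrix (Fin n) (Fin n) L := X.map φ with hXL
  set AL : Matrix (Fin n) (Fin n) L := A.map φ with hAL
  have hXA : XL = 1 + (p : L) ^ 2 • AL := by
    ext i j
    simp [hXL, hAL, hX, Matrix.one_apply, apply_ite φ]
  -- the eigenvalues are close to one
  have hclose : ∀ α : L, XL.charpoly.IsRoot α → ‖α - 1‖ ≤ ‖(p : L)‖ ^ 2 := by
    intro α hα
    have hp2 : (p : L) ^ 2 ≠ 0 := pow_ne_zero _ (norm_pos_iff.1 hp0)
    set β := (α - 1) / (p : L) ^ 2 with hβ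
    have hroot : AL.charpoly.IsRoot β := by
      rw [← Matrix.mem_spectrum_iff_isRoot_charpoly] at hα ⊢
      rw [hXA, ← map_one (algebraMap L (Matrix (Fin n) (Fin n) L)),
        show α = 1 + (α - 1) by ring, ← spectrum.singleton_add_eq] at hα
      obtain ⟨_, rfl, q, hq, hq'⟩ := hα
      rw [show (p : L) ^ 2 • AL = Units.mk0 _ hp2 • AL from rfl, spectrum.unit_smul_eq_smul] at hq
      obtain ⟨q', hq'', rfl⟩ := hq
      have : q' = β := by
        rw [hβ, eq_div_iff hp2, ← add_left_cancel hq', mul_comm]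
        rfl
      rwa [← this]
    have hβ1 : ‖β‖ ≤ 1 := by
      by_contra hgt
      push Not at hgt
      have hmon : AL.charpoly.Monic := Matrix.charpoly_monic _
      have h := hroot
      rw [Polynomial.IsRoot, Polynomial.eval_eq_sum_range, Finset.sum_range_succ, hmon.coeff_natDegree, one_mul] at h
      have hlt : ‖∑ i ∈ Finset.range AL.charpoly.natDegree, AL.charpoly.coeff i * β ^ i‖ <
          ‖β ^ AL.charpoly.natDegree‖ := by
        rcases Nat.eq_zero_or_pos AL.charpoly.natDegree with h0 | h0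
        · simp [h0] at h
        refine lt_of_le_of_lt (IsUltrametricDist.norm_sum_le_of_forall_le_of_nonneg (pow_nonneg (norm_nonneg β)
          (AL.charpoly.natDegree - 1)) fun i hi => ?_) ?_
        · rw [norm_mul, norm_pow]
          refine (mul_le_of_le_one_left (pow_nonneg (norm_nonneg _) _) ?_).trans
            (pow_le_pow_right₀ hgt.le (by simp only [Finset.mem_range] at hi; omega))
          rw [hAL, Matrix.charpoly_map, Polynomial.coeff_map, hφ]
          exact PadicInt.norm_le_one _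
        · rw [norm_pow]
          exact pow_lt_pow_right₀ hgt (by omega)
      rw [add_eq_zero_iff_eq_neg] at h
      rw [h, norm_neg] at hlt
      exact lt_irrefl _ hlt
    rw [show α - 1 = (p : L) ^ 2 * β by rw [hβ, mul_div_cancel₀ _ hp2], norm_mul, norm_pow]
    exact mul_le_of_le_one_right (pow_nonneg (norm_nonneg _) _) hβ1
  have hroot1 : ∀ α : L, XL.charpoly.IsRoot α → ‖α‖ = 1 := by
    intro α hα
    have h : ‖α - 1‖ < 1 := lt_of_le_of_lt (hclose α hα) (pow_lt_one₀ (norm_nonneg _) hp1 two_ne_zero)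
    rw [show α = (α - 1) + 1 by ring, IsUltrametricDist.norm_add_eq_max_of_norm_ne_norm (by rw [norm_one]; exact h.ne),
      norm_one, max_eq_right h.le]
  suffices hone : ∀ α : L, XL.charpoly.IsRoot α → α = 1 by
    have hnil : IsNilpotent (XL - 1) := by
      refine ⟨n, ?_⟩
      have hsp := (IsAlgClosed.splits XL.charpoly).eq_prod_roots_of_monic (Matrix.charpoly_monic XL)
      have hroots : XL.charpoly.roots = Multiset.replicate n 1 := by
        rw [Multiset.eq_replicate]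
        refine ⟨?_, fun α hα => hone α (Polynomial.isRoot_of_mem_roots hα)⟩
        rw [← (IsAlgClosed.splits XL.charpoly).natDegree_eq_card_roots, Matrix.charpoly_natDegree_eq_dim,
          Fintype.card_fin]
      have h := Matrix.aeval_self_charpoly XL
      rw [hsp, hroots, Multiset.map_replicate, Multiset.prod_replicate, map_pow, map_sub, aeval_X, aeval_C,
        map_one] at h
      exact h
    have hmap : XL - 1 = (algebraMap ℚ_[p] L).mapMatrix (X.map PadicInt.Coe.ringHom - 1) := by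
      rw [map_sub, map_one]
      rfl
    rw [hmap] at hnil
    obtain ⟨k, hk⟩ := hnil
    refine ⟨k, ?_⟩
    rw [← map_pow] at hk
    ext i j
    have := congrFun (congrFun hk i) j
    exact (algebraMap ℚ_[p] L).injective (by simpa using this)
  -- the permutation of the eigenvalues
  intro α₀ hα₀
  let S := {α : L // XL.charpoly.IsRoot α}
  have hne0 : XL.charpoly ≠ 0 := (Matrix.charpoly_monic XL).ne_zero
  haveI : Finite S := (Polynomial.finite_setOf_isRoot hne0).to_subtype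
  have hn : 0 < n := by
    rcases Nat.eq_zero_or_pos n with rfl | h
    · exfalso
      rw [Polynomial.IsRoot, Matrix.charpoly_isEmpty (R := L), eval_one] at hα₀
      exact one_ne_zero hα₀
    · exact h
  have hc0 : ∀ m, 0 < c m := fun m => by
    rcases Nat.eq_zero_or_pos (c m) with h | h
    · exfalso
      have := hc1 m
      rw [h, Nat.cast_zero, zero_sub, dvd_neg] at this
      have h2 := Int.le_of_dvd one_pos this
      have : (1 : ℤ) < (p : ℤ) ^ 2 := one_lt_pow₀ (by exact_mod_cast hp.out.one_lt) two_ne_zero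
      omega
    · exact h
  have hπ : ∀ (m : ℕ), 1 ≤ m → ∀ α : S, ∃ γ : S, ‖α.1 - γ.1 ^ c m‖ ^ n ≤ ‖(p : L)‖ ^ m := by
    intro m hm α
    set Y := XL ^ c m with hY
    have hYmap : Y = (X ^ c m).map φ := (map_pow φ.mapMatrix X (c m)).symm
    have hev' : ∀ x : L, XL.charpoly.IsRoot x → ‖x‖ = 1 → ‖Y.charpoly.eval x‖ ≤ ‖(p : L)‖ ^ m := by
      intro x hx hx1
      have h0 : (X.charpoly.map φ).eval x = 0 := by
        rw [← Matrix.charpoly_map]
        exact hx
      have hz : Y.charpoly.eval x = (((X ^ c m).charpoly - X.charpoly).map φ).eval x := by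
        rw [Polynomial.map_sub, eval_sub, h0, sub_zero, hYmap, Matrix.charpoly_map]
      rw [hz, Polynomial.eval_eq_sum_range]
      refine IsUltrametricDist.norm_sum_le_of_forall_le_of_nonneg (pow_nonneg (norm_nonneg _) _) fun i _ => ?_
      rw [norm_mul, norm_pow, hx1, one_pow, mul_one, Polynomial.coeff_map, hφ, hpn]
      have hmem : ((X ^ c m).charpoly - X.charpoly).coeff i ∈ Ideal.span {(p : ℤ_[p]) ^ m} := by
        rw [← PadicInt.ker_toZModPow, RingHom.mem_ker, Polynomial.coeff_sub, map_sub, ← Polynomial.coeff_map,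
          ← Polynomial.coeff_map, hconj m hm, sub_self]
      simpa [_root_.zpow_neg] using (PadicInt.norm_le_pow_iff_mem_span_pow _ m).2 hmem
    have hev := hev' α.1 α.2 (hroot1 α.1 α.2)
    have hsp := (IsAlgClosed.splits Y.charpoly).eq_prod_roots_of_monic (Matrix.charpoly_monic Y)
    have hcard : Multiset.card Y.charpoly.roots = n := by
      rw [← (IsAlgClosed.splits Y.charpoly).natDegree_eq_card_roots, Matrix.charpoly_natDegree_eq_dim,
        Fintype.card_fin]
    obtain ⟨r, hr, hle⟩ := exists_pow_le_prod α.1 Y.charpoly.roots (fun h => by rw [h] at hcard; simp at hcard; omega)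
    have hprod : (Y.charpoly.roots.map fun r => ‖α.1 - r‖).prod = ‖Y.charpoly.eval α.1‖ := by
      conv_rhs => rw [hsp, eval_multiset_prod]
      have hnp : ∀ T : Multiset L, ‖T.prod‖ = (T.map norm).prod := fun T => map_multiset_prod (normHom : L →*₀ ℝ) T
      rw [hnp, Multiset.map_map, Multiset.map_map]
      simp [Function.comp_def]
    rw [hcard, hprod] at hle
    have hrs : r ∈ spectrum L Y := Matrix.mem_spectrum_iff_isRoot_charpoly.2 (Polynomial.isRoot_of_mem_roots hr)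
    rw [hY, spectrum.map_pow_of_pos _ (hc0 m)] at hrs
    obtain ⟨γ, hγ, rfl⟩ := hrs
    exact ⟨⟨γ, Matrix.mem_spectrum_iff_isRoot_charpoly.1 hγ⟩, hle.trans hev⟩
  choose g hg using hπ
  obtain ⟨π, hπinf⟩ := Finite.exists_infinite_fiber (fun m : ℕ => (g (m + 1) (by omega) : S → S))
  rw [Set.infinite_coe_iff] at hπinf
  have hlim : ∀ x : ℝ, 0 ≤ x → (∀ m ∈ (fun m : ℕ => (g (m + 1) (by omega) : S → S)) ⁻¹' {π}, a ≤ m + 1 → x ^ n ≤ ‖(p : L)‖ ^ m) → x = 0 := by
    intro x hx h
    refine le_antisymm (le_of_not_gt fun hpos => ?_) hx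
    obtain ⟨b, hb⟩ := exists_pow_lt_of_lt_one (pow_pos hpos n) hp1
    obtain ⟨m, hm, hbm⟩ := hπinf.exists_gt (max b a)
    exact absurd ((h m hm (by omega)).trans (pow_le_pow_of_le_one (norm_nonneg _) hp1.le (by omega : b ≤ m))) (not_le.2 hb)
  have hgm : ∀ m ∈ (fun m : ℕ => (g (m + 1) (by omega) : S → S)) ⁻¹' {π}, ∀ α : S,
      ‖α.1 - (π α).1 ^ c (m + 1)‖ ^ n ≤ ‖(p : L)‖ ^ m := by
    intro m hm α
    rw [← (hm : g (m + 1) _ = π)]
    exact (hg (m + 1) (by omega) α).trans (pow_le_pow_of_le_one (norm_nonneg _) hp1.le (Nat.le_succ m))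
  have hinj : Function.Injective π := by
    intro α β hab
    refine Subtype.ext (sub_eq_zero.1 (norm_eq_zero.1 (hlim _ (norm_nonneg _) fun m hm _ => ?_)))
    have h1 := hgm m hm α
    have h2 := hgm m hm β
    rw [hab] at h1
    rcases le_total ‖α.1 - (π β).1 ^ c (m + 1)‖ ‖β.1 - (π β).1 ^ c (m + 1)‖ with h | h
    · refine le_trans (pow_le_pow_left₀ (norm_nonneg _) ?_ n) h2
      refine le_trans ?_ (max_le h le_rfl)
      rw [show α.1 - β.1 = (α.1 - (π β).1 ^ c (m + 1)) + ((π β).1 ^ c (m + 1) - β.1) by ring,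
        norm_sub_rev β.1]
      exact IsUltrametricDist.norm_add_le_max _ _
    · refine le_trans (pow_le_pow_left₀ (norm_nonneg _) ?_ n) h1
      refine le_trans ?_ (max_le le_rfl h)
      rw [show α.1 - β.1 = (α.1 - (π β).1 ^ c (m + 1)) + ((π β).1 ^ c (m + 1) - β.1) by ring,
        norm_sub_rev β.1]
      exact IsUltrametricDist.norm_add_le_max _ _
  let e : Equiv.Perm S := Equiv.ofBijective π ⟨hinj, Finite.injective_iff_surjective.1 hinj⟩
  let l := orderOf e
  have hl : 0 < l := orderOf_pos e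
  have hel : ∀ β : S, π^[l] β = β := fun β => by
    have h := Equiv.Perm.ext_iff.1 (pow_orderOf_eq_one e) β
    rw [Equiv.Perm.coe_pow] at h
    exact h
  have hfin : ‖(l : L)‖ * ‖(p : L)‖ ^ a * ‖α₀ - 1‖ = 0 := by
    refine hlim _ (by positivity) fun m hm hle => ?_
    have hiter : ∀ j : ℕ, ∀ β : S, ‖β.1 - ((π^[j]) β).1 ^ (c (m + 1) ^ j)‖ ^ n ≤ ‖(p : L)‖ ^ m := by
      intro j
      induction j with
      | zero => intro β; simp [zero_pow hn.ne']
      | succ j ih =>
        intro β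
        rw [Function.iterate_succ_apply']
        set γ := (π^[j]) β
        have h1 := ih β
        have h2 : ‖γ.1 ^ (c (m + 1) ^ j) - (π γ).1 ^ (c (m + 1) ^ (j + 1))‖ ≤ ‖γ.1 - (π γ).1 ^ c (m + 1)‖ := by
          rw [pow_succ', pow_mul]
          exact norm_pow_sub_pow_le (hroot1 _ γ.2).le (norm_pow_le_one (hroot1 _ (π γ).2).le _) _
        have h3 := IsUltrametricDist.norm_add_le_max (β.1 - γ.1 ^ (c (m + 1) ^ j))
          (γ.1 ^ (c (m + 1) ^ j) - (π γ).1 ^ (c (m + 1) ^ (j + 1)))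
        rw [sub_add_sub_cancel] at h3
        rcases le_max_iff.1 h3 with h | h
        · exact (pow_le_pow_left₀ (norm_nonneg _) h n).trans h1
        · exact (pow_le_pow_left₀ (norm_nonneg _) (h.trans h2) n).trans (hgm m hm γ)
    have h := hiter l ⟨α₀, hα₀⟩
    rw [hel] at h
    refine (pow_le_pow_left₀ (by positivity) ?_ n).trans h
    obtain ⟨N, hN⟩ : ∃ N, c (m + 1) ^ l = N + 1 := ⟨c (m + 1) ^ l - 1, by have := pow_pos (hc0 (m + 1)) l; omega⟩
    have hcc : ‖(c (m + 1) : L) - 1‖ ≤ ‖(p : L)‖ ^ 2 := by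
      have := (hint ((c (m + 1) : ℤ) - 1) 2).2 (hc1 _)
      simpa using this
    have hca' : ‖(p : L)‖ ^ a ≤ ‖(c (m + 1) : L) - 1‖ := by
      by_contra hlt
      push Not at hlt
      exact hca (m + 1) hle ((hint _ a).1 (by simpa using hlt.le))
    have hNn : ‖(N : L)‖ = ‖(l : L)‖ * ‖(c (m + 1) : L) - 1‖ := by
      rw [← norm_pow_sub_one_eq p hp.out hp0 hp1 hunit l _ hcc, ← Nat.cast_pow, hN]
      simp
    show _ ≤ ‖α₀ - α₀ ^ (c (m + 1) ^ l)‖
    rw [hN, show α₀ - α₀ ^ (N + 1) = -(α₀ * (α₀ ^ N - 1)) by ring, norm_neg, norm_mul, hroot1 _ hα₀, one_mul,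
      norm_pow_sub_one_eq p hp.out hp0 hp1 hunit N _ (hclose _ hα₀), hNn]
    gcongr
  have hl0 : ‖(l : L)‖ ≠ 0 := norm_ne_zero_iff.2 (by
    rw [← map_natCast (algebraMap ℚ_[p] L)]
    exact (_root_.map_ne_zero _).2 (Nat.cast_ne_zero.2 hl.ne'))
  have := (mul_eq_zero.1 hfin).resolve_left (mul_ne_zero hl0 (pow_ne_zero _ hp0.ne'))
  exact sub_eq_zero.1 (norm_eq_zero.1 this)

end Groth.Agent.SGA7X.PadicPow
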