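import Groth.Agent.H23.MulEtale
import Groth.Agent.GrpSchLib.UnramifiedFibre
import Mathlib.CategoryTheory.Monoidal.CommMon_

/-!
Multiplication by an invertible integer on a smooth commutative group scheme is etale on a clopen
neighbourhood of the unit section.
-/

set_option autoImplicit false

universe u

open CategoryTheory Limits AlgebraicGeometry MonoidalCategory CartesianMonoidalCategory MonObj
open scoped TensorProduct
open Groth.Agent.H23

namespace Groth.Agent.SGA7X

theorem formallyUnramified_pow_of_comm {S : Scheme.{u}} (X : Over S) [GrpObj X] [IsCommMonObj X]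
    [LocallyOfFiniteType X.hom] (n : ℕ) (hn : IsUnit (n : Γ(S, ⊤))) :
    FormallyUnramified (𝟙 X ^ n : X ⟶ X).left := by
  have : LocallyOfFiniteType (𝟙 X ^ n : X ⟶ X).left := by
    have : LocallyOfFiniteType ((𝟙 X ^ n : X ⟶ X).left ≫ X.hom) := by rw [Over.w]; infer_instance
    exact locallyOfFiniteType_of_comp _ X.hom
  refine GrpSchLib.formallyUnramified_of_fibres _ fun y => ?_
  let L := AlgebraicClosure (X.left.residueField y)
  let g : Spec (CommRingCat.of L) ⟶ Spec (X.left.residueField y) :=
    Spec.map (CommRingCat.ofHom (algebraMap (X.left.residueField y) L))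
  let r := X.left.fromSpecResidueField y
  let q := g ≫ r
  let σ := q ≫ X.hom
  let Xk := (Over.pullback σ).obj X
  let : GrpObj Xk := Functor.grpObjObj
  have : IsCommMonObj Xk := by infer_instance
  have : LocallyOfFiniteType Xk.hom := inferInstanceAs (LocallyOfFiniteType (pullback.snd X.hom σ))
  have hnL : (n : L) ≠ 0 := by
    have h := hn.map ((σ.appTop ≫ (Scheme.ΓSpecIso (CommRingCat.of L)).hom).hom)
    rw [map_natCast] at h
    exact h.ne_zero
  let fL := ((Over.pullback σ).map (𝟙 X ^ n)).left
  have hfL : FormallyUnramified fL := by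
    show FormallyUnramified ((Over.pullback σ).map (𝟙 X ^ n)).left
    rw [MulEtale.map_pow σ n]
    exact MulTangent.formallyUnramified_pow Xk n hnL
  set f := (𝟙 X ^ n : X ⟶ X).left
  let qk : Spec (CommRingCat.of L) ⟶ pullback X.hom σ := pullback.lift q (𝟙 _) (Category.id_comp _).symm
  have hqk : qk ≫ pullback.fst X.hom σ = q := pullback.lift_fst _ _ _
  have h1 : IsPullback (pullback.fst fL qk ≫ pullback.fst X.hom σ) (pullback.snd fL qk) f q := by
    have := (IsPullback.of_hasPullback fL qk).paste_horiz (MulEtale.isPullback_map σ (𝟙 X ^ n))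
    rwa [hqk] at this
  have h2 : FormallyUnramified (pullback.snd f q) := by
    have h := MorphismProperty.pullback_snd (P := @FormallyUnramified) fL qk hfL
    rw [← h1.isoPullback_hom_snd] at h
    exact (MorphismProperty.cancel_left_of_respectsIso @FormallyUnramified _ _).1 h
  have h3 : FormallyUnramified (pullback.snd (pullback.snd f r) g) := by
    rw [← pullbackLeftPullbackSndIso_hom_snd f r g]
    exact (MorphismProperty.cancel_left_of_respectsIso @FormallyUnramified _ _).2 h2
  have : Surjective g := ⟨fun p => ⟨IsLocalRing.closedPoint L, @Subsingleton.elim (PrimeSpectrum (X.left.residueField y)) _ _ _⟩⟩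
  have : Flat g := by
    rw [HasRingHomProperty.Spec_iff (P := @Flat)]
    show (algebraMap (X.left.residueField y) L).Flat
    rw [RingHom.flat_algebraMap_iff]
    infer_instance
  exact MorphismProperty.of_pullback_snd_of_descendsAlong (Q := @Surjective ⊓ @Flat ⊓ @QuasiCompact)
    (g := g) ⟨⟨inferInstance, inferInstance⟩, inferInstance⟩ h3

/-- The rank of differentials is unchanged on an open subscheme. -/
theorem rk_comp_opensι {X S : Scheme.{u}} (p : X ⟶ S) [Smooth p] (W : X.Opens) (x : W) :
    MulEtale.rk (W.ι ≫ p) x = MulEtale.rk p (x : X) := by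
  letI := (p.stalkMap (W.ι x)).hom.toAlgebra
  letI := ((W.ι ≫ p).stalkMap x).hom.toAlgebra
  letI := (W.ι.stalkMap x).hom.toAlgebra
  let O := X.presheaf.stalk (W.ι x)
  let O' := W.toScheme.presheaf.stalk x
  let R := S.presheaf.stalk (p (W.ι x))
  have hb : Function.Bijective (algebraMap O O') := ConcreteCategory.bijective_of_isIso (W.ι.stalkMap x)
  letI : Algebra R O' := ((W.ι ≫ p).stalkMap x).hom.toAlgebra
  have : IsScalarTower R O O' := IsScalarTower.of_algebraMap_eq' <| by
    show ((W.ι ≫ p).stalkMap x).hom = (p.stalkMap (W.ι x) ≫ W.ι.stalkMap x).hom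
    rw [Scheme.Hom.stalkMap_comp]
    rfl
  have : Algebra.FormallyEtale O O' := Algebra.FormallyEtale.of_equiv (AlgEquiv.ofBijective (Algebra.ofId O O') hb)
  have : Module.Free O Ω[O⁄R] := by
    obtain ⟨U, hU, V, hV, hxV, e, h⟩ := Smooth.exists_isStandardSmooth p (W.ι x)
    letI := (p.appLE U V e).hom.toAlgebra
    letI := (X.presheaf.germ V (W.ι x) hxV).hom.toAlgebra
    have : Algebra.IsStandardSmooth Γ(S, U) Γ(X, V) := h
    obtain ⟨E⟩ := MulEtale.nonempty_equiv p hU hV e hxV
    exact Module.Free.of_equiv E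
  show Module.finrank O' Ω[O'⁄R] = Module.finrank O Ω[O⁄R]
  rw [← (KaehlerDifferential.tensorKaehlerEquivOfFormallyEtale R O O').finrank_eq, Module.finrank_baseChange]

/-- Multiplication by an invertible integer is etale on a clopen neighbourhood of the unit section. -/
theorem exists_etale_nhd_pow {S : Scheme.{u}} (X : Over S) [GrpObj X] [IsCommMonObj X]
    [Smooth X.hom] (n : ℕ) (hn : IsUnit (n : Γ(S, ⊤))) :
    ∃ W : X.left.Opens, IsClosed (W : Set X.left) ∧ (∀ s : S, η[X].left s ∈ W) ∧
      Etale (W.ι ≫ (𝟙 X ^ n : X ⟶ X).left) := by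
  set f := (𝟙 X ^ n : X ⟶ X).left
  have hlc := MulEtale.isLocallyConstant_rk X.hom
  have hlcf : IsLocallyConstant (fun x => MulEtale.rk X.hom (f x)) := hlc.comp_continuous f.continuous
  let d : X.left → ℕ × ℕ := fun x => (MulEtale.rk X.hom x, MulEtale.rk X.hom (f x))
  have hd : IsLocallyConstant d := hlc.prodMk hlcf
  let W : X.left.Opens := ⟨d ⁻¹' {c | c.1 = c.2}, hd _⟩
  have hWcl : IsClosed (W : Set X.left) := ⟨by
    rw [show (W : Set X.left)ᶜ = d ⁻¹' {c | c.1 = c.2}ᶜ from rfl]; exact hd _⟩
  refine ⟨W, hWcl, fun s => ?_, ?_⟩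
  · show MulEtale.rk X.hom (η[X].left s) = MulEtale.rk X.hom (f (η[X].left s))
    have h : η[X].left ≫ f = η[X].left := by
      show (η[X] ≫ 𝟙 X ^ n).left = _
      rw [MonObj.comp_pow, Category.comp_id, MonObj.one_eq_one, one_pow]
    rw [← Scheme.Hom.comp_apply, h]
  · have := formallyUnramified_pow_of_comm X n hn
    have : FormallyUnramified (W.ι ≫ f) := MorphismProperty.comp_mem (@FormallyUnramified) _ _ inferInstance ‹_›
    refine MulEtale.etale_of_rk_eq (W.ι ≫ X.hom) (W.ι ≫ f) X.hom ?_ fun x => ?_
    · rw [Category.assoc, Over.w]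
    · rw [rk_comp_opensι]
      exact x.2

end Groth.Agent.SGA7X
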