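import Groth.Agent.SGA7X.Components
import Groth.Agent.SGA7X.SmoothGroupPow

/-!
Divisibility of the sections through the identity component of the closed fibre of a smooth
commutative group scheme by integers invertible on the base.
-/

set_option autoImplicit false

universe u

open CategoryTheory Limits AlgebraicGeometry MonoidalCategory CartesianMonoidalCategory MonObj IsLocalRing

namespace Groth.Agent.SGA7X

/-- Sections through the identity component of the closed fibre are `n`-th powers of such. -/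
theorem exists_root_mem_secUnitComp {R : Type u} [CommRing R] [HenselianLocalRing R]
    [IsSepClosed (ResidueField R)] (N : Over (Spec (CommRingCat.of R))) [GrpObj N] [IsCommMonObj N]
    [Smooth N.hom] [QuasiCompact N.hom] (n : ℕ) (hn : IsUnit (n : R))
    (c : 𝟙_ (Over (Spec (CommRingCat.of R))) ⟶ N) (hc : c ∈ SGA7.secUnitComp R N) :
    ∃ w ∈ SGA7.secUnitComp R N, w ^ n = c := by
  have hnu : IsUnit (n : Γ(Spec (CommRingCat.of R), ⊤)) := by
    have h := hn.map (Scheme.ΓSpecIso (CommRingCat.of R)).inv.hom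
    rwa [map_natCast] at h
  obtain ⟨W, hWcl, hWe, hWet⟩ := exists_etale_nhd_pow N n hnu
  set f := (𝟙 N ^ n : N ⟶ N).left
  let C₀ := SGA7.secComp R N 1
  have h1SF : secPt (1 : 𝟙_ (Over (Spec (CommRingCat.of R))) ⟶ N) ∈ SGA7.specialFibreSet R N := secPt_mem 1
  obtain ⟨O, hO⟩ := exists_open_inter_eq_component _ h1SF
  have hC₀W : C₀ ⊆ W := by
    refine IsPreconnected.subset_isClopen isPreconnected_connectedComponentIn ⟨hWcl, W.2⟩
      ⟨secPt 1, mem_connectedComponentIn h1SF, ?_⟩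
    show (1 : 𝟙_ (Over (Spec (CommRingCat.of R))) ⟶ N).left.base (closedPoint R) ∈ W
    rw [← MonObj.one_eq_one]
    exact hWe _
  let OW : W.toScheme.Opens := W.ι ⁻¹ᵁ O
  have hopen : IsOpen ((W.ι ≫ f).base '' OW) := (W.ι ≫ f).isOpenMap _ OW.2
  have hmem : ∀ w : 𝟙_ (Over (Spec (CommRingCat.of R))) ⟶ N, f.base (secPt w) = secPt (w ^ n) := by
    intro w
    rw [show w ^ n = w ≫ (𝟙 N ^ n) by rw [MonObj.comp_pow, Category.comp_id]]
    rfl
  -- sections in the image have roots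
  have hroot : ∀ b : 𝟙_ (Over (Spec (CommRingCat.of R))) ⟶ N,
      secPt b ∈ (W.ι ≫ f).base '' OW → ∃ w ∈ SGA7.secUnitComp R N, w ^ n = b := by
    rintro b ⟨z, hz, hzb⟩
    let q : Spec (CommRingCat.of R) ⟶ N.left := b.left
    obtain ⟨P, hP1, hP2⟩ := Scheme.Pullback.exists_preimage_pullback (f := W.ι ≫ f) (g := q) z (closedPoint R) hzb
    have : Smooth (pullback.snd (W.ι ≫ f) q) := by
      have : Etale (pullback.snd (W.ι ≫ f) q) := MorphismProperty.pullback_snd _ _ hWet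
      infer_instance
    obtain ⟨s, hs, hsO⟩ := exists_section_of_smooth (pullback.snd (W.ι ≫ f) q)
      (pullback.fst (W.ι ≫ f) q ⁻¹ᵁ OW) (z := P) (show _ ∈ OW by rw [hP1]; exact hz) hP2
    let w₀ : Spec (CommRingCat.of R) ⟶ N.left := (s ≫ pullback.fst (W.ι ≫ f) q) ≫ W.ι
    have hw₀ : w₀ ≫ f = q := by
      show ((s ≫ pullback.fst _ _) ≫ W.ι) ≫ f = q
      rw [Category.assoc, Category.assoc, pullback.condition, ← Category.assoc, hs, Category.id_comp]
    let w : 𝟙_ (Over (Spec (CommRingCat.of R))) ⟶ N := Over.homMk w₀ (by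
      rw [← Over.w (𝟙 N ^ n : N ⟶ N), ← Category.assoc, hw₀]
      exact Over.w b)
    have hwn : w ^ n = b := by
      rw [show w ^ n = w ≫ (𝟙 N ^ n) by rw [MonObj.comp_pow, Category.comp_id]]
      exact Over.OverMorphism.ext hw₀
    refine ⟨w, ?_, hwn⟩
    rw [mem_secUnitComp_iff, secComp_eq_iff_mem]
    show secPt w ∈ C₀
    exact hO.subset ⟨hsO, secPt_mem w⟩
  -- the image inside the component
  have himC : ∀ z ∈ OW, N.hom.base (W.ι.base z) = closedPoint R → (W.ι ≫ f).base z ∈ C₀ := by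
    intro z hz hzc
    have hzC : W.ι.base z ∈ C₀ := hO.subset ⟨hz, hzc⟩
    have hfC : f.base '' C₀ ⊆ C₀ := by
      refine IsPreconnected.subset_connectedComponentIn
        (isPreconnected_connectedComponentIn.image _ f.continuous.continuousOn) ?_ ?_
      · exact ⟨secPt 1, mem_connectedComponentIn h1SF, (hmem 1).trans (by rw [one_pow])⟩
      · rintro _ ⟨y, hy, rfl⟩
        show N.hom.base (f.base y) = closedPoint R
        rw [← Scheme.Hom.comp_apply, Over.w]
        exact connectedComponentIn_subset (SGA7.specialFibreSet R N) _ hy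
    exact hfC ⟨_, hzC, rfl⟩
  -- the reflection of `C₀` at `c`
  let φ : N.left → N.left := fun z => trHomeo c ((GrpObj.inv (X := N)).left.base z)
  have hφcont : Continuous φ := (trHomeo c).continuous.comp (GrpObj.inv (X := N)).left.continuous
  have hφsec : ∀ b : 𝟙_ (Over (Spec (CommRingCat.of R))) ⟶ N, φ (secPt b) = secPt (b⁻¹ * c) := by
    intro b
    rw [← trHomeo_secPt, Hom.inv_def]
    rfl
  have hφSF : ∀ z, N.hom.base (φ z) = N.hom.base z := by
    intro z
    show N.hom.base (trHomeo c _) = _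
    rw [hom_trHomeo, ← Scheme.Hom.comp_apply, Over.w]
  have hφC : φ '' C₀ ⊆ C₀ := by
    refine IsPreconnected.subset_connectedComponentIn
      (isPreconnected_connectedComponentIn.image _ hφcont.continuousOn)
      ?_ ?_
    · refine ⟨secPt c, ?_, ?_⟩
      · exact (secComp_eq_iff_mem c 1).1 ((mem_secUnitComp_iff c).1 hc)
      · rw [hφsec, inv_mul_cancel]
    · rintro _ ⟨y, hy, rfl⟩
      exact (hφSF y).trans (connectedComponentIn_subset (SGA7.specialFibreSet R N) _ hy)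
  obtain ⟨z₁, hz₁⟩ : secPt (1 : 𝟙_ (Over (Spec (CommRingCat.of R))) ⟶ N) ∈ Set.range W.ι.base := by
    rw [Scheme.Opens.range_ι]; exact hC₀W (mem_connectedComponentIn h1SF)
  have hV1 : secPt (1 : 𝟙_ (Over (Spec (CommRingCat.of R))) ⟶ N) ∈ (W.ι ≫ f).base '' OW := by
    refine ⟨z₁, ?_, ?_⟩
    · show W.ι.base z₁ ∈ O
      rw [hz₁]
      exact (hO.symm.subset (mem_connectedComponentIn h1SF)).1
    · rw [Scheme.Hom.comp_apply, hz₁]
      exact (hmem 1).trans (by rw [one_pow])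
  obtain ⟨y, hyC, hyV, hyφ⟩ : (C₀ ∩ ((W.ι ≫ f).base '' OW ∩ φ ⁻¹' ((W.ι ≫ f).base '' OW))).Nonempty := by
    refine (isIrreducible_secComp_one (N := N)).2 _ _ hopen (hopen.preimage hφcont)
      ⟨_, mem_connectedComponentIn h1SF, hV1⟩ ⟨secPt c, ?_, ?_⟩
    · exact (secComp_eq_iff_mem c 1).1 ((mem_secUnitComp_iff c).1 hc)
    · rw [Set.mem_preimage, hφsec, inv_mul_cancel]
      exact hV1
  let Q : N.left.Opens := ⟨(W.ι ≫ f).base '' OW ∩ φ ⁻¹' ((W.ι ≫ f).base '' OW) ∩ O,
    (hopen.inter (hopen.preimage hφcont)).inter O.2⟩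
  obtain ⟨s, hs, ⟨⟨hsV, hsφ⟩, -⟩⟩ := exists_section_of_smooth N.hom Q (z := y)
    ⟨⟨hyV, hyφ⟩, (hO.symm.subset hyC).1⟩ (connectedComponentIn_subset (SGA7.specialFibreSet R N) _ hyC)
  let b : 𝟙_ (Over (Spec (CommRingCat.of R))) ⟶ N := Over.homMk s hs
  obtain ⟨w₁, hw₁, hw₁b⟩ := hroot b hsV
  obtain ⟨w₂, hw₂, hw₂b⟩ := hroot (b⁻¹ * c) (by rw [← hφsec]; exact hsφ)
  exact ⟨w₁ * w₂, mul_mem_secUnitComp hw₁ hw₂, by rw [_root_.mul_pow, hw₁b, hw₂b, mul_inv_cancel_left]⟩

end Groth.Agent.SGA7X
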