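import Groth.Prelude.Def_SGA7IX
import Mathlib.AlgebraicGeometry.Group.Abelian
import Mathlib.CategoryTheory.Monoidal.CommMon_

/-!
A Neron model of an abelian variety is a commutative group scheme.
-/

set_option autoImplicit false

universe u

open CategoryTheory Limits AlgebraicGeometry MonoidalCategory CartesianMonoidalCategory MonObj

namespace Groth.Agent.SGA7X

theorem isCommMonObj_of_isNeron {R K : Type u} [CommRing R] [Field K] [Algebra R K]
    (N : Over (Spec (CommRingCat.of R))) [GrpObj N] (hN : SGA7.IsNeron R K N)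
    [IsProper ((SGA7.genFib R K).obj N).hom] [GeometricallyIntegral ((SGA7.genFib R K).obj N).hom] :
    IsCommMonObj N := by
  let F := SGA7.genFib R K
  let : GrpObj (F.obj N) := Functor.grpObjObj
  have : IsCommMonObj (F.obj N) := isCommMonObj_of_isProper_of_geometricallyIntegral (F.obj N)
  have hsm : Smooth (N ⊗ N).hom := by
    have := hN.1
    show Smooth (pullback.fst N.hom N.hom ≫ N.hom)
    have : Smooth (pullback.fst N.hom N.hom) := MorphismProperty.pullback_fst _ _ ‹_›
    exact MorphismProperty.comp_mem _ _ _ ‹_› ‹_›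
  have key : (fst N N * snd N N : N ⊗ N ⟶ N) = snd N N * fst N N := by
    refine (hN.2.2.2 (N ⊗ N) hsm).1 ?_
    show F.homMonoidHom (fst N N * snd N N) = F.homMonoidHom (snd N N * fst N N)
    rw [map_mul, map_mul]
    exact mul_comm _ _
  refine ⟨?_⟩
  rw [MonObj.mul_eq_mul]
  rw [MonObj.comp_mul]
  simpa using key.symm

end Groth.Agent.SGA7X
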