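import Groth.Agent.SGA7X.UnramifiedLift
import Groth.Agent.SGA7X.GoodReduction
import Groth.Agent.SGA7X.SmoothGroupPow
import Groth.Agent.SGA7X.NeronComm
import Groth.Agent.MultTypeLib.Artin
import Mathlib.Algebra.Polynomial.Eval.Irreducible

/-!
Torsion points fixed by inertia are those specialising to the closed fibre.
-/

set_option autoImplicit false

universe u

open CategoryTheory Limits AlgebraicGeometry MonoidalCategory CartesianMonoidalCategory MonObj IsLocalRing
open scoped TensorProduct IntermediateField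
open Polynomial (aeval aeval_map_algebraMap)

namespace Groth.Agent.SGA7X

/-- Torsion points with values in a local ring are determined by their reduction, if multiplication by
the order is unramified. -/
theorem torsion_eq_of_residue_eq' {S : Scheme.{u}} (B : Over S) [GrpObj B] [LocallyOfFiniteType B.hom]
    (n : ℕ) (hun : FormallyUnramified (𝟙 B ^ n : B ⟶ B).left)
    {A : Type u} [CommRing A] [IsLocalRing A] (s : Spec (CommRingCat.of A) ⟶ S)
    (a b : Over.mk s ⟶ B) (ha : a ^ n = 1) (hb : b ^ n = 1)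
    (hr : Spec.map (CommRingCat.ofHom (residue A)) ≫ a.left =
      Spec.map (CommRingCat.ofHom (residue A)) ≫ b.left) : a = b := by
  let f := (𝟙 B ^ n : B ⟶ B).left
  have : LocallyOfFiniteType f := by
    have : LocallyOfFiniteType ((𝟙 B ^ n : B ⟶ B).left ≫ B.hom) := by rw [Over.w]; infer_instance
    exact locallyOfFiniteType_of_comp _ B.hom
  let p := pullback.fst η[B].left f
  have : FormallyUnramified p :=
    (inferInstance : MorphismProperty.IsStableUnderBaseChange @FormallyUnramified.{u}).of_isPullback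
      (IsPullback.of_hasPullback η[B].left f).flip hun
  have : LocallyOfFiniteType p := by infer_instance
  have hlift : ∀ c : Over.mk s ⟶ B, c ^ n = 1 → s ≫ η[B].left = c.left ≫ f := by
    intro c hc
    have h : (c ≫ (𝟙 B ^ n)).left = (1 : Over.mk s ⟶ B).left := by
      rw [MonObj.comp_pow, Category.comp_id, hc]
    exact h.symm
  have key := eq_of_residue_eq p (pullback.lift s a.left (hlift a ha)) (pullback.lift s b.left (hlift b hb))
    ((pullback.lift_fst _ _ _).trans (pullback.lift_fst _ _ _).symm) (by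
      apply pullback.hom_ext
      · rw [Category.assoc, Category.assoc]
        erw [pullback.lift_fst, pullback.lift_fst]
      · rw [Category.assoc, Category.assoc]
        erw [pullback.lift_snd, pullback.lift_snd]
        exact hr)
  ext1
  exact ((pullback.lift_snd _ _ _).symm.trans (congrArg (· ≫ pullback.snd η[B].left f) key)).trans
    (pullback.lift_snd _ _ _)

variable {R K Ω : Type u} [CommRing R] [IsLocalRing R] [Field K] [Algebra R K] [Field Ω] [Algebra K Ω]

/-- The generic point of the spectrum of a valuation ring. -/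
noncomputable abbrev inFrac (W : ValuationSubring Ω) : Spec (CommRingCat.of Ω) ⟶ Spec (CommRingCat.of W) :=
  Spec.map (CommRingCat.ofHom (algebraMap W Ω))

/-- The structure map of a dominating valuation ring. -/
noncomputable abbrev structMap (W : ValuationSubring Ω) (hW : SGA7.LiesOver K R W) :
    Spec (CommRingCat.of W) ⟶ Spec (CommRingCat.of R) :=
  Spec.map (CommRingCat.ofHom (toW W hW))

theorem inFrac_structMap (W : ValuationSubring Ω) (hW : SGA7.LiesOver K R W) :
    inFrac W ≫ structMap W hW =
      Spec.map (CommRingCat.ofHom ((algebraMap K Ω).comp (algebraMap R K))) := by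
  rw [← Spec.map_comp]
  rfl

/-- A point of a scheme over a henselian valuation ring specialising to the closed fibre extends to the
valuation ring. -/
theorem exists_lift_of_specializes [IsDomain R] [ValuationRing R] [IsFractionRing R K] [HenselianLocalRing R]
    [Algebra.IsAlgebraic K Ω] (W : ValuationSubring Ω) (hW : SGA7.LiesOver K R W)
    {X : Scheme.{u}} (f : X ⟶ Spec (CommRingCat.of R)) (y : Spec (CommRingCat.of Ω) ⟶ X)
    (hy : y ≫ f = Spec.map (CommRingCat.ofHom ((algebraMap K Ω).comp (algebraMap R K))))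
    {z : X} (hz : f.base z = closedPoint R) (h : y.base (closedPoint Ω) ⤳ z) :
    ∃ l : Spec (CommRingCat.of W) ⟶ X, l ≫ f = structMap W hW ∧ inFrac W ≫ l = y := by
  let : Algebra R Ω := ((algebraMap K Ω).comp (algebraMap R K)).toAlgebra
  have : IsScalarTower R K Ω := IsScalarTower.of_algebraMap_eq fun _ => rfl
  let g : X.presheaf.stalk z ⟶ CommRingCat.of Ω :=
    X.presheaf.stalkSpecializes h ≫ Scheme.stalkClosedPointTo y
  obtain ⟨V, hV, hloc⟩ := exists_factor_valuationRing g.hom
  let gV : X.presheaf.stalk z ⟶ CommRingCat.of V := CommRingCat.ofHom (g.hom.codRestrict _ hV)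
  let l : Spec (CommRingCat.of V) ⟶ X := Spec.map gV ≫ X.fromSpecStalk z
  have hl : inFrac V ≫ l = y := by
    show Spec.map _ ≫ Spec.map gV ≫ _ = y
    rw [← Spec.map_comp_assoc, show gV ≫ CommRingCat.ofHom (algebraMap V Ω) = g from rfl, Spec.map_comp,
      Category.assoc, Scheme.SpecMap_stalkSpecializes_fromSpecStalk, Scheme.Spec_stalkClosedPointTo_fromSpecStalk]
  have : IsLocalHom gV.hom := hloc
  have hlz : l.base (closedPoint V) = z := by
    rw [Scheme.Hom.comp_apply]
    have : Spec.map gV (closedPoint V) = closedPoint (X.presheaf.stalk z) :=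
      comap_closedPoint (S := V) gV.hom
    rw [this, X.fromSpecStalk_closedPoint]
  obtain ⟨φ, hφ⟩ := Spec.map_surjective (l ≫ f)
  have hφi : φ ≫ CommRingCat.ofHom (algebraMap V Ω) =
      CommRingCat.ofHom ((algebraMap K Ω).comp (algebraMap R K)) := by
    apply Spec.map_injective
    rw [Spec.map_comp, hφ, ← Category.assoc]
    exact (congrArg (· ≫ f) hl).trans hy
  have hφr : ∀ r : R, (φ.hom r : Ω) = algebraMap K Ω (algebraMap R K r) := fun r =>
    RingHom.congr_fun (congrArg CommRingCat.Hom.hom hφi) r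
  have hVR : SGA7.LiesOver K R V := by
    refine ⟨fun r => hφr r ▸ (φ.hom r).2, fun r hr => ?_⟩
    rw [← hφr r]
    refine (V.valuation_lt_one_iff (φ.hom r)).1 ?_
    have hc : PrimeSpectrum.comap φ.hom (closedPoint V) = closedPoint R := by
      show (Spec.map φ).base (closedPoint V) = _
      rw [hφ, Scheme.Hom.comp_apply, hlz, hz]
    have h2 : (maximalIdeal V).comap φ.hom = maximalIdeal R := congrArg PrimeSpectrum.asIdeal hc
    rw [← h2] at hr
    exact hr
  obtain rfl : V = W := eq_of_liesOver (R := R) W V hW hVR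
  refine ⟨l, ?_, hl⟩
  rw [← hφ]
  congr 1
  ext r
  exact hφr r

/-- Inertia fixes torsion points of invertible order which extend to the valuation ring. -/
theorem galAct_eq_self_of_lift (W : ValuationSubring Ω) (hW : SGA7.LiesOver K R W)
    (B : Over (Spec (CommRingCat.of R))) [GrpObj B] [LocallyOfFiniteType B.hom] [IsSeparated B.hom]
    (n : ℕ) (hun : FormallyUnramified (𝟙 B ^ n : B ⟶ B).left)
    (σ : Ω ≃ₐ[K] Ω) (hσ : SGA7.IsInertia W σ)
    (y : SGA7.Pts Ω ((SGA7.genFib R K).obj B)) (hy : y ^ n = 1)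
    (l : Spec (CommRingCat.of W) ⟶ B.left) (hl₁ : l ≫ B.hom = structMap W hW)
    (hl₂ : inFrac W ≫ l = y.left ≫ pullback.fst B.hom (Spec.map (CommRingCat.ofHom (algebraMap R K)))) :
    SGA7.galAct σ y = y := by
  let g := Spec.map (CommRingCat.ofHom (algebraMap R K))
  let yb : (Over.map g).obj (SGA7.pt Ω) ⟶ B :=
    ((Over.mapPullbackAdj g).homEquiv (SGA7.pt Ω) B).symm y
  have hyb : yb ^ n = 1 := by
    apply ((Over.mapPullbackAdj g).homEquiv (SGA7.pt Ω) B).injective
    rw [Adjunction.homEquiv_unit, Adjunction.homEquiv_unit]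
    let : GrpObj ((Over.pullback g).obj B) := Functor.grpObjObj
    have h1 : (Over.pullback g).map (yb ^ n) = (Over.pullback g).map yb ^ n :=
      _root_.map_pow (Over.pullback g).homMonoidHom yb n
    have h2 : (Over.pullback g).map (1 : (Over.map g).obj (SGA7.pt Ω) ⟶ B) = 1 :=
      _root_.map_one (Over.pullback g).homMonoidHom
    have h3 : (Over.mapPullbackAdj g).unit.app (SGA7.pt Ω) ≫ (Over.pullback g).map yb = y := by
      exact (Adjunction.homEquiv_unit (Over.mapPullbackAdj g) _ _ _).symm.trans (Equiv.apply_symm_apply _ _)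
    rw [h1, h2, MonObj.comp_pow, MonObj.comp_one, h3]
    exact hy
  have hyfst : y.left ≫ pullback.fst B.hom g = yb.left := by
    have h3 : (Over.mapPullbackAdj g).homEquiv (SGA7.pt Ω) B yb = y := Equiv.apply_symm_apply _ _
    rw [← h3]
    show ((Over.mapPullbackAdj g).homEquiv (SGA7.pt Ω) B yb).left ≫ pullback.fst B.hom g = yb.left
    simp [Over.mapPullbackAdj]
    exact pullback.lift_fst _ _ _
  have hl : inFrac W ≫ l = yb.left := hl₂.trans hyfst
  let s := structMap W hW
  let a : Over.mk s ⟶ B := Over.homMk l hl₁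
  let σW : W →+* W := (σ : Ω →+* Ω).restrict W.toSubring W.toSubring (fun x hx => (hσ x hx).1)
  have hσρ : Spec.map (CommRingCat.ofHom σW) ≫ s = s := by
    rw [← Spec.map_comp]
    congr 1
    ext r
    exact σ.commutes _
  have hres : Spec.map (CommRingCat.ofHom (residue W)) ≫ Spec.map (CommRingCat.ofHom σW) =
      Spec.map (CommRingCat.ofHom (residue W)) := by
    rw [← Spec.map_comp]
    congr 1
    ext w
    show residue W (σW w) = residue W w
    rw [← sub_eq_zero, ← map_sub, residue_eq_zero_iff]
    exact (W.valuation_lt_one_iff (σW w - w)).2 (hσ w w.2).2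
  let t : Over.mk s ⟶ Over.mk s := Over.homMk (Spec.map (CommRingCat.ofHom σW)) hσρ
  let b : Over.mk s ⟶ B := t ≫ a
  have : IsDominant (inFrac W) := by
    rw [isDominant_iff]
    exact (PrimeSpectrum.denseRange_comap_iff_ker_le_nilRadical _).2
      (by
        show RingHom.ker (algebraMap W Ω) ≤ nilradical W
        rw [(RingHom.injective_iff_ker_eq_bot _).1 (IsFractionRing.injective W Ω)]
        exact bot_le)
  let inO : (Over.map g).obj (SGA7.pt Ω) ⟶ Over.mk s := Over.homMk (inFrac W) (by
    show inFrac W ≫ s = Spec.map (CommRingCat.ofHom (algebraMap K Ω)) ≫ g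
    rw [inFrac_structMap, ← Spec.map_comp]
    rfl)
  have hinΩa : inO ≫ a = yb := by ext1; exact hl
  have han : a ^ n = 1 := by
    ext1
    have : IsReduced (Over.mk s).left := inferInstanceAs (IsReduced (Spec (CommRingCat.of W)))
    refine ext_of_isDominant_of_isSeparated B.hom ((Over.w _).trans (Over.w _).symm) (inFrac W) ?_
    show (inO ≫ a ^ n).left = (inO ≫ (1 : Over.mk s ⟶ B)).left
    rw [MonObj.comp_pow, MonObj.comp_one, hinΩa, hyb]
  have hbn : b ^ n = 1 := by
    show (t ≫ a) ^ n = 1
    rw [← MonObj.comp_pow, han, MonObj.comp_one]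
  have hab : a = b := torsion_eq_of_residue_eq' B n hun s a b han hbn (by
    show Spec.map (CommRingCat.ofHom (residue W)) ≫ l =
      Spec.map (CommRingCat.ofHom (residue W)) ≫ Spec.map (CommRingCat.ofHom σW) ≫ l
    rw [← Category.assoc, hres])
  have hσinΩ : Spec.map (CommRingCat.ofHom (σ : Ω →+* Ω)) ≫ inFrac W =
      inFrac W ≫ Spec.map (CommRingCat.ofHom σW) := by
    rw [← Spec.map_comp, ← Spec.map_comp]
    rfl
  refine Neron6.pullback_hom_ext g _ _ ?_
  show (Spec.map (CommRingCat.ofHom (σ : Ω →+* Ω)) ≫ y.left) ≫ pullback.fst B.hom g =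
    y.left ≫ pullback.fst B.hom g
  rw [Category.assoc, hyfst, ← hl, ← Category.assoc, hσinΩ, Category.assoc]
  exact congrArg (inFrac W ≫ ·) (congrArg CommaMorphism.left hab).symm

/-- A point fixed by inertia extends to a point of the Neron model over an unramified extension, hence
specialises to the closed fibre. -/
theorem exists_specializes_of_fixed [IsDomain R] [ValuationRing R] [IsFractionRing R K] [HenselianLocalRing R]
    [IsSepClosure K Ω] [IsIntegrallyClosed R] (W : ValuationSubring Ω) (hW : SGA7.LiesOver K R W)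
    (N : Over (Spec (CommRingCat.of R))) (hN : SGA7.IsNeron R K N)
    (y : SGA7.Pts Ω ((SGA7.genFib R K).obj N))
    (hfix : ∀ σ : Ω ≃ₐ[K] Ω, SGA7.IsInertia W σ → SGA7.galAct σ y = y) :
    ∃ z ∈ SGA7.specialFibreSet R N,
      (y.left ≫ pullback.fst N.hom (Spec.map (CommRingCat.ofHom (algebraMap R K)))).base
          (closedPoint Ω) ⤳ z := by
  have : IsGalois K Ω := IsSepClosure.isGalois
  have : IsSepClosed Ω := IsSepClosure.sep_closed K
  let : Algebra R Ω := ((algebraMap K Ω).comp (algebraMap R K)).toAlgebra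
  have : IsScalarTower R K Ω := IsScalarTower.of_algebraMap_eq fun _ => rfl
  have := hN.1
  let g := Spec.map (CommRingCat.ofHom (algebraMap R K))
  let Y : Spec (CommRingCat.of Ω) ⟶ N.left := y.left ≫ pullback.fst N.hom g
  have hY : Y ≫ N.hom = Spec.map (CommRingCat.ofHom (algebraMap R Ω)) := by
    show (y.left ≫ pullback.fst N.hom g) ≫ N.hom = _
    rw [Category.assoc, pullback.condition, ← Category.assoc]
    erw [Over.w y]
    exact (Spec.map_comp _ _).symm
  -- the coordinates of the point
  obtain ⟨V, hV, hηV, -⟩ := exists_isAffineOpen_mem_and_subset (x := Y.base (closedPoint Ω)) (U := ⊤) trivial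
  have hrange : Set.range Y.base ⊆ (V : Set N.left) := by
    rintro _ ⟨p, rfl⟩
    rw [show p = closedPoint Ω from Subsingleton.elim (α := PrimeSpectrum Ω) _ _]
    exact hηV
  let Y₁ : Spec (CommRingCat.of Ω) ⟶ Spec Γ(N.left, V) :=
    IsOpenImmersion.lift hV.fromSpec Y (by rw [hV.range_fromSpec]; exact hrange)
  obtain ⟨ψ, hψ⟩ := Spec.map_surjective Y₁
  have hψY : Spec.map ψ ≫ hV.fromSpec = Y := by rw [hψ]; exact IsOpenImmersion.lift_fac _ _ _
  obtain ⟨c, hc⟩ := Spec.map_surjective (hV.fromSpec ≫ N.hom)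
  have hcψ : c ≫ ψ = CommRingCat.ofHom (algebraMap R Ω) := by
    apply Spec.map_injective
    rw [Spec.map_comp, hc, ← Category.assoc, hψY, hY]
  algebraize [c.hom]
  have : Algebra.FiniteType R Γ(N.left, V) := by
    have h : LocallyOfFiniteType (Spec.map c) := by rw [hc]; infer_instance
    rw [HasRingHomProperty.Spec_iff (P := @LocallyOfFiniteType)] at h
    exact h
  let ψ' : Γ(N.left, V) →ₐ[R] Ω := { ψ.hom with commutes' := fun r => congr($hcψ r) }
  obtain ⟨gens, hgens⟩ := (inferInstance : Algebra.FiniteType R Γ(N.left, V)).out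
  have hψfix : ∀ σ : Ω ≃ₐ[K] Ω, SGA7.IsInertia W σ → ∀ b, σ (ψ' b) = ψ' b := by
    intro σ hσ b
    have h1 : Spec.map (CommRingCat.ofHom (σ : Ω →+* Ω)) ≫ Y = Y := by
      show Spec.map (CommRingCat.ofHom (σ : Ω →+* Ω)) ≫ y.left ≫ _ = y.left ≫ _
      rw [← Category.assoc]
      exact congrArg (· ≫ pullback.fst N.hom g) (congrArg CommaMorphism.left (hfix σ hσ))
    rw [← hψY, ← Category.assoc, cancel_mono, ← Spec.map_comp] at h1
    exact congr($(Spec.map_injective h1) b)
  obtain ⟨θ₀, ⟨p, hpm, hpi, hps, hp0⟩, hT⟩ := exists_sepLift_of_fixed W hW (ψ' '' (gens : Set Γ(N.left, V)))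
    (gens.finite_toSet.image _) (by rintro σ hσ _ ⟨b, -, rfl⟩; exact hψfix σ hσ b)
  -- the etale algebra
  let A := AdjoinRoot p
  have : Algebra.Etale R A := MultTypeLib.etale_adjoinRoot p hpm (separable_of_residue hpm hps)
  have : Module.Finite R A := hpm.finite_adjoinRoot
  have : Module.Free R A := hpm.free_adjoinRoot
  let π : A →ₐ[R] Ω := AdjoinRoot.liftAlgHom p (Algebra.ofId R Ω) θ₀ hp0
  let Φ : K ⊗[R] A →ₐ[K] Ω := Algebra.TensorProduct.lift (Algebra.ofId K Ω) π (fun _ _ => .all _ _)
  have hΦroot : Φ (1 ⊗ₜ[R] AdjoinRoot.root p) = θ₀ := by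
    show Algebra.TensorProduct.lift _ _ _ _ = θ₀
    rw [Algebra.TensorProduct.lift_tmul, map_one, _root_.one_mul]
    exact AdjoinRoot.liftAlgHom_root _ _ _ _
  have hirr : Irreducible (p.map (algebraMap R K)) :=
    (Polynomial.Monic.irreducible_iff_irreducible_map_fraction_map hpm).1
      (Polynomial.Monic.irreducible_of_irreducible_map (residue R) p hpm hpi)
  have hθ₀K : aeval θ₀ (p.map (algebraMap R K)) = 0 := by rw [aeval_map_algebraMap, hp0]
  have hle : K⟮θ₀⟯.toSubalgebra ≤ Φ.range := by
    rw [IntermediateField.adjoin_simple_toSubalgebra_of_isAlgebraic (Algebra.IsAlgebraic.isAlgebraic θ₀),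
      Algebra.adjoin_le_iff, Set.singleton_subset_iff]
    exact ⟨_, hΦroot⟩
  have hΦinj : Function.Injective Φ := by
    have hfin : Module.finrank K (K ⊗[R] A) = p.natDegree := by
      rw [Module.finrank_baseChange]
      exact (AdjoinRoot.powerBasis' hpm).finrank.trans (AdjoinRoot.powerBasis'_dim hpm)
    have hdim : Module.finrank K K⟮θ₀⟯ = p.natDegree := by
      rw [IntermediateField.adjoin.finrank (Algebra.IsIntegral.isIntegral θ₀),
        ← minpoly.eq_of_irreducible_of_monic hirr hθ₀K (hpm.map _), hpm.natDegree_map]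
    have : Module.Finite K Φ.toLinearMap.range := Module.Finite.range _
    have h1 : p.natDegree ≤ Module.finrank K Φ.toLinearMap.range := by
      rw [← hdim]
      exact Submodule.finrank_mono (show Subalgebra.toSubmodule K⟮θ₀⟯.toSubalgebra ≤ _ from hle)
    have h2 := Φ.toLinearMap.finrank_range_add_finrank_ker
    have h3 : Module.finrank K (LinearMap.ker Φ.toLinearMap) = 0 := by omega
    exact LinearMap.ker_eq_bot.1 (Submodule.finrank_eq_zero.1 h3)
  let Φe : K ⊗[R] A ≃ₐ[K] Φ.range := AlgEquiv.ofInjective Φ hΦinj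
  have hψrange : ∀ b, ψ' b ∈ Φ.range := by
    intro b
    have hb : b ∈ Algebra.adjoin R (gens : Set Γ(N.left, V)) := hgens ▸ Algebra.mem_top
    have : (Algebra.adjoin R (gens : Set Γ(N.left, V))).map ψ' ≤ Φ.range.restrictScalars R := by
      rw [AlgHom.map_adjoin, Algebra.adjoin_le_iff]
      exact fun t ht => hle (hT ht)
    exact this ⟨b, hb, rfl⟩
  let ψA : Γ(N.left, V) →ₐ[R] K ⊗[R] A :=
    ((Φe.symm.restrictScalars R).toAlgHom).comp (ψ'.codRestrict (Φ.range.restrictScalars R) hψrange)
  have hψA : ∀ b, Φ (ψA b) = ψ' b := fun b =>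
    congrArg Subtype.val (Φe.apply_symm_apply ⟨ψ' b, hψrange b⟩)
  -- the extension by the Neron property
  let T : Over (Spec (CommRingCat.of R)) := Over.mk (Spec.map (CommRingCat.ofHom (algebraMap R A)))
  have hTsm : Smooth T.hom := by
    show Smooth (Spec.map _)
    rw [HasRingHomProperty.Spec_iff (P := @Smooth)]
    exact RingHom.smooth_algebraMap.2 inferInstance
  let e := pullbackSpecIso R A K
  let inA : K ⊗[R] A ≃ₐ[R] A ⊗[R] K := Algebra.TensorProduct.comm R K A
  let hK : (SGA7.genFib R K).obj T ⟶ (SGA7.genFib R K).obj N :=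
    Over.homMk (pullback.lift (e.hom ≫ Spec.map (CommRingCat.ofHom inA.toAlgHom.toRingHom) ≫
      Spec.map (CommRingCat.ofHom ψA.toRingHom) ≫ hV.fromSpec) (pullback.snd T.hom g) (by
        rw [← pullback.condition, ← cancel_epi e.inv]
        simp only [Category.assoc, Iso.inv_hom_id_assoc]
        show _ = e.inv ≫ pullback.fst _ _ ≫ T.hom
        rw [← Category.assoc e.inv, pullbackSpecIso_inv_fst, ← hc, ← Spec.map_comp, ← Spec.map_comp]
        show _ = Spec.map _ ≫ Spec.map _
        rw [← Spec.map_comp]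
        congr 1
        ext r
        show inA (ψA (algebraMap R Γ(N.left, V) r)) = algebraMap R A r ⊗ₜ 1
        rw [AlgHom.commutes, AlgEquiv.commutes]
        rfl)) (pullback.lift_snd _ _ _)
  obtain ⟨G, hG⟩ := (hN.2.2.2 T hTsm).2 hK
  let πW : A →+* W := (π : A →+* Ω).codRestrict W.toSubring fun a =>
    mem_of_isIntegral W hW _ ((Algebra.IsIntegral.isIntegral a).map π)
  refine ⟨(Spec.map (CommRingCat.ofHom πW) ≫ G.left).base (closedPoint W), ?_, ?_⟩
  · show N.hom.base _ = closedPoint R
    rw [← Scheme.Hom.comp_apply, Category.assoc, Over.w G]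
    show (Spec.map _ ≫ Spec.map _) _ = _
    rw [← Spec.map_comp]
    have : IsLocalHom (toW W hW) := isLocalHom_toW W hW
    have h1 : πW.comp (algebraMap R A) = toW W hW := by
      ext r
      exact π.commutes r
    rw [← CommRingCat.ofHom_comp, h1]
    exact comap_closedPoint (toW W hW)
  · have hfac : inFrac W ≫ Spec.map (CommRingCat.ofHom πW) ≫ G.left = Y := by
      have h1 : pullback.fst T.hom g ≫ G.left = hK.left ≫ pullback.fst N.hom g :=
        ((congrArg (fun k => k.left ≫ pullback.fst N.hom g) hG).symm.trans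
          (Neron6.pullback_map_fst g G)).symm
      let j : Spec (CommRingCat.of Ω) ⟶ pullback T.hom g :=
        Spec.map (CommRingCat.ofHom (Φ.toRingHom.comp inA.symm.toAlgHom.toRingHom)) ≫ e.inv
      have hj : j ≫ pullback.fst T.hom g = inFrac W ≫ Spec.map (CommRingCat.ofHom πW) := by
        show (_ ≫ e.inv) ≫ pullback.fst _ _ = _
        rw [Category.assoc, pullbackSpecIso_inv_fst, ← Spec.map_comp, ← Spec.map_comp]
        congr 1
        refine CommRingCat.hom_ext (RingHom.ext fun a => ?_)
        show Φ ((1 : K) ⊗ₜ[R] a) = π a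
        rw [Algebra.TensorProduct.lift_tmul, map_one, _root_.one_mul]
      rw [← Category.assoc, ← hj, Category.assoc, h1, ← Category.assoc, ← hψY]
      show (j ≫ pullback.lift _ _ _) ≫ pullback.fst N.hom g = _
      rw [Category.assoc, pullback.lift_fst]
      show (_ ≫ e.inv) ≫ e.hom ≫ _ = _
      rw [Category.assoc, Iso.inv_hom_id_assoc, ← Spec.map_comp_assoc, ← Spec.map_comp_assoc]
      congr 2
      ext b
      show Φ (inA.symm (inA (ψA b))) = ψ' b
      rw [AlgEquiv.symm_apply_apply, hψA]
    rw [show y.left ≫ pullback.fst N.hom g = Y from rfl, ← hfac, Scheme.Hom.comp_apply]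
    exact (specializes_closedPoint (R := W) _).map (Spec.map (CommRingCat.ofHom πW) ≫ G.left).continuous

end Groth.Agent.SGA7X
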