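import Groth.Agent.S2730
import Groth.Agent.CplFib6.PSRegular
import Groth.Agent.FlatLoc6.GeomComp
import Groth.Agent.UnibEtale.Chart
import Groth.Agent.UnibEtale.Comp
import Mathlib.RingTheory.Smooth.NoetherianDescent

/-!
Schemes smooth over a geometrically unibranch base are geometrically unibranch, and locally irreducible
when the base is irreducible.
-/

set_option autoImplicit false
set_option backward.isDefEq.respectTransparency.types false

universe u

open CategoryTheory Limits AlgebraicGeometry TensorProduct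

namespace Groth.Agent.SGA7X

theorem isGeomUnibranch_atPrime_of_ringEquiv {A A' : Type u} [CommRing A] [CommRing A'] (e : A ≃+* A')
    (q : Ideal A') [q.IsPrime]
    (h : CAlg2.IsGeomUnibranch (Localization.AtPrime (q.comap e.toRingHom))) :
    CAlg2.IsGeomUnibranch (Localization.AtPrime q) := by
  have H : (q.comap e.toRingHom).primeCompl.map e.toMonoidHom = q.primeCompl := by
    ext x
    constructor
    · rintro ⟨y, hy, rfl⟩
      exact hy
    · intro hx
      refine ⟨e.symm x, fun h => hx ?_, e.apply_symm_apply x⟩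
      have h' : e (e.symm x) ∈ q := h
      rwa [e.apply_symm_apply] at h'
  exact UnibEtale.isGeomUnibranch_of_ringEquiv
    (IsLocalization.ringEquivOfRingEquiv (M := (q.comap e.toRingHom).primeCompl) (T := q.primeCompl) _ _ e H) h

theorem isGeomUnibranch_atPrime_of_smooth_aux {R₀ S₀ B T : Type u} [CommRing R₀] [CommRing S₀] [CommRing B]
    [CommRing T] [IsNoetherianRing R₀] [IsNoetherianRing S₀] [Algebra R₀ S₀] [IsLocalRing B] [Algebra R₀ B]
    [Algebra B T] (hn : EGA4.IsNormalHom R₀ S₀) (hB : CAlg2.IsGeomUnibranch B) (ε : B ⊗[R₀] S₀ ≃ₐ[B] T)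
    (q : Ideal T) [q.IsPrime] (hq : q.comap (algebraMap B T) = IsLocalRing.maximalIdeal B) :
    CAlg2.IsGeomUnibranch (Localization.AtPrime q) := by
  refine isGeomUnibranch_atPrime_of_ringEquiv ε.toRingEquiv q ?_
  refine (S2730.result R₀ S₀ hn B hB _ ?_).1
  rw [← hq, Ideal.comap_comap]
  congr 1
  ext b
  exact ε.commutes b

/-- Geometric unibranchness goes up along smooth algebras. -/
theorem atPrime_of_smooth (R S : Type u) [CommRing R] [CommRing S] [Algebra R S] [Algebra.Smooth R S]
    (p : Ideal R) [p.IsPrime] (q : Ideal S) [q.IsPrime] (hpq : q.comap (algebraMap R S) = p)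
    (hR : CAlg2.IsGeomUnibranch (Localization.AtPrime p)) :
    CAlg2.IsGeomUnibranch (Localization.AtPrime q) := by
  obtain ⟨R₀, S₀, _, _, hfg, hsm, ⟨e⟩⟩ := Algebra.Smooth.exists_subalgebra_fg ℤ R S
  have : IsNoetherianRing R₀ := by
    have : Algebra.FiniteType ℤ R₀ := (Subalgebra.fg_iff_finiteType R₀).1 hfg
    exact Algebra.FiniteType.isNoetherianRing ℤ R₀
  have : IsNoetherianRing S₀ := Algebra.FiniteType.isNoetherianRing R₀ S₀
  have hn : EGA4.IsNormalHom R₀ S₀ :=
    FlatLoc6.isNormalHom_of_isRegularHom R₀ S₀ (CplFib6.isRegularHom_of_smooth R₀ S₀)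
  let B := Localization.AtPrime p
  let M := Algebra.algebraMapSubmonoid S p.primeCompl
  let S' := Localization M
  have : Algebra.IsPushout R B S S' := (Algebra.isPushout_of_isLocalization p.primeCompl B S S').symm
  let ε : B ⊗[R₀] S₀ ≃ₐ[B] S' :=
    ((Algebra.TensorProduct.cancelBaseChange R₀ R B B S₀).symm.trans
      (Algebra.TensorProduct.congr AlgEquiv.refl e.symm)).trans (Algebra.IsPushout.equiv R B S S')
  have hdisj : Disjoint (M : Set S) (q : Set S) := by
    rw [Set.disjoint_left]
    rintro _ ⟨r, hr, rfl⟩ hrq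
    exact hr (hpq ▸ hrq)
  let q' : Ideal S' := q.map (algebraMap S S')
  have hq'p : q'.IsPrime := IsLocalization.isPrime_of_isPrime_disjoint M S' q ‹_› hdisj
  have hq'q : q'.comap (algebraMap S S') = q := IsLocalization.comap_map_of_isPrime_disjoint M S' ‹q.IsPrime› hdisj
  have hq' : q'.comap (algebraMap B S') = IsLocalRing.maximalIdeal B := by
    rw [← IsLocalization.map_comap p.primeCompl B (q'.comap (algebraMap B S')), Ideal.under, Ideal.comap_comap,
      ← IsScalarTower.algebraMap_eq, IsScalarTower.algebraMap_eq R S S', ← Ideal.comap_comap, hq'q, hpq,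
      Localization.AtPrime.map_eq_maximalIdeal]
  have hu' : CAlg2.IsGeomUnibranch (Localization.AtPrime q') :=
    isGeomUnibranch_atPrime_of_smooth_aux hn hR ε q' hq'
  have : IsLocalization.AtPrime (Localization.AtPrime q') q := by
    have := IsLocalization.isLocalization_isLocalization_atPrime_isLocalization M (Localization.AtPrime q') q'
    simpa only [hq'q] using this
  let e₂ : Localization.AtPrime q' ≃+* Localization.AtPrime q :=
    (IsLocalization.algEquiv q.primeCompl (Localization.AtPrime q') (Localization.AtPrime q)).toRingEquiv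
  exact UnibEtale.isGeomUnibranch_of_ringEquiv e₂ hu'

/-- Geometric unibranchness goes up along smooth morphisms. -/
theorem isGeomUnibranch_stalk_of_smooth {X Y : Scheme.{u}} (f : X ⟶ Y) [Smooth f] (x : X)
    (hY : CAlg2.IsGeomUnibranch (Y.presheaf.stalk (f x))) :
    CAlg2.IsGeomUnibranch (X.presheaf.stalk x) := by
  obtain ⟨W, hW, hxW, -⟩ := exists_isAffineOpen_mem_and_subset (x := f x) (U := ⊤) trivial
  obtain ⟨V, hV, hxV, hVW⟩ := exists_isAffineOpen_mem_and_subset (x := x) (U := f ⁻¹ᵁ W) hxW
  replace hVW : V ≤ f ⁻¹ᵁ W := hVW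
  have hsm : (f.appLE W V hVW).hom.Smooth := HasRingHomProperty.appLE (P := @Smooth) f ‹_› ⟨W, hW⟩ ⟨V, hV⟩ hVW
  algebraize [(f.appLE W V hVW).hom]
  let p := (hW.primeIdealOf ⟨f x, hVW hxV⟩).asIdeal
  let q := (hV.primeIdealOf ⟨x, hxV⟩).asIdeal
  have hpq : q.comap (algebraMap Γ(Y, W) Γ(X, V)) = p :=
    congr($(IsAffineOpen.comap_primeIdealOf_appLE W hW V hV hVW hxV).1)
  exact UnibEtale.isGeomUnibranch_of_ringEquiv (UnibEtale.stalkEquiv hV hxV).symm
    (atPrime_of_smooth Γ(Y, W) Γ(X, V) p q hpq
      (UnibEtale.isGeomUnibranch_of_ringEquiv (UnibEtale.stalkEquiv hW (hVW hxV)) hY))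

theorem nilradical_isPrime_of_isGeomUnibranch {A : Type u} [CommRing A] [IsLocalRing A]
    (h : CAlg2.IsGeomUnibranch A) : (nilradical A).IsPrime :=
  (Ideal.Quotient.isDomain_iff_prime _).1 h.1.1

/-- The irreducible component through a point which has prime nilradical and a neighbourhood meeting
finitely many components is a neighbourhood of it. -/
theorem exists_irreducible_nhd_of_finite {X : Scheme.{u}} (hu : ∀ x : X, (nilradical (X.presheaf.stalk x)).IsPrime)
    (x : X) (V : X.Opens) (hxV : x ∈ V) (hfin : (irreducibleComponents (V : Scheme.{u})).Finite) :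
    ∃ W : X.Opens, x ∈ W ∧ IsIrreducible (W : Set X) := by
  classical
  have huV : ∀ y : (V : Scheme.{u}), (nilradical ((V : Scheme.{u}).presheaf.stalk y)).IsPrime := fun y => by
    let e := (asIso (V.ι.stalkMap y)).commRingCatIsoToRingEquiv
    have h := hu (V.ι y)
    have : (nilradical ((V : Scheme.{u}).presheaf.stalk y)) =
        (nilradical (X.presheaf.stalk (V.ι y))).comap e.symm.toRingHom := by
      ext a
      simp only [Ideal.mem_comap, mem_nilradical]
      exact ⟨fun ha => ha.map _, fun ha => e.apply_symm_apply a ▸ ha.map e.toRingHom⟩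
    rw [this]
    exact Ideal.IsPrime.comap _
  let y : (V : Scheme.{u}) := ⟨x, hxV⟩
  let Z := irreducibleComponent y
  have hZ : Z ∈ irreducibleComponents (V : Scheme.{u}) := irreducibleComponent_mem_irreducibleComponents y
  let O : Set (V : Scheme.{u}) := (⋃ W ∈ irreducibleComponents (V : Scheme.{u}) \ {Z}, W)ᶜ
  have hO : IsOpen O :=
    ((hfin.subset Set.sdiff_subset).isClosed_biUnion fun W hW =>
      isClosed_of_mem_irreducibleComponents W hW.1).isOpen_compl
  have hyO : y ∈ O := fun h => by
    obtain ⟨W, hW, hyW⟩ := Set.mem_iUnion₂.1 h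
    exact hW.2 (H23.FinCondSch.unique_component (huV y) hW.1 hZ hyW mem_irreducibleComponent)
  have hOZ : O ⊆ Z := fun z hz => by
    by_contra hzZ
    exact hz (Set.mem_biUnion (x := irreducibleComponent z) ⟨irreducibleComponent_mem_irreducibleComponents z,
      fun h => hzZ (h ▸ mem_irreducibleComponent)⟩ mem_irreducibleComponent)
  have hirr : IsIrreducible O := ⟨⟨y, hyO⟩, isIrreducible_irreducibleComponent.2.open_subset hO hOZ⟩
  refine ⟨⟨V.ι '' O, V.ι.isOpenEmbedding.isOpenMap _ hO⟩, ⟨y, hyO, rfl⟩, hirr.image _ V.ι.continuous.continuousOn⟩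

/-- A scheme smooth over an irreducible geometrically unibranch scheme is locally irreducible. -/
theorem exists_irreducible_nhd {X S : Scheme.{u}} (f : X ⟶ S) [Smooth f] [IrreducibleSpace S]
    (hS : ∀ s : S, CAlg2.IsGeomUnibranch (S.presheaf.stalk s)) (x : X) :
    ∃ W : X.Opens, x ∈ W ∧ IsIrreducible (W : Set X) := by
  obtain ⟨U, hU, hxU, -⟩ := exists_isAffineOpen_mem_and_subset (x := f x) (U := ⊤) trivial
  obtain ⟨V, hV, hxV, hVU⟩ := exists_isAffineOpen_mem_and_subset (x := x) (U := f ⁻¹ᵁ U) hxU
  refine exists_irreducible_nhd_of_finite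
    (fun y => nilradical_isPrime_of_isGeomUnibranch (isGeomUnibranch_stalk_of_smooth f y (hS (f y)))) x V hxV ?_
  let g : (V : Scheme.{u}) ⟶ U := f.resLE U V hVU
  have hg : g ≫ U.ι = V.ι ≫ f := Scheme.Hom.resLE_comp_ι f _
  have : IsAffine (U : Scheme.{u}) := hU
  have : IsAffine (V : Scheme.{u}) := hV
  have : Smooth g := by
    have : Smooth (g ≫ U.ι) := by rw [hg]; infer_instance
    exact MorphismProperty.of_postcomp (W := @Smooth) (W' := @IsOpenImmersion) g U.ι inferInstance this
  have : IrreducibleSpace (U : Scheme.{u}) := by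
    have hpre : IsPreirreducible (U : Set S) :=
      (PreirreducibleSpace.isPreirreducible_univ (X := S)).open_subset U.2 (Set.subset_univ _)
    exact { toPreirreducibleSpace := Subtype.preirreducibleSpace hpre, toNonempty := ⟨⟨_, hxU⟩⟩ }
  -- the generic points lie in the generic fibre, which is Noetherian
  let η := genericPoint (U : Scheme.{u})
  have : LocallyOfFiniteType (g.fiberToSpecResidueField η) :=
    inferInstanceAs (LocallyOfFiniteType (pullback.snd g _))
  have : IsLocallyNoetherian (g.fiber η) := LocallyOfFiniteType.isLocallyNoetherian (g.fiberToSpecResidueField η)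
  have : CompactSpace (g.fiber η) := inferInstance
  have : IsNoetherian (g.fiber η) := {}
  have hfin := TopologicalSpace.NoetherianSpace.finite_irreducibleComponents (α := g.fiber η)
  refine (hfin.image fun Z => closure (g.fiberι η '' Z)).subset fun Z hZ => ?_
  have hgen := hZ.1.isGenericPoint_genericPoint (isClosed_of_mem_irreducibleComponents _ hZ)
  set ξ := hZ.1.genericPoint
  have hξη : g ξ = η := by
    obtain ⟨ξ', h1, h2⟩ := Flat.generalizingMap g (genericPoint_specializes (g ξ))
    have h3 : closure {ξ'} = Z :=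
      (hZ.2 isIrreducible_singleton.closure (hgen.def ▸ specializes_iff_closure_subset.1 h1)).antisymm
        (hgen.def ▸ specializes_iff_closure_subset.1 h1)
    rw [← (show IsGenericPoint ξ' Z from h3).eq hgen, h2]
  obtain ⟨w, hw⟩ : ξ ∈ Set.range (g.fiberι η) := by rw [Scheme.Hom.range_fiberι]; exact hξη
  refine ⟨irreducibleComponent w, irreducibleComponent_mem_irreducibleComponents w, ?_⟩
  have hsub : Z ⊆ closure (g.fiberι η '' irreducibleComponent w) := by
    rw [← hgen.def, ← hw]
    exact closure_mono (Set.singleton_subset_iff.2 ⟨w, mem_irreducibleComponent, rfl⟩)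
  exact Set.Subset.antisymm (hZ.2 (isIrreducible_irreducibleComponent.image _
    (g.fiberι η).continuous.continuousOn).closure hsub) hsub

end Groth.Agent.SGA7X
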