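import Groth.Agent.SGA7X.TorsorSplit
import Groth.Agent.SGA7X.SmoothUnibranch
import Groth.Agent.SchTorsor.Props
import Groth.Agent.GalTw.Basic
import Groth.Agent.H23.FinCondSch
import Groth.Prelude.Def_NonAbH2
import Groth.Prelude.Def_TwC

/-!
fppf torsors under a constant torsion-free group over locally irreducible geometrically unibranch
schemes are trivial.
-/

set_option autoImplicit false
set_option backward.isDefEq.respectTransparency.types false

universe u

open CategoryTheory Limits MonoidalCategory CartesianMonoidalCategory MonObj AlgebraicGeometry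

namespace Groth.Agent.SGA7X.TorsorConst

variable {P : Scheme.{u}} {Z : Type u} [Group Z] {G X : Over P} [GrpObj G] (eG : G ≅ TwC.const P Z)

/-- The section of `G` of index `z`. -/
noncomputable def ptG (z : Z) : 𝟙_ (Over P) ⟶ G := TwC.pt P Z z ≫ eG.inv

theorem ptG_mul (hG : TwC.IsConstGrp Z G eG) (z w : Z) : ptG eG z * ptG eG w = ptG eG (z * w) := hG z w

theorem ptG_one (hG : TwC.IsConstGrp Z G eG) : ptG eG 1 = 1 := by
  have h := ptG_mul eG hG 1 1
  rwa [_root_.mul_one, mul_eq_left] at h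

include eG in
theorem etale_hom : Etale G.hom := by
  have h : Etale (TwC.const P Z).hom := inferInstanceAs (Etale (GalTw.cstHom P Z))
  have : IsIso eG.hom.left := (Over.forget P).map_isIso eG.hom
  rw [← Over.w eG.hom]
  infer_instance

theorem toUnit_left (T : Over P) : (toUnit T).left = T.hom := by
  have h := Over.w (toUnit T)
  exact (Category.comp_id _).symm.trans h

theorem eq_ptG_iff {T : Over P} (g : T ⟶ G) (z : Z) :
    g = toUnit T ≫ ptG eG z ↔ (g ≫ eG.hom).left = T.hom ≫ Sigma.ι (fun _ : Z => P) z := by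
  rw [ptG, ← Category.assoc, Iso.eq_comp_inv]
  refine ⟨fun h => ?_, fun h => ?_⟩
  · rw [h, Over.comp_left, toUnit_left]
    rfl
  · apply Over.OverMorphism.ext
    rw [Over.comp_left, Over.comp_left, toUnit_left]
    exact h

/-- A point of `G` landing in one sheet is constant. -/
theorem eq_ptG_of_range {T : Over P} (g : T ⟶ G) (z : Z)
    (h : ∀ t, (g ≫ eG.hom).left t ∈ Set.range (Sigma.ι (fun _ : Z => P) z)) : g = toUnit T ≫ ptG eG z := by
  let k : T.left ⟶ GalTw.cst P Z := (g ≫ eG.hom).left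
  have hsub : Set.range k ⊆ Set.range (Sigma.ι (fun _ : Z => P) z) := by
    rintro _ ⟨t, rfl⟩
    exact h t
  have h1 := IsOpenImmersion.lift_fac (Sigma.ι (fun _ : Z => P) z) k hsub
  have h2 : IsOpenImmersion.lift (Sigma.ι (fun _ : Z => P) z) k hsub = T.hom := by
    have h3 := congrArg (· ≫ GalTw.cstHom P Z) h1
    simp only [Category.assoc] at h3
    rw [GalTw.ι_cstHom, Category.comp_id] at h3
    exact h3.trans (Over.w (g ≫ eG.hom))
  rw [h2] at h1
  exact (eq_ptG_iff eG g z).2 h1.symm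

/-- A point of `G` with values in a field is a constant one. -/
theorem existsUnique_ptG {T : Over P} [Subsingleton T.left] (t : T.left) (g : T ⟶ G) :
    ∃! z : Z, g = toUnit T ≫ ptG eG z := by
  obtain ⟨z, y, hy⟩ := GalTw.exists_eq_ι ((g ≫ eG.hom).left t)
  refine ⟨z, eq_ptG_of_range eG g z fun t' => ⟨y, hy.trans (by rw [Subsingleton.elim t' t])⟩, fun z' hz' => ?_⟩
  have h1 := congrArg (fun m : T.left ⟶ GalTw.cst P Z => m t) ((eq_ptG_iff eG g z').1 hz')
  exact GalTw.ι_inj (h1.symm.trans hy.symm)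

/-- The sheet of a point. -/
noncomputable def ix {T : Over P} (g : T ⟶ G) (t : T.left) : Z :=
  (GalTw.exists_eq_ι (U := P) (I := Z) ((g ≫ eG.hom).left t)).choose

theorem ix_eq_iff {T : Over P} (g : T ⟶ G) (t : T.left) (z : Z) :
    ix eG g t = z ↔ (g ≫ eG.hom).left t ∈ Set.range (Sigma.ι (fun _ : Z => P) z) := by
  obtain ⟨y, hy⟩ := (GalTw.exists_eq_ι (U := P) (I := Z) ((g ≫ eG.hom).left t)).choose_spec
  refine ⟨fun h => ⟨y, ?_⟩, fun ⟨y', hy'⟩ => GalTw.ι_inj (hy.trans hy'.symm)⟩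
  subst h
  exact hy

theorem ix_comp {T T' : Over P} (f : T' ⟶ T) (g : T ⟶ G) (t : T'.left) :
    ix eG (f ≫ g) t = ix eG g (f.left t) := by
  rw [ix_eq_iff]
  exact (ix_eq_iff eG g (f.left t) _).1 rfl

theorem ix_ptG {T : Over P} (z : Z) (t : T.left) : ix eG (toUnit T ≫ ptG eG z) t = z := by
  rw [ix_eq_iff]
  exact ⟨T.hom t, (congrArg (fun m : T.left ⟶ GalTw.cst P Z => m t) ((eq_ptG_iff eG _ z).1 rfl)).symm⟩

theorem isLocallyConstant_ix {T : Over P} (g : T ⟶ G) : IsLocallyConstant (ix eG g) := by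
  refine IsLocallyConstant.iff_isOpen_fiber.2 fun z => ?_
  have h : ix eG g ⁻¹' {z} = (g ≫ eG.hom).left ⁻¹' Set.range (Sigma.ι (fun _ : Z => P) z) :=
    Set.ext fun t => ix_eq_iff eG g t z
  rw [h]
  exact (Sigma.ι (fun _ : Z => P) z).isOpenEmbedding.isOpen_range.preimage (g ≫ eG.hom).left.continuous

theorem eq_ptG_of_ix {T : Over P} (g : T ⟶ G) (z : Z) (h : ∀ t, ix eG g t = z) : g = toUnit T ≫ ptG eG z :=
  eq_ptG_of_range eG g z fun t => (ix_eq_iff eG g t z).1 (h t)

/-- The action of a section of `G` on `X`. -/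
noncomputable def actPt (a : AlgGrp.Action G X) (g : 𝟙_ (Over P) ⟶ G) : X ⟶ X :=
  lift (toUnit X ≫ g) (𝟙 X) ≫ a.act

theorem comp_actPt (a : AlgGrp.Action G X) (g : 𝟙_ (Over P) ⟶ G) {T : Over P} (x : T ⟶ X) :
    x ≫ actPt a g = lift (toUnit T ≫ g) x ≫ a.act := by
  rw [actPt, comp_lift_assoc, ← Category.assoc, toUnit_unique (x ≫ toUnit X) (toUnit T), Category.comp_id]

theorem actPt_mul (a : AlgGrp.Action G X) (g h : 𝟙_ (Over P) ⟶ G) :
    actPt a (g * h) = actPt a h ≫ actPt a g := by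
  conv_rhs => rw [comp_actPt, actPt]
  rw [actPt, comp_mul, SchTorsor.act_assoc]

theorem actPt_one (a : AlgGrp.Action G X) : actPt a 1 = 𝟙 X := by
  rw [actPt, comp_one, SchTorsor.one_act_pt]

/-- A pseudo-torsor under a constant group is principal under the abstract group. -/
theorem isPrincipal (hG : TwC.IsConstGrp Z G eG) (a : AlgGrp.Action G X) (ha : NonAbH1.IsPseudoTorsorSch a) :
    TorsorSplit.IsPrincipal X.hom Z (fun z => (actPt a (ptG eG z)).left) := by
  refine ⟨fun z => Over.w _, ?_, fun z w => ?_, fun L _ x y hxy => ?_⟩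
  · show (actPt a (ptG eG 1)).left = _
    rw [ptG_one eG hG, actPt_one]
    rfl
  · show (actPt a (ptG eG (z * w))).left = _
    rw [← ptG_mul eG hG, actPt_mul]
    rfl
  · let T : Over P := Over.mk (x ≫ X.hom)
    let x' : T ⟶ X := Over.homMk x rfl
    let y' : T ⟶ X := Over.homMk y hxy.symm
    have : Subsingleton T.left := inferInstanceAs (Subsingleton (Spec (CommRingCat.of L)))
    obtain ⟨g, hg⟩ := SchTorsor.exists_div ha y' x'
    obtain ⟨z, hz, huniq⟩ := existsUnique_ptG eG (T := T) (IsLocalRing.closedPoint L) g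
    have key : ∀ z' : Z, x ≫ (actPt a (ptG eG z')).left = y ↔
        lift (toUnit T ≫ ptG eG z') x' ≫ a.act = y' := fun z' => by
      rw [← comp_actPt]
      exact ⟨fun h => Over.OverMorphism.ext h, fun h => congrArg CommaMorphism.left h⟩
    refine ⟨z, (key z).2 (hz ▸ hg), fun z' hz' => huniq z' ?_⟩
    exact SchTorsor.act_free ha (hg.trans ((key z').1 hz').symm)

theorem isTorsor_fpqc {a : AlgGrp.Action G X} (ha : NonAbH1.IsTorsorFor Scheme.fppfPrecoverage a) :
    NonAbH1.IsTorsorFor Scheme.fpqcPrecoverage a :=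
  ⟨ha.1, ha.2.choose, Scheme.fppfPrecoverage_le_fpqcPrecoverage _ ha.2.choose_spec.1, ha.2.choose_spec.2⟩

/-- Sections over the members of a covering by pairwise disjoint opens glue. -/
theorem exists_section_of_disjoint {Y : Scheme.{u}} (p : Y ⟶ P) {κ : Type u} (U : κ → P.Opens)
    (hU : TopologicalSpace.IsOpenCover U) (hdisj : ∀ i j, i ≠ j → Disjoint (U i : Set P) (U j : Set P))
    (s : ∀ i, (U i).toScheme ⟶ Y) (hs : ∀ i, s i ≫ p = (U i).ι) :
    ∃ t : P ⟶ Y, t ≫ p = 𝟙 P ∧ ∀ i, (U i).ι ≫ t = s i := by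
  let 𝒰 := P.openCoverOfIsOpenCover U hU
  have hagree : ∀ i j : κ, pullback.fst (U i).ι (U j).ι ≫ s i = pullback.snd (U i).ι (U j).ι ≫ s j := by
    intro i j
    by_cases h : i = j
    · subst h
      congr 1
      exact (cancel_mono (U i).ι).1 pullback.condition
    · have : IsEmpty (pullback (U i).ι (U j).ι : Scheme.{u}) := by
        rw [Scheme.isEmpty_pullback_iff, Scheme.Opens.range_ι, Scheme.Opens.range_ι]
        exact hdisj i j h
      exact isInitialOfIsEmpty.hom_ext _ _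
  refine ⟨𝒰.glueMorphisms s hagree, 𝒰.hom_ext _ _ fun i => ?_, fun i => 𝒰.ι_glueMorphisms s hagree i⟩
  rw [Category.comp_id, Scheme.Cover.ι_glueMorphisms_assoc]
  exact hs i

end Groth.Agent.SGA7X.TorsorConst

namespace Groth.Agent.SGA7X.TorsorSplit

variable {P : Scheme.{u}} {Z : Type u} [Group Z] {X : Scheme.{u}} {p : X ⟶ P} {τ : Z → (X ⟶ X)}

theorem isGeomUnibranch_opens {Y : Scheme.{u}} (V : Y.Opens) (y : V)
    (h : CAlg2.IsGeomUnibranch (Y.presheaf.stalk y.1)) :
    CAlg2.IsGeomUnibranch (V.toScheme.presheaf.stalk y) :=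
  UnibEtale.isGeomUnibranch_of_ringEquiv (asIso (V.ι.stalkMap y)).commRingCatIsoToRingEquiv h

theorem IsPrincipal.restrict (h : IsPrincipal p Z τ) (W : P.Opens) :
    ∃ τ' : Z → ((p ⁻¹ᵁ W).toScheme ⟶ (p ⁻¹ᵁ W).toScheme), IsPrincipal (p ∣_ W) Z τ' := by
  have hle : ∀ z, p ⁻¹ᵁ W ≤ τ z ⁻¹ᵁ (p ⁻¹ᵁ W) := fun z => by
    rw [← Scheme.Hom.comp_preimage, h.comp_hom]
  refine ⟨fun z => (τ z).resLE _ _ (hle z), fun z => ?_, ?_, fun z w => ?_, fun L _ a b hab => ?_⟩
  · rw [← cancel_mono W.ι, Category.assoc, morphismRestrict_ι, ← Category.assoc, Scheme.Hom.resLE_comp_ι,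
      Category.assoc, h.comp_hom]
  · rw [← cancel_mono (p ⁻¹ᵁ W).ι, Scheme.Hom.resLE_comp_ι, h.one, Category.comp_id, Category.id_comp]
  · simp only [← cancel_mono (p ⁻¹ᵁ W).ι, Category.assoc, Scheme.Hom.resLE_comp_ι, h.mul]
    rw [← Category.assoc ((τ w).resLE _ _ _), Scheme.Hom.resLE_comp_ι, Category.assoc]
  · obtain ⟨z, hz, hu⟩ := h.existsUnique L (a ≫ (p ⁻¹ᵁ W).ι) (b ≫ (p ⁻¹ᵁ W).ι) (by
      rw [Category.assoc, Category.assoc, ← morphismRestrict_ι, reassoc_of% hab])
    refine ⟨z, ?_, fun z' hz' => hu z' ?_⟩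
    · show a ≫ (τ z).resLE _ _ (hle z) = b
      rw [← cancel_mono (p ⁻¹ᵁ W).ι, Category.assoc, Scheme.Hom.resLE_comp_ι, ← Category.assoc, hz]
    · have e : (a ≫ (τ z').resLE _ _ (hle z')) ≫ (p ⁻¹ᵁ W).ι = b ≫ (p ⁻¹ᵁ W).ι := congrArg (· ≫ _) hz'
      rw [Category.assoc, Scheme.Hom.resLE_comp_ι, ← Category.assoc] at e
      exact e

/-- Global sections over a locally irreducible geometrically unibranch base. -/
theorem IsPrincipal.exists_section_global (h : IsPrincipal p Z τ) (hZ : ∀ z : Z, IsOfFinOrder z → z = 1)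
    [Etale p] [Surjective p] (hP : ∀ y : P, CAlg2.IsGeomUnibranch (P.presheaf.stalk y))
    (hirr : ∀ x : P, ∃ W : P.Opens, x ∈ W ∧ IsIrreducible (W : Set P)) :
    ∃ s : P ⟶ X, s ≫ p = 𝟙 P := by
  have hcomp : ∀ C ∈ irreducibleComponents P, ∀ x ∈ C, ∃ W : P.Opens, x ∈ W ∧ (W : Set P) ⊆ C := by
    intro C hC x hx
    obtain ⟨W, hxW, hW⟩ := hirr x
    refine ⟨W, hxW, ?_⟩
    obtain ⟨C', hC', hCW⟩ := exists_mem_irreducibleComponents_subset_of_isIrreducible _ hW
    rwa [H23.FinCondSch.unique_component (nilradical_isPrime_of_isGeomUnibranch (hP x)) hC hC' hx (hCW hxW)]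
  have hopen : ∀ C : irreducibleComponents P, IsOpen (C : Set P) := fun C => by
    rw [isOpen_iff_forall_mem_open]
    intro x hx
    obtain ⟨W, hxW, hWC⟩ := hcomp C C.2 x hx
    exact ⟨W, hWC, W.2, hxW⟩
  let U : irreducibleComponents P → P.Opens := fun C => ⟨C, hopen C⟩
  have hloc : ∀ C, ∃ s : (U C).toScheme ⟶ X, s ≫ p = (U C).ι := by
    intro C
    have : IrreducibleSpace (U C).toScheme :=
      { toPreirreducibleSpace := Subtype.preirreducibleSpace C.2.1.2,
        toNonempty := ⟨⟨C.2.1.1.choose, C.2.1.1.choose_spec⟩⟩ }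
    obtain ⟨τ', hτ'⟩ := h.restrict (U C)
    have : Etale (p ∣_ U C) := IsZariskiLocalAtTarget.restrict (P := @Etale) inferInstance (U C)
    have : Surjective (p ∣_ U C) := IsZariskiLocalAtTarget.restrict (P := @Surjective) inferInstance (U C)
    have hu : ∀ y : (U C).toScheme, CAlg2.IsGeomUnibranch ((U C).toScheme.presheaf.stalk y) :=
      fun y => isGeomUnibranch_opens _ y (hP _)
    obtain ⟨x₀⟩ : Nonempty (p ⁻¹ᵁ U C).toScheme := by
      obtain ⟨x, -⟩ := (p ∣_ U C).surjective (Classical.arbitrary _)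
      exact ⟨x⟩
    obtain ⟨s, hs, -⟩ := hτ'.exists_section hZ hu x₀
    exact ⟨s ≫ (p ⁻¹ᵁ U C).ι, by rw [Category.assoc, ← morphismRestrict_ι, reassoc_of% hs]⟩
  choose s hs using hloc
  have hcov : TopologicalSpace.IsOpenCover U := TopologicalSpace.IsOpenCover.mk (top_unique fun x _ =>
    TopologicalSpace.Opens.mem_iSup.2
      ⟨⟨irreducibleComponent x, irreducibleComponent_mem_irreducibleComponents x⟩, mem_irreducibleComponent⟩)
  have hdisj : ∀ C D, C ≠ D → Disjoint (U C : Set P) (U D : Set P) := by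
    intro C D hCD
    rw [Set.disjoint_left]
    intro x hx hx'
    exact hCD (Subtype.ext (H23.FinCondSch.unique_component
      (nilradical_isPrime_of_isGeomUnibranch (hP x)) C.2 D.2 hx hx'))
  obtain ⟨t, ht, -⟩ := TorsorConst.exists_section_of_disjoint p U hcov hdisj s hs
  exact ⟨t, ht⟩

end Groth.Agent.SGA7X.TorsorSplit

namespace Groth.Agent.SGA7X.TorsorConst

variable {P : Scheme.{u}} {Z : Type u} [Group Z] {G : Over P} [GrpObj G]

/-- An fppf torsor under a torsion-free constant group over a locally irreducible geometrically unibranch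
scheme is trivial. -/
theorem hasSection (eG : G ≅ TwC.const P Z) (hG : TwC.IsConstGrp Z G eG) (hZ : ∀ z : Z, IsOfFinOrder z → z = 1)
    (hP : ∀ y : P, CAlg2.IsGeomUnibranch (P.presheaf.stalk y))
    (hirr : ∀ x : P, ∃ W : P.Opens, x ∈ W ∧ IsIrreducible (W : Set P))
    (E : NonAbH1.TorsorSch G Scheme.fppfPrecoverage) : NonAbH1.HasSectionOver E.X (𝟙 P) := by
  have ha := isTorsor_fpqc E.isTorsor
  have := etale_hom eG
  have : Etale E.X.hom := SchTorsor.torsor_property @Etale ha inferInstance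
  have : Surjective E.X.hom := SchTorsor.surjective_hom ha
  exact (isPrincipal eG hG E.act ha.1).exists_section_global hZ hP hirr

end Groth.Agent.SGA7X.TorsorConst
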