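import Groth.Agent.SGA7X.SectionOpen
import Groth.Agent.SGA7X.TorsorConst
import Groth.Agent.EtFound.TopInv

/-!
The component of a section in a torsor under a constant group over a smooth scheme with connected fibres.
-/

set_option autoImplicit false
set_option backward.isDefEq.respectTransparency.types false

universe u

open CategoryTheory Limits MonoidalCategory CartesianMonoidalCategory MonObj AlgebraicGeometry

namespace Groth.Agent.SGA7X.TorsorComponent

open TorsorConst

variable {S P : Scheme.{u}} (p : P ⟶ S) {Z : Type u} [Group Z] {G : Over P} [GrpObj G]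
  (eG : G ≅ TwC.const P Z) (E : NonAbH1.TorsorSch G Scheme.fppfPrecoverage)
  {e : S ⟶ P} {e' : S ⟶ E.X.left}

include eG in
/-- On a fibre over which the torsor is trivial, the component of the section is the image of one section. -/
theorem exists_sheet [GeometricallyConnected p] (he : e ≫ p = 𝟙 S) (he' : e' ≫ E.X.hom = e) (s : S)
    (hs : NonAbH1.HasSectionOver E.X (p.fiberι s)) :
    ∃ σ : p.fiber s ⟶ E.X.left, σ ≫ E.X.hom = p.fiberι s ∧
      (∀ (L : Type u) [Field L] (x : Spec (.of L) ⟶ E.X.left) (b : Spec (.of L) ⟶ p.fiber s),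
        b ≫ p.fiberι s = x ≫ E.X.hom →
        x (IsLocalRing.closedPoint L) ∈ connectedComponentIn ((E.X.hom ≫ p) ⁻¹' {s}) (e' s) → x = b ≫ σ) ∧
      Set.range σ ⊆ MoreMor.sectionComponents (E.X.hom ≫ p) e' := by
  obtain ⟨σ₀, hσ₀⟩ := hs
  have hfs : (E.X.hom ≫ p) (e' s) = s := by
    rw [← Scheme.Hom.comp_apply, reassoc_of% he', he]
    rfl
  let T₀ : Over P := Over.mk (p.fiberι s)
  let c : T₀ ⟶ E.X := Over.homMk σ₀ hσ₀
  let T : Over P := Over.mk (pullback.fst E.X.hom (p.fiberι s) ≫ E.X.hom)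
  let x₁ : T ⟶ E.X := Over.homMk (pullback.fst E.X.hom (p.fiberι s)) rfl
  let π : T ⟶ T₀ := Over.homMk (pullback.snd E.X.hom (p.fiberι s)) pullback.condition.symm
  obtain ⟨g, hg⟩ := SchTorsor.exists_div E.isTorsor.1 x₁ (π ≫ c)
  let K : Set E.X.left := connectedComponentIn ((E.X.hom ≫ p) ⁻¹' {s}) (e' s)
  let A : Set T.left := (pullback.fst E.X.hom (p.fiberι s)) ⁻¹' K
  have hrange : K ⊆ Set.range (pullback.fst E.X.hom (p.fiberι s)) := by
    refine (connectedComponentIn_subset _ _).trans ?_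
    show _ ⊆ Set.range (pullback.fst E.X.hom (p.fiberι s))
    rw [Scheme.Pullback.range_fst, p.range_fiberι]
    exact subset_rfl
  have hA : _root_.IsPreconnected A := by
    refine (pullback.fst E.X.hom (p.fiberι s)).isEmbedding.isInducing.isPreconnected_image.1 ?_
    show _root_.IsPreconnected (_ '' (pullback.fst E.X.hom (p.fiberι s) ⁻¹' K))
    rw [Set.image_preimage_eq_of_subset hrange]
    exact isPreconnected_connectedComponentIn
  obtain ⟨t₀, ht₀⟩ := hrange (mem_connectedComponentIn hfs)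
  have ht₀A : (t₀ : T.left) ∈ A := by
    show pullback.fst E.X.hom (p.fiberι s) t₀ ∈ K
    rw [ht₀]
    exact mem_connectedComponentIn hfs
  let z₀ := ix eG g t₀
  let σ : p.fiber s ⟶ E.X.left := (c ≫ actPt E.act (ptG eG z₀)).left
  have hσ : σ ≫ E.X.hom = p.fiberι s := Over.w (c ≫ actPt E.act (ptG eG z₀))
  have key : ∀ (L : Type u) [Field L] (x : Spec (.of L) ⟶ E.X.left) (b : Spec (.of L) ⟶ p.fiber s),
      b ≫ p.fiberι s = x ≫ E.X.hom →
      x (IsLocalRing.closedPoint L) ∈ connectedComponentIn ((E.X.hom ≫ p) ⁻¹' {s}) (e' s) → x = b ≫ σ := by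
    intro L _ x b hb hx
    let TL : Over P := Over.mk (x ≫ E.X.hom)
    let w : TL ⟶ T := Over.homMk (pullback.lift x b hb.symm)
      ((Category.assoc _ _ _).symm.trans (congrArg (· ≫ E.X.hom) (pullback.lift_fst _ _ _)))
    have hw₁ : (w ≫ x₁).left = x := pullback.lift_fst _ _ _
    have hw₂ : (w ≫ π).left = b := pullback.lift_snd _ _ _
    have hwA : w.left (IsLocalRing.closedPoint L) ∈ A := by
      show pullback.fst E.X.hom (p.fiberι s) (w.left (IsLocalRing.closedPoint L)) ∈ K
      have : (w.left ≫ pullback.fst E.X.hom (p.fiberι s)) (IsLocalRing.closedPoint L) = x (IsLocalRing.closedPoint L) :=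
        congrArg (fun m : Spec (.of L) ⟶ E.X.left => m (IsLocalRing.closedPoint L)) hw₁
      rw [← Scheme.Hom.comp_apply, this]
      exact hx
    have hix : w ≫ g = toUnit TL ≫ ptG eG z₀ := by
      refine eq_ptG_of_ix eG (w ≫ g) z₀ fun t => ?_
      have : Subsingleton TL.left := inferInstanceAs (Subsingleton (Spec (CommRingCat.of L)))
      rw [Subsingleton.elim t (IsLocalRing.closedPoint L : Spec (CommRingCat.of L)), ix_comp]
      exact (isLocallyConstant_ix eG g).apply_eq_of_isPreconnected hA hwA ht₀A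
    have h := congrArg (w ≫ ·) hg
    simp only [comp_lift_assoc, hix] at h
    rw [← comp_actPt] at h
    rw [← hw₁, ← h, ← hw₂]
    rfl
  refine ⟨σ, hσ, key, ?_⟩
  let b₀ : Spec (S.residueField s) ⟶ p.fiber s :=
    pullback.lift (S.fromSpecResidueField s ≫ e) (𝟙 _) (by rw [Category.assoc, he]; simp)
  have hb₀ := key (S.residueField s) (S.fromSpecResidueField s ≫ e') b₀
    ((pullback.lift_fst _ _ _).trans (by rw [Category.assoc, he']))
    (by rw [Scheme.Hom.comp_apply, Scheme.fromSpecResidueField_apply]; exact mem_connectedComponentIn hfs)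
  have hσs : e' s ∈ Set.range σ := by
    refine ⟨b₀ (IsLocalRing.closedPoint (S.residueField s)), ?_⟩
    rw [← Scheme.Hom.comp_apply, ← hb₀, Scheme.Hom.comp_apply, Scheme.fromSpecResidueField_apply]
  refine SectionOpen.subset_sectionComponents (E.X.hom ≫ p) (isPreconnected_range σ.continuous) (s := s) ?_ hσs
    (SectionOpen.connectedComponentIn_subset_sectionComponents _ _ _ (mem_connectedComponentIn hfs))
  rintro _ ⟨t, rfl⟩
  show (E.X.hom ≫ p) (σ t) = s
  rw [← Scheme.Hom.comp_apply, reassoc_of% hσ, Scheme.Hom.comp_apply]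
  have := Set.mem_range_self (f := p.fiberι s) t
  rwa [p.range_fiberι] at this

include eG in
/-- The component of a section of a torsor trivial on the fibres maps isomorphically to the base. -/
theorem exists_isIso [Smooth p] [GeometricallyConnected p] (he : e ≫ p = 𝟙 S) (he' : e' ≫ E.X.hom = e)
    (hfib : ∀ s, NonAbH1.HasSectionOver E.X (p.fiberι s)) :
    ∃ C : E.X.left.Opens, (C : Set E.X.left) = MoreMor.sectionComponents (E.X.hom ≫ p) e' ∧
      IsIso (C.ι ≫ E.X.hom) := by
  have : Etale E.X.hom := SchTorsor.torsor_property @Etale (isTorsor_fpqc E.isTorsor) (etale_hom eG)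
  let C : E.X.left.Opens := ⟨MoreMor.sectionComponents (E.X.hom ≫ p) e',
    SectionOpen.isOpen_sectionComponents (E.X.hom ≫ p) e' (by rw [reassoc_of% he', he])⟩
  refine ⟨C, rfl, ?_⟩
  have : UniversallyInjective (C.ι ≫ E.X.hom) := by
    refine ((tfae_universallyInjective (C.ι ≫ E.X.hom)).out 0 1).mpr ?_
    intro L _ x y hxy
    simp only at hxy
    rw [← cancel_mono C.ι]
    let d : Spec (.of L) ⟶ S := (x ≫ C.ι) ≫ E.X.hom ≫ p
    let s : S := d (IsLocalRing.closedPoint L)
    obtain ⟨σ, -, hσ, -⟩ := exists_sheet p eG E he he' s (hfib s)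
    let b : Spec (.of L) ⟶ p.fiber s := pullback.lift ((x ≫ C.ι) ≫ E.X.hom)
      (Spec.map (Scheme.descResidueField (Scheme.stalkClosedPointTo d)))
      ((Category.assoc _ _ _).trans (Scheme.descResidueField_stalkClosedPointTo_fromSpecResidueField L S d).symm)
    have hb : b ≫ p.fiberι s = (x ≫ C.ι) ≫ E.X.hom := pullback.lift_fst _ _ _
    have hy : (y ≫ C.ι) ≫ E.X.hom = (x ≫ C.ι) ≫ E.X.hom := by simpa [Category.assoc] using hxy.symm
    refine (hσ L (x ≫ C.ι) b hb ?_).trans (hσ L (y ≫ C.ι) b (hb.trans hy.symm) ?_).symm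
    · exact SectionOpen.mem_component _ (x (IsLocalRing.closedPoint L)).2 rfl
    · refine SectionOpen.mem_component _ (y (IsLocalRing.closedPoint L)).2 ?_
      exact congrArg (fun m : Spec (.of L) ⟶ P => p (m (IsLocalRing.closedPoint L))) hy
  have : IsOpenImmersion (C.ι ≫ E.X.hom) := EtFound.isOpenImmersion_of_etale_univInj _
  refine (isIso_iff_isOpenImmersion_and_surjective _).2 ⟨this, ⟨fun t => ?_⟩⟩
  obtain ⟨σ, hσ, -, hσC⟩ := exists_sheet p eG E he he' (p t) (hfib (p t))
  obtain ⟨t', ht'⟩ : t ∈ Set.range (p.fiberι (p t)) := by rw [p.range_fiberι]; rfl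
  refine ⟨⟨σ t', hσC ⟨t', rfl⟩⟩, ?_⟩
  show E.X.hom (σ t') = t
  rw [← Scheme.Hom.comp_apply, hσ, ht']

/-- The image of a normalised section lies in the components of the section. -/
theorem range_subset [GeometricallyConnected p] (he : e ≫ p = 𝟙 S) (g : P ⟶ E.X.left)
    (hg : g ≫ E.X.hom = 𝟙 P) (hge : e ≫ g = e') :
    Set.range g ⊆ MoreMor.sectionComponents (E.X.hom ≫ p) e' := by
  rintro _ ⟨t, rfl⟩
  let s := p t
  have hes : e s ∈ p ⁻¹' {s} := congrArg (fun m : S ⟶ S => m s) he
  have hpc : _root_.IsPreconnected (p ⁻¹' {s}) := by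
    rw [← p.range_fiberι]
    exact isPreconnected_range (p.fiberι s).continuous
  refine SectionOpen.subset_sectionComponents (E.X.hom ≫ p) (hpc.image g g.continuous.continuousOn) (s := s) ?_
    ⟨e s, hes, rfl⟩ ?_ ⟨t, rfl, rfl⟩
  · rintro _ ⟨w, hw, rfl⟩
    show (E.X.hom ≫ p) (g w) = s
    rw [← Scheme.Hom.comp_apply, reassoc_of% hg]
    exact hw
  · have h1 : g (e s) = e' s := congrArg (fun m : S ⟶ E.X.left => m s) hge
    rw [h1]
    refine SectionOpen.connectedComponentIn_subset_sectionComponents _ _ s (mem_connectedComponentIn ?_)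
    show (E.X.hom ≫ p) (e' s) = s
    rw [← h1, ← Scheme.Hom.comp_apply, reassoc_of% hg]
    exact hes

include eG in
/-- A torsor trivial on the fibres has exactly one normalised section. -/
theorem existsUnique_section [Smooth p] [GeometricallyConnected p] (he : e ≫ p = 𝟙 S) (he' : e' ≫ E.X.hom = e)
    (hfib : ∀ s, NonAbH1.HasSectionOver E.X (p.fiberι s)) :
    ∃! g : P ⟶ E.X.left, g ≫ E.X.hom = 𝟙 P ∧ e ≫ g = e' := by
  obtain ⟨C, hC, _⟩ := exists_isIso p eG E he he' hfib
  have hrange : Set.range e' ⊆ Set.range C.ι := by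
    rw [Scheme.Opens.range_ι, hC]
    rintro _ ⟨s, rfl⟩
    refine SectionOpen.connectedComponentIn_subset_sectionComponents _ _ s (mem_connectedComponentIn ?_)
    exact congrArg (fun m : S ⟶ S => m s) (show e' ≫ E.X.hom ≫ p = 𝟙 S by rw [reassoc_of% he', he])
  refine ⟨inv (C.ι ≫ E.X.hom) ≫ C.ι, ⟨by simp, ?_⟩, fun g hg => ?_⟩
  · have h := IsOpenImmersion.lift_fac C.ι e' hrange
    have h1 : IsOpenImmersion.lift C.ι e' hrange ≫ (C.ι ≫ E.X.hom) = e := by rw [reassoc_of% h, he']
    rw [← h1, Category.assoc, IsIso.hom_inv_id_assoc, h]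
  · have hgC : Set.range g ⊆ Set.range C.ι := by
      rw [Scheme.Opens.range_ι, hC]
      exact range_subset p E he g hg.1 hg.2
    have h := IsOpenImmersion.lift_fac C.ι g hgC
    have h1 : IsOpenImmersion.lift C.ι g hgC = inv (C.ι ≫ E.X.hom) := by
      refine IsIso.eq_inv_of_inv_hom_id ?_
      rw [reassoc_of% h, hg.1]
    rw [← h1, h]

end Groth.Agent.SGA7X.TorsorComponent
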