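import Groth.Agent.SGA7X.TorsorConst
import Groth.Agent.SGA7X.FppfExact

/-!
Extensions of group schemes by constant groups.
-/

set_option autoImplicit false
set_option backward.isDefEq.respectTransparency.types false

universe u

open CategoryTheory Limits MonoidalCategory CartesianMonoidalCategory MonObj GrpObj AlgebraicGeometry

namespace Groth.Agent.SGA7X.ExtConst

open TorsorConst

variable {S : Scheme.{u}} {Z : Type u} [Group Z] {G E P : Over S} [GrpObj G] [GrpObj E] [GrpObj P]
  (eG : G ≅ TwC.const S Z) {u : G ⟶ E} {v : E ⟶ P}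

theorem one_eq_eta {M : Over S} [GrpObj M] : (1 : 𝟙_ (Over S) ⟶ M) = η[M] := by
  rw [Hom.one_def, toUnit_unique (toUnit (𝟙_ (Over S))) (𝟙 _), Category.id_comp]

/-- A point of a constant group on a connected scheme, trivial at one section, is trivial. -/
theorem eq_one_of_connected (hG : TwC.IsConstGrp Z G eG) [Nonempty S] {T : Over S} [PreconnectedSpace T.left]
    (g : T ⟶ G) (x : 𝟙_ (Over S) ⟶ T) (hx : x ≫ g = 1) : g = 1 := by
  have h0 : ∀ s, ix eG (x ≫ g) s = 1 := fun s => by
    rw [hx, show (1 : 𝟙_ (Over S) ⟶ G) = toUnit _ ≫ ptG eG (1 : Z) by rw [ptG_one eG hG, comp_one], ix_ptG]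
  obtain ⟨s⟩ := ‹Nonempty S›
  have h1 : ∀ t, ix eG g t = 1 := fun t => by
    rw [(isLocallyConstant_ix eG g).apply_eq_of_preconnectedSpace t (x.left s), ← ix_comp]
    exact h0 s
  rw [eq_ptG_of_ix eG g 1 h1, ptG_one eG hG, comp_one]

/-- An automorphism of an extension differs from the identity by a morphism from the quotient to the kernel. -/
theorem exists_diff (hex : NonAbH1.IsExactSeq Scheme.fppfPrecoverage u v) (φ : E ⟶ E) [IsMonHom φ]
    (hφu : u ≫ φ = u) (hφv : φ ≫ v = v) :
    ∃ c : P ⟶ G, v ≫ c ≫ u = φ * (𝟙 E)⁻¹ ∧ η[P] ≫ c = 1 := by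
  have := hex.1
  have := hex.2.1
  set D : E ⟶ E := φ * (𝟙 E)⁻¹ with hD
  have hDv : D ≫ v = 1 := by
    rw [hD, MonObj.mul_comp, GrpObj.inv_comp, hφv, Category.id_comp, mul_inv_cancel]
  obtain ⟨g₀, hg₀⟩ := FppfExact.exists_ker hex hDv
  obtain ⟨c, hc⟩ := (FppfExact.locEpi hex).desc g₀ fun T a b hab => by
    apply FppfExact.mono hex
    obtain ⟨g, rfl⟩ := FppfExact.exists_mul_right hex hab
    rw [Category.assoc, Category.assoc, hg₀, hD, comp_mul, comp_inv, comp_mul, comp_inv, Category.comp_id,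
      Category.comp_id, MonObj.mul_comp, Category.assoc, hφu, _root_.mul_inv_rev, _root_.mul_assoc, mul_inv_cancel_left]
  refine ⟨c, by rw [← Category.assoc, hc, hg₀], ?_⟩
  apply FppfExact.mono hex
  rw [← IsMonHom.one_hom v, Category.assoc, Category.assoc, ← Category.assoc v, hc, hg₀, hD, comp_mul, comp_inv,
    IsMonHom.one_hom φ, Category.comp_id, mul_inv_cancel, MonObj.one_comp]

theorem eq_id_of_diff_one (hex : NonAbH1.IsExactSeq Scheme.fppfPrecoverage u v) {φ : E ⟶ E}
    (h : v ≫ (1 : P ⟶ G) ≫ u = φ * (𝟙 E)⁻¹) : φ = 𝟙 E := by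
  have := hex.1
  rw [MonObj.one_comp, comp_one] at h
  exact mul_inv_eq_one.1 h.symm

/-- Rigidity for connected quotient. -/
theorem rigid_of_connected (hG : TwC.IsConstGrp Z G eG) (hex : NonAbH1.IsExactSeq Scheme.fppfPrecoverage u v)
    [Nonempty S] [PreconnectedSpace P.left] (φ : E ⟶ E) [IsMonHom φ] (hφu : u ≫ φ = u) (hφv : φ ≫ v = v) :
    φ = 𝟙 E := by
  obtain ⟨c, hc, hc1⟩ := exists_diff hex φ hφu hφv
  rw [eq_one_of_connected eG hG c η[P] hc1] at hc
  exact eq_id_of_diff_one hex hc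

/-- Rigidity for quasi-compact commutative quotient. -/
theorem rigid_of_quasiCompact [IsCommMonObj E] (hG : TwC.IsConstGrp Z G eG) (hZ : ∀ z : Z, IsOfFinOrder z → z = 1)
    (hex : NonAbH1.IsExactSeq Scheme.fppfPrecoverage u v) [CompactSpace P.left]
    (φ : E ⟶ E) [IsMonHom φ] (hφu : u ≫ φ = u) (hφv : φ ≫ v = v) : φ = 𝟙 E := by
  have := hex.1
  have := hex.2.1
  obtain ⟨c, hc, hc1⟩ := exists_diff hex φ hφu hφv
  have hhom : μ[P] ≫ c = (fst P P ≫ c) * (snd P P ≫ c) := by
    refine ((FppfExact.locEpi hex).tensorHom (FppfExact.locEpi hex)).cancel ?_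
    apply FppfExact.mono hex
    simp only [Category.assoc, MonObj.mul_comp, comp_mul, ← IsMonHom.mul_hom_assoc v]
    rw [hc, tensorHom_fst_assoc, tensorHom_snd_assoc, hc]
    simp only [comp_mul, comp_inv, Category.comp_id, IsMonHom.mul_hom φ]
    have hμ : (μ[E] : E ⊗ E ⟶ E) = fst E E * snd E E := by rw [Hom.mul_def, lift_fst_snd, Category.id_comp]
    rw [show (φ ⊗ₘ φ) ≫ μ[E] = (fst E E ≫ φ) * (snd E E ≫ φ) by rw [hμ, comp_mul, tensorHom_fst, tensorHom_snd],
      hμ, _root_.mul_inv, _root_.mul_mul_mul_comm]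
  have : IsMonHom c :=
    { one_hom := by rw [hc1, one_eq_eta]
      mul_hom := by
        rw [hhom, Hom.mul_def]
        congr 1 }
  suffices h : c = 1 by
    rw [h] at hc
    exact eq_id_of_diff_one hex hc
  have hfin := (isLocallyConstant_ix eG c).range_finite
  have key : ∀ p : P.left, ix eG c p = 1 := by
    intro p
    let T : Over S := Over.mk (P.left.fromSpecResidueField p ≫ P.hom)
    let x : T ⟶ P := Over.homMk (P.left.fromSpecResidueField p) rfl
    let t : T.left := IsLocalRing.closedPoint (P.left.residueField p)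
    have : Subsingleton T.left := inferInstanceAs (Subsingleton (Spec (P.left.residueField p)))
    obtain ⟨z, hz, -⟩ := existsUnique_ptG eG t (x ≫ c)
    have hp : ix eG c p = z := by
      have h1 : x.left t = p := Scheme.fromSpecResidueField_apply _ _
      rw [← h1, ← ix_comp, hz, ix_ptG]
    have hpow : ∀ n : ℕ, z ^ n ∈ Set.range (ix eG c) := fun n => by
      refine ⟨((x ^ n : T ⟶ P)).left t, ?_⟩
      have h2 : (x ^ n) ≫ c = toUnit T ≫ ptG eG (z ^ n) := by
        induction n with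
        | zero => rw [pow_zero, pow_zero, MonObj.one_comp, ptG_one eG hG, comp_one]
        | succ n ih => rw [pow_succ, pow_succ, MonObj.mul_comp, ih, hz, ← comp_mul, ptG_mul eG hG]
      rw [← ix_comp, h2, ix_ptG]
    rw [hp]
    refine hZ z ?_
    by_contra hfo
    exact Set.infinite_range_of_injective (injective_pow_iff_not_isOfFinOrder.2 hfo)
      (hfin.subset (by rintro _ ⟨n, rfl⟩; exact hpow n))
  rw [eq_ptG_of_ix eG c 1 key, ptG_one eG hG, comp_one]

/-- A property holding for the first projection of a trivialised extension holds for the quotient map. -/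
theorem property_quot (Q : MorphismProperty Scheme.{u}) [Q.IsStableUnderBaseChange] [IsZariskiLocalAtTarget Q]
    [Q.DescendsAlong (@Surjective ⊓ @Flat ⊓ @QuasiCompact)] {X Y W : Scheme.{u}} (f : X ⟶ Y)
    (hf : NonAbH1.IsLocallyTrivialFor Scheme.fpqcPrecoverage (Over.mk f : Over Y))
    (a : W ⟶ X) (b : W ⟶ X) (h : IsPullback a b f f) (ha : Q a) : Q f := by
  have h2 : Q (pullback.snd f f) := by
    have e := h.flip
    rw [← e.isoPullback_hom_snd, Q.cancel_left_of_respectsIso] at ha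
    exact ha
  refine IsZariskiLocalAtTarget.of_openCover Y.affineCover fun i => ?_
  obtain ⟨Z', q, hq₁, hq₂, hq₃, s, hs⟩ := SchTorsor.exists_single hf (Y.affineCover.f i)
  show Q (pullback.snd f (Y.affineCover.f i))
  refine MorphismProperty.of_pullback_snd_of_descendsAlong (Q := @Surjective ⊓ @Flat ⊓ @QuasiCompact)
    (g := q) ⟨⟨hq₁, hq₂⟩, hq₃⟩ ?_
  rw [← pullbackLeftPullbackSndIso_hom_snd f (Y.affineCover.f i) q, Q.cancel_left_of_respectsIso]
  have hs' : s ≫ f = q ≫ Y.affineCover.f i := hs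
  have h3 : Q (pullback.snd f (s ≫ f)) := by
    have h4 : Q (pullback.snd (pullback.snd f f) s) := MorphismProperty.pullback_snd _ _ h2
    rwa [← pullbackLeftPullbackSndIso_hom_snd f f s, Q.cancel_left_of_respectsIso] at h4
  rwa [hs'] at h3

theorem surjective_of_locallyTrivial {X Y : Scheme.{u}} (f : X ⟶ Y)
    (hf : NonAbH1.IsLocallyTrivialFor Scheme.fpqcPrecoverage (Over.mk f : Over Y)) : Surjective f := by
  refine ⟨fun y => ?_⟩
  obtain ⟨i, y', rfl⟩ : ∃ i y', (Y.affineCover.f i) y' = y := ⟨_, _, (Y.affineCover.exists_eq y).choose_spec.choose_spec⟩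
  obtain ⟨Z', q, hq₁, -, -, s, hs⟩ := SchTorsor.exists_single hf (Y.affineCover.f i)
  obtain ⟨z, rfl⟩ := q.surjective y'
  exact ⟨s z, congrArg (fun m : Z' ⟶ Y => m z) hs⟩

include eG in
theorem etale_surjective (hex : NonAbH1.IsExactSeq Scheme.fppfPrecoverage u v) :
    Etale v.left ∧ Surjective v.left := by
  have hl : NonAbH1.IsLocallyTrivialFor Scheme.fpqcPrecoverage (Over.mk v.left : Over P.left) :=
    ⟨hex.2.2.2.2.choose, Scheme.fppfPrecoverage_le_fpqcPrecoverage _ hex.2.2.2.2.choose_spec.1,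
      hex.2.2.2.2.choose_spec.2⟩
  refine ⟨?_, surjective_of_locallyTrivial v.left hl⟩
  have := etale_hom eG
  refine property_quot @Etale v.left hl (fst E G).left _ (hex.2.2.2.1.map (Over.forget S)) ?_
  exact inferInstanceAs (Etale (pullback.fst E.hom G.hom))

/-- The action of `Z` on the extension. -/
noncomputable def tr (u : G ⟶ E) (z : Z) : E ⟶ E := 𝟙 E * (toUnit E ≫ ptG eG z ≫ u)⁻¹

theorem comp_tr {T : Over S} (x : T ⟶ E) (z : Z) : x ≫ tr eG u z = x * (toUnit T ≫ ptG eG z ≫ u)⁻¹ := by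
  rw [tr, comp_mul, comp_inv, Category.comp_id, ← Category.assoc, toUnit_unique (x ≫ toUnit E) (toUnit T)]

theorem isPrincipal (hG : TwC.IsConstGrp Z G eG) (hex : NonAbH1.IsExactSeq Scheme.fppfPrecoverage u v) :
    TorsorSplit.IsPrincipal v.left Z (fun z => (tr eG u z).left) := by
  have := hex.1
  have := hex.2.1
  refine ⟨fun z => ?_, ?_, fun z w => ?_, fun L _ a b hab => ?_⟩
  · rw [← Over.comp_left]
    congr 1
    rw [tr, MonObj.mul_comp, GrpObj.inv_comp, Category.id_comp, Category.assoc, Category.assoc, hex.2.2.1,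
      comp_one, comp_one, inv_one, _root_.mul_one]
  · show (tr eG u 1).left = _
    rw [tr, ptG_one eG hG, MonObj.one_comp, comp_one, inv_one, _root_.mul_one]
    rfl
  · show (tr eG u (z * w)).left = _
    rw [← Over.comp_left]
    congr 1
    conv_rhs => rw [comp_tr, tr]
    rw [tr, ← ptG_mul eG hG, MonObj.mul_comp, comp_mul, _root_.mul_inv_rev, _root_.mul_assoc]
  · let T : Over S := Over.mk (a ≫ E.hom)
    let a' : T ⟶ E := Over.homMk a rfl
    let b' : T ⟶ E := Over.homMk b (by
      show b ≫ E.hom = a ≫ E.hom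
      rw [← Over.w v, reassoc_of% hab])
    have : Subsingleton T.left := inferInstanceAs (Subsingleton (Spec (CommRingCat.of L)))
    obtain ⟨g, hg⟩ := FppfExact.exists_mul_right hex (x := a') (y := b') (Over.OverMorphism.ext hab)
    obtain ⟨z, hz, huniq⟩ := existsUnique_ptG eG (T := T) (IsLocalRing.closedPoint L) g
    have hinv : ∀ z' : Z, (toUnit T ≫ ptG eG z' ≫ u)⁻¹ = (toUnit T ≫ ptG eG z'⁻¹) ≫ u := fun z' => by
      rw [inv_eq_iff_mul_eq_one, Category.assoc, ← comp_mul, ← MonObj.mul_comp, ptG_mul eG hG, mul_inv_cancel,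
        ptG_one eG hG, MonObj.one_comp, comp_one]
    have key : ∀ z' : Z, a ≫ (tr eG u z').left = b ↔ a' * ((toUnit T ≫ ptG eG z'⁻¹) ≫ u) = b' := fun z' => by
      rw [← hinv, ← comp_tr]
      exact ⟨fun h => Over.OverMorphism.ext h, fun h => congrArg CommaMorphism.left h⟩
    refine ⟨z⁻¹, (key _).2 (by rw [_root_.inv_inv, ← hz, ← hg]), fun z' hz' => ?_⟩
    rw [← huniq z'⁻¹ (FppfExact.mono hex (mul_left_cancel (hg.symm.trans ((key z').1 hz').symm))), _root_.inv_inv]

end Groth.Agent.SGA7X.ExtConst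

namespace Groth.Agent.SGA7X.ExtConst

open TorsorConst

/-- An extension of an irreducible geometrically unibranch group by a torsion-free constant group splits. -/
theorem exists_splitting {k : Type u} [Field k] {Z : Type u} [Group Z]
    {G E P : Over (Spec (CommRingCat.of k))} [GrpObj G] [GrpObj E] [GrpObj P]
    (eG : G ≅ TwC.const (Spec (CommRingCat.of k)) Z) {u : G ⟶ E} {v : E ⟶ P}
    (hG : TwC.IsConstGrp Z G eG) (hZ : ∀ z : Z, IsOfFinOrder z → z = 1)
    (hex : NonAbH1.IsExactSeq Scheme.fppfPrecoverage u v)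
    [IrreducibleSpace P.left] (hP : ∀ y : P.left, CAlg2.IsGeomUnibranch (P.left.presheaf.stalk y))
    [PreconnectedSpace (P ⊗ P).left] :
    ∃ s : P ⟶ E, IsMonHom s ∧ s ≫ v = 𝟙 P := by
  have := hex.1
  have := hex.2.1
  obtain ⟨_, _⟩ := etale_surjective eG hex
  have hpr := isPrincipal eG hG hex
  let s₀ : Spec (CommRingCat.of k) := IsLocalRing.closedPoint k
  obtain ⟨s', hs', y, hy⟩ := hpr.exists_section hZ hP (η[E].left s₀)
  let s : P ⟶ E := Over.homMk s' (by rw [← Over.w v, reassoc_of% hs'])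
  have hsv : s ≫ v = 𝟙 P := Over.OverMorphism.ext hs'
  have hone : η[P] ≫ s = η[E] := by
    have hy' : y = η[P].left s₀ := by
      have h1 : v.left (s' y) = y := congrArg (fun m : P.left ⟶ P.left => m y) hs'
      rw [← h1, hy]
      show (η[E] ≫ v).left s₀ = _
      rw [IsMonHom.one_hom v]
    have hη : η[P] ≫ s ≫ v = η[E] ≫ v := by rw [hsv, Category.comp_id, IsMonHom.one_hom v]
    obtain ⟨z, hz, -⟩ := hpr.existsUnique k η[E].left (η[P] ≫ s).left (by
      rw [← Over.comp_left, ← Over.comp_left, Category.assoc, hη])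
    have hfix : (tr eG u z).left (η[E].left s₀) = η[E].left s₀ := by
      have h2 := congrArg (fun m : Spec (CommRingCat.of k) ⟶ E.left => m s₀) hz
      refine h2.trans ?_
      show s' (η[P].left s₀) = _
      rw [← hy', hy]
    have := UnibEtale.locallyQuasiFinite_of_formallyUnramified v.left
    have hz1 := hpr.eq_one_of_fixed hZ hfix
    subst hz1
    have hz2 : η[E].left ≫ (tr eG u 1).left = (η[P] ≫ s).left := hz
    rw [hpr.one, Category.comp_id] at hz2
    exact (Over.OverMorphism.ext hz2).symm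
  refine ⟨s, ⟨hone, ?_⟩, hsv⟩
  have hμ : ∀ (M : Over (Spec (CommRingCat.of k))) [GrpObj M], (μ[M] : M ⊗ M ⟶ M) = fst M M * snd M M :=
    fun M _ => by rw [Hom.mul_def, lift_fst_snd, Category.id_comp]
  have hb : (s ⊗ₘ s) ≫ μ[E] = (fst P P ≫ s) * (snd P P ≫ s) := by
    rw [hμ E, comp_mul, tensorHom_fst, tensorHom_snd]
  rw [hb]
  obtain ⟨g, hg⟩ := FppfExact.exists_mul_right hex (x := μ[P] ≫ s) (y := (fst P P ≫ s) * (snd P P ≫ s)) (by
    rw [MonObj.mul_comp, Category.assoc, Category.assoc, Category.assoc, hsv, Category.comp_id, Category.comp_id,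
      Category.comp_id, hμ P])
  have hg1 : g = 1 := by
    refine eq_one_of_connected eG hG g (lift η[P] η[P]) (FppfExact.mono hex ?_)
    have h1 : lift η[P] η[P] ≫ μ[P] ≫ s = 1 := by
      rw [← Category.assoc, hμ P, comp_mul, lift_fst, lift_snd, ← one_eq_eta, _root_.mul_one, one_eq_eta, hone,
        ← one_eq_eta]
    have h2 : lift η[P] η[P] ≫ ((fst P P ≫ s) * (snd P P ≫ s)) = 1 := by
      rw [comp_mul, ← Category.assoc, ← Category.assoc, lift_fst, lift_snd, hone, ← one_eq_eta, _root_.mul_one]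
    rw [hg, comp_mul, h1, _root_.one_mul] at h2
    rw [Category.assoc, h2, MonObj.one_comp]
  rw [hg, hg1, MonObj.one_comp, _root_.mul_one]

end Groth.Agent.SGA7X.ExtConst
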