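import Groth.Agent.GrpSchLib.UnitsScheme
import Groth.Agent.H23.RedSub
import Mathlib.AlgebraicGeometry.Geometrically.Connected

/-!
A unit on a product of connected reduced schemes over an algebraically closed field which is trivial
on both axes is trivial.
-/

set_option autoImplicit false

universe u

open CategoryTheory Limits AlgebraicGeometry MonoidalCategory CartesianMonoidalCategory TopologicalSpace
open Groth.Agent.GrpSchLib.Kunneth

namespace Groth.Agent.SGA7X.UnitsProduct

variable {k : Type u} [Field k] [IsAlgClosed k]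

local notation "Pt" => 𝟙_ (Over (Spec (CommRingCat.of k)))

theorem point_eq {X : Over (Spec (CommRingCat.of k))} [LocallyOfFiniteType X.hom] (p q : Pt ⟶ X)
    (h : p.left.base (IsLocalRing.closedPoint k) = q.left.base (IsLocalRing.closedPoint k)) : p = q :=
  Over.OverMorphism.ext (ext_of_apply_closedPoint_eq X.hom (Over.w p) (Over.w q) h)

theorem point_closed {X : Over (Spec (CommRingCat.of k))} [LocallyOfFiniteType X.hom] (p : Pt ⟶ X) :
    IsClosed ({p.left.base (IsLocalRing.closedPoint k)} : Set X.left) :=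
  (pointEquivClosedPoint X.hom ⟨p.left, Over.w p⟩).2

theorem exists_pt {X : Over (Spec (CommRingCat.of k))} [LocallyOfFiniteType X.hom] {w : X.left}
    (hw : IsClosed ({w} : Set X.left)) : ∃ p : Pt ⟶ X, p.left.base (IsLocalRing.closedPoint k) = w := by
  let s := (pointEquivClosedPoint X.hom).symm ⟨w, hw⟩
  exact ⟨Over.homMk s.1 s.2, congrArg Subtype.val ((pointEquivClosedPoint X.hom).apply_symm_apply ⟨w, hw⟩)⟩

/-- A function on the rational points of a connected scheme of finite type which is constant on the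
points of integral affine pieces is constant. -/
theorem apply_eq_of_connected {X : Over (Spec (CommRingCat.of k))} [LocallyOfFiniteType X.hom]
    [QuasiCompact X.hom] [ConnectedSpace X.left] {α : Type*} (g : (Pt ⟶ X) → α)
    (hg : ∀ (U : Over (Spec (CommRingCat.of k))) [IsIntegral U.left] [IsSeparated U.hom]
      [LocallyOfFiniteType U.hom] [QuasiCompact U.hom] (i : U ⟶ X) (p q : Pt ⟶ U), g (p ≫ i) = g (q ≫ i))
    (a b : Pt ⟶ X) : g a = g b := by
  classical
  have : JacobsonSpace X.left := LocallyOfFiniteType.jacobsonSpace X.hom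
  have : CompactSpace X.left := (quasiCompact_iff_compactSpace X.hom).mp inferInstance
  have : IsLocallyNoetherian X.left := LocallyOfFiniteType.isLocallyNoetherian X.hom
  have : IsNoetherian X.left := {}
  let im : (Pt ⟶ X) → X.left := fun p => p.left.base (IsLocalRing.closedPoint k)
  -- constancy on irreducible closed subsets
  have hirr : ∀ Z : Set X.left, IsClosed Z → IsIrreducible Z →
      ∀ p q : Pt ⟶ X, im p ∈ Z → im q ∈ Z → g p = g q := by
    intro Z hZc hZi p q hp hq
    let I := Scheme.IdealSheafData.vanishingIdeal (⟨Z, hZc⟩ : Closeds X.left)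
    let ι := I.subschemeι
    have hrange : Set.range ι = Z := by
      rw [Scheme.IdealSheafData.range_subschemeι, Scheme.IdealSheafData.coe_support_vanishingIdeal]
      rfl
    have : IsReduced I.subscheme := H23.RedSub.isReduced_vanishingIdeal _
    have : IrreducibleSpace I.subscheme := by
      have : IrreducibleSpace ↥(Set.range ι) := by rw [hrange]; exact Subtype.irreducibleSpace hZi
      exact ι.isClosedEmbedding.isEmbedding.toHomeomorph.symm.surjective.irreducibleSpace
        ι.isClosedEmbedding.isEmbedding.toHomeomorph.symm.continuous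
    have : IsIntegral I.subscheme := isIntegral_of_irreducibleSpace_of_isReduced _
    let T : Over (Spec (CommRingCat.of k)) := Over.mk (ι ≫ X.hom)
    let ιT : T ⟶ X := Over.homMk ι
    have : LocallyOfFiniteType T.hom := inferInstanceAs (LocallyOfFiniteType (ι ≫ X.hom))
    have : JacobsonSpace T.left := LocallyOfFiniteType.jacobsonSpace T.hom
    have : IsIntegral T.left := ‹IsIntegral I.subscheme›
    have : IrreducibleSpace T.left := ‹IrreducibleSpace I.subscheme›
    have piece : ∀ (U : T.left.Opens), IsAffineOpen U → ∀ p q : Pt ⟶ T, im (p ≫ ιT) ∈ Z →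
        p.left.base (IsLocalRing.closedPoint k) ∈ U → q.left.base (IsLocalRing.closedPoint k) ∈ U →
        g (p ≫ ιT) = g (q ≫ ιT) := by
      intro U hU p q _ hpU hqU
      let V : Over (Spec (CommRingCat.of k)) := Over.mk (U.ι ≫ T.hom)
      let j : V ⟶ T := Over.homMk U.ι
      have : IsAffine V.left := hU
      have : IsAffineHom V.hom := isAffineHom_of_isAffine (Y := Spec (CommRingCat.of k)) _
      have : LocallyOfFiniteType V.hom := inferInstanceAs (LocallyOfFiniteType (U.ι ≫ T.hom))
      have : Nonempty V.left := ⟨(⟨_, hpU⟩ : U.toScheme)⟩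
      have : IsIntegral V.left := isIntegral_of_isOpenImmersion U.ι
      have hlift : ∀ r : Pt ⟶ T, r.left.base (IsLocalRing.closedPoint k) ∈ U → ∃ r' : Pt ⟶ V, r' ≫ j = r := by
        intro r hr
        have hsub : Set.range r.left.base ⊆ Set.range U.ι.base := by
          rintro _ ⟨w, rfl⟩
          rw [Scheme.Opens.range_ι, show w = IsLocalRing.closedPoint k from
            Subsingleton.elim (α := PrimeSpectrum k) _ _]
          exact hr
        exact ⟨Over.homMk (IsOpenImmersion.lift U.ι r.left hsub)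
          (by show _ ≫ U.ι ≫ T.hom = _; rw [IsOpenImmersion.lift_fac_assoc]; exact Over.w r),
          Over.OverMorphism.ext (IsOpenImmersion.lift_fac _ _ _)⟩
      obtain ⟨p', rfl⟩ := hlift p hpU
      obtain ⟨q', rfl⟩ := hlift q hqU
      rw [Category.assoc, Category.assoc]
      exact hg V (j ≫ ιT) p' q'
    -- lift the two points
    have hliftT : ∀ r : Pt ⟶ X, im r ∈ Z → ∃ r' : Pt ⟶ T, r' ≫ ιT = r := by
      intro r hr
      rw [← hrange] at hr
      obtain ⟨w, hw⟩ := hr
      have hwc : IsClosed ({w} : Set T.left) := by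
        have h := (point_closed r).preimage ι.continuous
        rwa [show ι ⁻¹' {im r} = {w} by
          ext z
          simp only [Set.mem_preimage, Set.mem_singleton_iff]
          exact ⟨fun h => ι.isClosedEmbedding.injective (h.trans hw.symm), fun h => h ▸ hw⟩] at h
      obtain ⟨r', hr'⟩ := exists_pt hwc
      refine ⟨r', point_eq _ _ ?_⟩
      show ι (r'.left.base _) = _
      rw [hr', hw]
    obtain ⟨p', rfl⟩ := hliftT p hp
    obtain ⟨q', rfl⟩ := hliftT q hq
    obtain ⟨U, hU, hpU, -⟩ := exists_isAffineOpen_mem_and_subset (x := p'.left.base (IsLocalRing.closedPoint k)) (U := ⊤) trivial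
    obtain ⟨W, hW, hqW, -⟩ := exists_isAffineOpen_mem_and_subset (x := q'.left.base (IsLocalRing.closedPoint k)) (U := ⊤) trivial
    have hne : ((U : Set T.left) ∩ W).Nonempty :=
      nonempty_preirreducible_inter U.2 W.2 ⟨_, hpU⟩ ⟨_, hqW⟩
    obtain ⟨c, hc, hcc⟩ := nonempty_inter_closedPoints hne (U.2.inter W.2).isLocallyClosed
    obtain ⟨r, rfl⟩ := exists_pt hcc
    exact (piece U hU p' r hp hpU hc.1).trans (piece W hW q' r hq hqW hc.2).symm
  -- glue along the components
  let S := irreducibleComponents X.left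
  have hSfin : S.Finite := NoetherianSpace.finite_irreducibleComponents
  let A : Set X.left := ⋃ Z ∈ {Z ∈ S | ∀ p : Pt ⟶ X, im p ∈ Z → g p = g b}, Z
  let B : Set X.left := ⋃ Z ∈ {Z ∈ S | ¬ ∀ p : Pt ⟶ X, im p ∈ Z → g p = g b}, Z
  have hAc : IsClosed A := (hSfin.subset (Set.sep_subset _ _)).isClosed_biUnion
    fun Z hZ => isClosed_of_mem_irreducibleComponents Z hZ.1
  have hBc : IsClosed B := (hSfin.subset (Set.sep_subset _ _)).isClosed_biUnion
    fun Z hZ => isClosed_of_mem_irreducibleComponents Z hZ.1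
  have hcov : A ∪ B = Set.univ := by
    refine Set.eq_univ_of_forall fun x => ?_
    obtain ⟨Z, hZ, hxZ⟩ : ∃ Z ∈ S, x ∈ Z := ⟨irreducibleComponent x,
      irreducibleComponent_mem_irreducibleComponents x, mem_irreducibleComponent⟩
    by_cases h : ∀ p : Pt ⟶ X, im p ∈ Z → g p = g b
    · exact Or.inl (Set.mem_biUnion (x := Z) ⟨hZ, h⟩ hxZ)
    · exact Or.inr (Set.mem_biUnion (x := Z) ⟨hZ, h⟩ hxZ)
  have hdisj : A ∩ B = ∅ := by
    by_contra h
    obtain ⟨c, hc, hcc⟩ := nonempty_inter_closedPoints (Set.nonempty_iff_ne_empty.2 h)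
      (hAc.inter hBc).isLocallyClosed
    obtain ⟨r, rfl⟩ := exists_pt hcc
    obtain ⟨Z, hZ, hrZ⟩ := Set.mem_iUnion₂.1 hc.1
    obtain ⟨Z', hZ', hrZ'⟩ := Set.mem_iUnion₂.1 hc.2
    refine hZ'.2 fun p hp => ?_
    rw [hirr Z' (isClosed_of_mem_irreducibleComponents Z' hZ'.1) hZ'.1.1 p r hp hrZ']
    exact hZ.2 r hrZ
  have hb : im b ∈ A := by
    refine Set.mem_biUnion (x := irreducibleComponent (im b))
      ⟨irreducibleComponent_mem_irreducibleComponents _, fun p hp => ?_⟩ mem_irreducibleComponent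
    exact hirr _ isClosed_irreducibleComponent isIrreducible_irreducibleComponent p b hp mem_irreducibleComponent
  have hAo : IsOpen A := by
    have : A = Bᶜ := (IsCompl.of_eq hdisj hcov).eq_compl
    rw [this]; exact hBc.isOpen_compl
  have hA : A = Set.univ := IsClopen.eq_univ ⟨hAc, hAo⟩ ⟨_, hb⟩
  obtain ⟨Z, hZ, haZ⟩ := Set.mem_iUnion₂.1 (hA.symm.subset (Set.mem_univ (im a)))
  exact hZ.2 a haZ

variable {X Y : Over (Spec (CommRingCat.of k))} [LocallyOfFiniteType X.hom] [QuasiCompact X.hom]
  [LocallyOfFiniteType Y.hom] [QuasiCompact Y.hom]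

/-- The value of a function on the product at a pair of points. -/
noncomputable abbrev val (f : Fn (X ⊗ Y)) (x : Pt ⟶ X) (y : Pt ⟶ Y) : k := evPt (lift x y) f

omit [IsAlgClosed k] [LocallyOfFiniteType X.hom] [QuasiCompact X.hom] [LocallyOfFiniteType Y.hom] [QuasiCompact Y.hom] in
theorem val_ne_zero {f : Fn (X ⊗ Y)} (hf : IsUnit f) (x : Pt ⟶ X) (y : Pt ⟶ Y) : val f x y ≠ 0 :=
  (hf.map (evPt (lift x y))).ne_zero

/-- Units trivial on both axes are trivial. -/
theorem eq_one [ConnectedSpace X.left] [ConnectedSpace Y.left] [IsReduced (X ⊗ Y).left]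
    (eX : Pt ⟶ X) (eY : Pt ⟶ Y) {f : Fn (X ⊗ Y)} (hf : IsUnit f)
    (hX : ev (lift (𝟙 X) (toUnit X ≫ eY)) f = 1) (hY : ev (lift (toUnit Y ≫ eX) (𝟙 Y)) f = 1) : f = 1 := by
  have hX' : ∀ x, val f x eY = 1 := fun x => by
    have h : lift x eY = x ≫ lift (𝟙 X) (toUnit X ≫ eY) := by
      ext1 <;> simp
    rw [val, h, ← evPt_comp, hX, map_one]
  have hY' : ∀ y, val f eX y = 1 := fun y => by
    have h : lift eX y = y ≫ lift (toUnit Y ≫ eX) (𝟙 Y) := by
      ext1 <;> simp
    rw [val, h, ← evPt_comp, hY, map_one]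
  -- the factorisation on pieces
  have hfac : ∀ (U W : Over (Spec (CommRingCat.of k))) [IsIntegral U.left] [IsSeparated U.hom]
      [LocallyOfFiniteType U.hom] [QuasiCompact U.hom] [IsIntegral W.left] [IsSeparated W.hom]
      [LocallyOfFiniteType W.hom] [QuasiCompact W.hom] (i : U ⟶ X) (j : W ⟶ Y) (p p' : Pt ⟶ U) (q q' : Pt ⟶ W),
      val f (p ≫ i) (q ≫ j) * val f (p' ≫ i) (q' ≫ j) = val f (p ≫ i) (q' ≫ j) * val f (p' ≫ i) (q ≫ j) := by
    intro U W _ _ _ _ _ _ _ _ i j p p' q q'
    obtain ⟨a, b, -, -, hab⟩ := exists_units_mul (hf.map (ev (i ⊗ₘ j)))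
    have hv : ∀ (r : Pt ⟶ U) (s : Pt ⟶ W), val f (r ≫ i) (s ≫ j) = evPt r a * evPt s b := by
      intro r s
      rw [val, show lift (r ≫ i) (s ≫ j) = lift r s ≫ (i ⊗ₘ j) by rw [lift_map],
        ← evPt_comp, hab, map_mul, evPt_comp, evPt_comp, lift_fst, lift_snd]
    rw [hv, hv, hv, hv]
    ring
  -- points in one piece have equal values
  have hone : ∀ (U : Over (Spec (CommRingCat.of k))) [IsIntegral U.left] [IsSeparated U.hom]
      [LocallyOfFiniteType U.hom] [QuasiCompact U.hom] (i : U ⟶ X) (p p' : Pt ⟶ U) (y : Pt ⟶ Y),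
      val f (p ≫ i) y = val f (p' ≫ i) y := by
    intro U _ _ _ _ i p p' y
    have h := apply_eq_of_connected (fun y => val f (p ≫ i) y / val f (p' ≫ i) y)
      (fun W _ _ _ _ j q q' => by
        rw [div_eq_div_iff (val_ne_zero hf _ _) (val_ne_zero hf _ _)]
        exact hfac U W i j p p' q q') y eY
    rwa [hX', hX', div_one, div_eq_one_iff_eq (val_ne_zero hf _ _)] at h
  have hall : ∀ x y, val f x y = 1 := fun x y => by
    rw [apply_eq_of_connected (fun x => val f x y) (fun U _ _ _ _ i p p' => hone U i p p' y) x eX]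
    exact hY' y
  have : LocallyOfFiniteType (X ⊗ Y).hom :=
    inferInstanceAs (LocallyOfFiniteType (pullback.fst X.hom Y.hom ≫ X.hom))
  refine sub_eq_zero.1 (eq_zero_of_forall_evPt _ fun z => ?_)
  have hz : z = lift (z ≫ fst X Y) (z ≫ snd X Y) := by ext1 <;> simp
  rw [map_sub, map_one, sub_eq_zero, hz]
  exact hall _ _

end Groth.Agent.SGA7X.UnitsProduct
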