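import Groth.Agent.TorBridge.LES

/-!
The long exact sequence of `Tor(-, N)`: vanishing of the first and of the middle term.
-/

set_option autoImplicit false

universe u

open CategoryTheory Limits MonoidalCategory Groth.Agent.TorBridge

namespace Groth.Agent.SGA7X

variable {R : Type u} [CommRing R]

/-- Vanishing in the long exact sequence of `Tor(-, N)`: both outer neighbours vanish. -/
theorem isZero_tor_vanishing (S : ShortComplex (ModuleCat.{u} R)) (hS : S.ShortExact) (N : ModuleCat.{u} R) (i : ℕ) :
    (IsZero (((Tor (ModuleCat.{u} R) (i + 1)).obj S.X₃).obj N) →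
      IsZero (((Tor (ModuleCat.{u} R) i).obj S.X₂).obj N) → IsZero (((Tor (ModuleCat.{u} R) i).obj S.X₁).obj N)) ∧
    (IsZero (((Tor (ModuleCat.{u} R) i).obj S.X₁).obj N) →
      IsZero (((Tor (ModuleCat.{u} R) i).obj S.X₃).obj N) → IsZero (((Tor (ModuleCat.{u} R) i).obj S.X₂).obj N)) := by
  let P : ProjectiveResolution N := ProjectiveResolution.of _
  let c := ComplexShape.down ℕ
  let C : ModuleCat.{u} R → ChainComplex (ModuleCat.{u} R) ℕ := fun X =>
    ((tenF X).mapHomologicalComplex c).obj P.complex
  let f : C S.X₁ ⟶ C S.X₂ :=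
    (NatTrans.mapHomologicalComplex ((tensoringLeft (ModuleCat.{u} R)).map S.f) c).app P.complex
  let g : C S.X₂ ⟶ C S.X₃ :=
    (NatTrans.mapHomologicalComplex ((tensoringLeft (ModuleCat.{u} R)).map S.g) c).app P.complex
  have hfg : f ≫ g = 0 := by
    refine HomologicalComplex.hom_ext _ _ fun j => ModuleCat.hom_ext ?_
    show S.g.hom.rTensor (P.complex.X j) ∘ₗ S.f.hom.rTensor (P.complex.X j) = 0
    rw [← LinearMap.rTensor_comp, ← ModuleCat.hom_comp, S.zero, ModuleCat.hom_zero, LinearMap.rTensor_zero]
  have hT : (ShortComplex.mk f g hfg).ShortExact := by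
    refine HomologicalComplex.shortExact_of_degreewise_shortExact _ fun j => ?_
    haveI : Module.Projective R (P.complex.X j) := (IsProjective.iff_projective _).2 (P.projective j)
    have he : Function.Exact S.f.hom S.g.hom :=
      (ShortComplex.ShortExact.moduleCat_exact_iff_function_exact _).1 hS.exact
    exact
      { exact := (ShortComplex.ShortExact.moduleCat_exact_iff_function_exact _).2
          (rTensor_exact (P.complex.X j) he ((ModuleCat.epi_iff_surjective _).1 hS.epi_g))
        mono_f := (ModuleCat.mono_iff_injective _).2 (Module.Flat.rTensor_preserves_injective_linearMap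
          (M := P.complex.X j) S.f.hom ((ModuleCat.mono_iff_injective _).1 hS.mono_f))
        epi_g := (ModuleCat.epi_iff_surjective _).2
          (LinearMap.rTensor_surjective (P.complex.X j) ((ModuleCat.epi_iff_surjective _).1 hS.epi_g)) }
  have key : ∀ (X : ModuleCat.{u} R) (j : ℕ),
      IsZero (((Tor (ModuleCat.{u} R) j).obj X).obj N) ↔ IsZero ((C X).homology j) := fun X j =>
    Iso.isZero_iff (P.isoLeftDerivedObj (tenF X) j)
  simp only [key, ← HomologicalComplex.exactAt_iff_isZero_homology]
  simp only [HomologicalComplex.exactAt_iff_isZero_homology]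
  exact ⟨fun h₃ h₂ => (hT.homology_exact₁ (i + 1) i rfl).isZero_X₂ (h₃.eq_of_src _ _) (h₂.eq_of_tgt _ _),
    fun h₁ h₃ => (hT.homology_exact₂ i).isZero_X₂ (h₁.eq_of_src _ _) (h₃.eq_of_tgt _ _)⟩

end Groth.Agent.SGA7X
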