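import Groth.Agent.SGA7X.SectionOpen
import Groth.Agent.SGA7X.ExtConst
import Groth.Agent.AVIdx.GeomPts
import Groth.Agent.EtFound.TopInv
import Groth.Agent.GeomField.Connected
import Groth.Agent.GeomConn5.Point

/-!
Extensions of smooth group schemes with connected fibres by twisted lattices.
-/

set_option autoImplicit false
set_option backward.isDefEq.respectTransparency.types false

universe u

open CategoryTheory Limits MonoidalCategory CartesianMonoidalCategory MonObj GrpObj AlgebraicGeometry

namespace Groth.Agent.SGA7X.TwistedExt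

open TorsorConst

variable {S : Scheme.{u}}

/-- The fibres of an etale scheme are discrete: a map out of a scheme with connected fibres, trivial on a
section, is trivial. -/
theorem eq_one_of_connected_fibres {M T : Over S} [GrpObj M] [Etale M.hom]
    (hT : ∀ s : S, _root_.IsPreconnected (T.hom ⁻¹' {s})) (h : T ⟶ M) (x : 𝟙_ (Over S) ⟶ T) (hx : x ≫ h = 1) :
    h = 1 := by
  let o : S ⟶ M.left := η[M].left
  have ho : o ≫ M.hom = 𝟙 S := Over.w η[M]
  have : IsOpenImmersion o := by
    have : Etale (o ≫ M.hom) := by rw [ho]; infer_instance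
    have : Etale o := Etale.of_comp o M.hom
    have : IsSplitMono o := ⟨⟨⟨M.hom, ho⟩⟩⟩
    exact IsOpenImmersion.of_flat_of_mono o
  have hx' : x.left ≫ h.left = o := by
    rw [← Over.comp_left, hx, ExtConst.one_eq_eta]
  have hxT : x.left ≫ T.hom = 𝟙 S := Over.w x
  have hrange : Set.range h.left ⊆ Set.range o := by
    rintro _ ⟨t, rfl⟩
    let s := T.hom t
    have hd : DiscreteTopology ↥(M.hom ⁻¹' {s}) := by
      have := UnibEtale.locallyQuasiFinite_of_formallyUnramified M.hom
      exact isDiscrete_iff_discreteTopology.1 (M.hom.isDiscrete_preimage_singleton s)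
    have : PreconnectedSpace ↥(T.hom ⁻¹' {s}) := Subtype.preconnectedSpace (hT s)
    let φ : ↥(T.hom ⁻¹' {s}) → ↥(M.hom ⁻¹' {s}) := fun w => ⟨h.left w.1, by
      show M.hom (h.left w.1) = s
      rw [← Scheme.Hom.comp_apply, Over.w h]
      exact w.2⟩
    have hφ : Continuous φ := (h.left.continuous.comp continuous_subtype_val).subtype_mk _
    have hs : x.left s ∈ T.hom ⁻¹' {s} := congrArg (fun m : S ⟶ S => m s) hxT
    refine ⟨s, ?_⟩
    have h1 := congrArg Subtype.val (PreconnectedSpace.constant inferInstance hφ (x := ⟨x.left s, hs⟩) (y := ⟨t, rfl⟩))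
    exact (congrArg (fun m : S ⟶ M.left => m s) hx').symm.trans h1
  have hfac := IsOpenImmersion.lift_fac o h.left hrange
  have hl : IsOpenImmersion.lift o h.left hrange = T.hom := by
    have h1 := congrArg (· ≫ M.hom) hfac
    simp only [Category.assoc, ho, Category.comp_id] at h1
    exact h1.trans (Over.w h)
  apply Over.OverMorphism.ext
  rw [← hfac, hl, Hom.one_def, Over.comp_left, toUnit_left]

/-- Properties descend along the coverings used for twisted constant schemes. -/
theorem property_of_snd (Q : MorphismProperty Scheme.{u}) [IsZariskiLocalAtTarget Q]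
    [Q.DescendsAlong (@Surjective ⊓ @Flat ⊓ @QuasiCompact)] {S' X : Scheme.{u}} (g : X ⟶ S) (f : S' ⟶ S) [Flat f]
    (hcov : ∀ V : S.Opens, IsAffineOpen V → ∃ W : S'.Opens, IsCompact (W : Set S') ∧ f.base '' (W : Set S') = (V : Set S))
    (hsnd : Q (pullback.snd g f)) : Q g := by
  rw [IsZariskiLocalAtTarget.iff_of_iSup_eq_top (P := Q) (fun V : S.affineOpens => V.1) (iSup_affineOpens_eq_top S)]
  intro V
  obtain ⟨W, hW, hWV⟩ := hcov V.1 V.2
  let q : (W : Scheme.{u}) ⟶ V.1 := f.resLE V.1 W fun x hx => by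
    show f x ∈ (V.1 : Set S)
    rw [← hWV]
    exact ⟨x, hx, rfl⟩
  have : CompactSpace (W : Scheme.{u}) := isCompact_iff_compactSpace.mp hW
  have : IsAffine (V.1 : Scheme.{u}) := V.2
  have : Flat q := by
    have : Flat (q ≫ V.1.ι) := by rw [Scheme.Hom.resLE_comp_ι]; infer_instance
    exact MorphismProperty.of_postcomp (W := @Flat) (W' := @IsOpenImmersion) q V.1.ι inferInstance ‹_›
  have : Surjective q := ⟨fun v => by
    obtain ⟨w, hw, hwv⟩ : v.1 ∈ f '' (W : Set S') := hWV.symm ▸ v.2
    refine ⟨⟨w, hw⟩, V.1.ι.isOpenEmbedding.injective ?_⟩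
    rw [← Scheme.Hom.comp_apply, Scheme.Hom.resLE_comp_ι, Scheme.Hom.comp_apply]
    exact hwv⟩
  have : QuasiCompact q := (quasiCompact_iff_compactSpace q).mpr inferInstance
  refine MorphismProperty.of_pullback_fst_of_descendsAlong (P := Q)
    (Q := @Surjective ⊓ @Flat ⊓ @QuasiCompact) (f := q) (g := g ∣_ V.1) ⟨⟨inferInstance, inferInstance⟩, inferInstance⟩ ?_
  have h1 : IsPullback (pullback.fst q (g ∣_ V.1)) (pullback.snd q (g ∣_ V.1) ≫ (g ⁻¹ᵁ V.1).ι) (W.ι ≫ f) g := by
    rw [← Scheme.Hom.resLE_comp_ι f (U := V.1) (V := W)]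
    exact (IsPullback.of_hasPullback q (g ∣_ V.1)).paste_vert (isPullback_morphismRestrict g V.1)
  have h2 : IsPullback (pullback.snd g f ∣_ W) ((pullback.snd g f ⁻¹ᵁ W).ι ≫ pullback.fst g f) (W.ι ≫ f) g :=
    (isPullback_morphismRestrict (pullback.snd g f) W).paste_vert (IsPullback.of_hasPullback g f).flip
  rw [← h1.isoIsPullback_hom_fst _ _ h2, Q.cancel_left_of_respectsIso]
  exact IsZariskiLocalAtTarget.restrict hsnd _

/-- A scheme fpqc locally isomorphic to a constant one is etale. -/
theorem etale_of_locally {M : Over S}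
    (hM : TwC.Locally S TwC.Topology.fpqc (fun S' f => ∃ I : Type u, Nonempty (Red.bc f M ≅ TwC.const S' I))) :
    Etale M.hom := by
  obtain ⟨S', f, _, -, hcov, hloc⟩ := hM
  refine property_of_snd @Etale M.hom f hcov ?_
  choose U hmem hU using hloc
  rw [IsZariskiLocalAtTarget.iff_of_iSup_eq_top (P := @Etale) U
    (eq_top_iff.mpr fun x _ => TopologicalSpace.Opens.mem_iSup.mpr ⟨x, hmem x⟩)]
  intro s
  obtain ⟨I, ⟨e⟩⟩ := hU s
  have h1 : Etale (pullback.snd M.hom ((U s).ι ≫ f)) := by
    have h : Etale (TwC.const (U s : Scheme.{u}) I).hom := inferInstanceAs (Etale (GalTw.cstHom _ I))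
    have : IsIso e.hom.left := (Over.forget _).map_isIso e.hom
    rw [show pullback.snd M.hom ((U s).ι ≫ f) = e.hom.left ≫ (TwC.const (U s : Scheme.{u}) I).hom from (Over.w e.hom).symm]
    infer_instance
  have hsq : IsPullback (pullback.snd M.hom f ∣_ U s) ((pullback.snd M.hom f ⁻¹ᵁ U s).ι ≫ pullback.fst M.hom f)
      ((U s).ι ≫ f) M.hom :=
    (isPullback_morphismRestrict (pullback.snd M.hom f) (U s)).paste_vert (IsPullback.of_hasPullback M.hom f).flip
  rw [← hsq.flip.isoPullback_hom_snd, MorphismProperty.cancel_left_of_respectsIso @Etale]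
  exact h1

/-- A connected scheme over a field with a rational point is geometrically connected. -/
theorem geometricallyConnected_of_section {k : Type u} [Field k] {X : Scheme.{u}} [ConnectedSpace X]
    (f : X ⟶ Spec (CommRingCat.of k)) (e : Spec (CommRingCat.of k) ⟶ X) (he : e ≫ f = 𝟙 _) :
    GeometricallyConnected f := by
  let : X.Over (Spec (CommRingCat.of k)) := ⟨f⟩
  let x := e (IsLocalRing.closedPoint k)
  have h1 := Scheme.descResidueField_stalkClosedPointTo_fromSpecResidueField k X e
  let d : X.residueField x ⟶ CommRingCat.of k := Scheme.descResidueField (Scheme.stalkClosedPointTo e)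
  refine GeomField.geometricallyConnected_of_point (k := k) x fun a _ => ?_
  have h2 : CommRingCat.ofHom (Curv2.resMap k X x) ≫ d = 𝟙 _ := by
    refine Spec.map_injective ?_
    rw [Spec.map_comp, ← GeomConn5.spec_resMap, Spec.map_id, ← he, ← Category.assoc]
    exact congrArg (· ≫ f) h1
  refine ⟨d.hom a, d.hom.injective ?_⟩
  exact congrArg (fun m : CommRingCat.of k ⟶ CommRingCat.of k => m.hom (d.hom a)) h2

/-- A smooth connected scheme over a field is irreducible. -/
theorem irreducibleSpace_of_smooth {k : Type u} [Field k] {X : Scheme.{u}} (f : X ⟶ Spec (CommRingCat.of k))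
    [Smooth f] [ConnectedSpace X] : IrreducibleSpace X := by
  let p₀ : Spec (CommRingCat.of k) := IsLocalRing.closedPoint k
  have hf : f ⁻¹' {p₀} = Set.univ := Set.eq_univ_of_forall fun a => Subsingleton.elim _ _
  refine { isPreirreducible_univ := fun A B hA hB ⟨a, _, ha⟩ ⟨b, _, hb⟩ => ?_, toNonempty := inferInstance }
  obtain ⟨ξ, h1, h2, -⟩ := SectionOpen.exists_common_generization f (s := p₀) (y := a) (z := b)
    (by rw [hf, connectedComponentIn_univ, PreconnectedSpace.connectedComponent_eq_univ]; trivial)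
  exact ⟨ξ, trivial, h1.mem_open hA ha, h2.mem_open hB hb⟩

section Const

variable {U : Scheme.{u}} (g : U ⟶ S) {M : Over S} [GrpObj M] {Z : Type u} [Group Z]
  (e : Red.bc g M ≅ TwC.const U Z)

/-- The point of index `z`. -/
noncomputable def mPt (z : Z) : Over.mk g ⟶ M := (AVIdx.GeomPts.equiv g M).symm (ptG e z)

theorem mPt_mul (hG : TwC.IsConstGrp Z (Red.bc g M) e) (z w : Z) : mPt g e (z * w) = mPt g e z * mPt g e w := by
  rw [mPt, ← ptG_mul e hG, map_mul]
  rfl

theorem mPt_one (hG : TwC.IsConstGrp Z (Red.bc g M) e) : mPt g e 1 = 1 := by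
  rw [mPt, ptG_one e hG, map_one]

theorem mPt_left (z : Z) : (ptG e z).left ≫ pullback.fst M.hom g = (mPt g e z).left := by
  rw [← AVIdx.GeomPts.toBc_left g M (mPt g e z)]
  congr 2
  exact ((AVIdx.GeomPts.equiv g M).apply_symm_apply (ptG e z)).symm

variable {T : Over S} (c : T ⟶ Over.mk g) (x : T ⟶ M)

/-- A point as a point of the base change. -/
noncomputable def toU : (Over.mk c.left : Over U) ⟶ Red.bc g M :=
  Over.homMk (pullback.lift x.left c.left ((Over.w x).trans (Over.w c).symm)) (pullback.lift_snd _ _ _)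

theorem toU_mPt (z : Z) : toU g c (c ≫ mPt g e z) = toUnit (Over.mk c.left) ≫ ptG e z := by
  apply Over.OverMorphism.ext
  rw [Over.comp_left, toUnit_left]
  apply pullback.hom_ext
  · rw [Category.assoc, mPt_left]
    exact pullback.lift_fst _ _ _
  · rw [Category.assoc, show (ptG e z).left ≫ pullback.snd M.hom g = 𝟙 U from Over.w (ptG e z)]
    exact (pullback.lift_snd _ _ _).trans (Category.comp_id _).symm

/-- The index of a point. -/
noncomputable def ixM (t : T.left) : Z := ix e (toU g c x) t

theorem ixM_mPt (z : Z) (t : T.left) : ixM g e c (c ≫ mPt g e z) t = z := by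
  rw [ixM, toU_mPt]
  exact ix_ptG e (T := Over.mk c.left) z t

theorem isLocallyConstant_ixM : IsLocallyConstant (ixM g e c x) :=
  isLocallyConstant_ix e (toU g c x)

theorem ixM_comp {T' : Over S} (w : T' ⟶ T) (t : T'.left) :
    ixM g e (w ≫ c) (w ≫ x) t = ixM g e c x (w.left t) := by
  let w' : (Over.mk (w ≫ c).left : Over U) ⟶ Over.mk c.left := Over.homMk w.left rfl
  have h : toU g (w ≫ c) (w ≫ x) = w' ≫ toU g c x := by
    apply Over.OverMorphism.ext
    apply pullback.hom_ext
    · exact (pullback.lift_fst _ _ _).trans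
        (((Category.assoc _ _ _).trans (congrArg (w.left ≫ ·) (pullback.lift_fst _ _ _))).symm)
    · exact (pullback.lift_snd _ _ _).trans
        (((Category.assoc _ _ _).trans (congrArg (w.left ≫ ·) (pullback.lift_snd _ _ _))).symm)
  rw [ixM, h]
  exact ix_comp e w' _ t

theorem eq_mPt (z : Z) (hz : ∀ t, ixM g e c x t = z) : x = c ≫ mPt g e z := by
  have h := eq_ptG_of_ix e (toU g c x) z hz
  rw [← toU_mPt g e c z] at h
  apply Over.OverMorphism.ext
  have h1 := congrArg (fun m => m.left ≫ pullback.fst M.hom g) h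
  exact ((pullback.lift_fst _ _ _).symm.trans h1).trans (pullback.lift_fst _ _ _)

end Const

section Main

variable {P E M : Over S} [GrpObj P] [GrpObj E] [GrpObj M] [IsCommMonObj E] {u : M ⟶ E} {v : E ⟶ P}

theorem etale_surjective [Etale M.hom] (hex : NonAbH1.IsExactSeq Scheme.fppfPrecoverage u v) :
    Etale v.left ∧ Surjective v.left := by
  have hl : NonAbH1.IsLocallyTrivialFor Scheme.fpqcPrecoverage (Over.mk v.left : Over P.left) :=
    ⟨hex.2.2.2.2.choose, Scheme.fppfPrecoverage_le_fpqcPrecoverage _ hex.2.2.2.2.choose_spec.1,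
      hex.2.2.2.2.choose_spec.2⟩
  refine ⟨?_, ExtConst.surjective_of_locallyTrivial v.left hl⟩
  refine ExtConst.property_quot @Etale v.left hl (fst E M).left _ (hex.2.2.2.1.map (Over.forget S)) ?_
  exact inferInstanceAs (Etale (pullback.fst E.hom M.hom))

/-- Over a field point where the kernel is constant, the component of the unit is one sheet. -/
theorem exists_sheet [Smooth P.hom] [GeometricallyConnected P.hom] [Etale M.hom]
    (hex : NonAbH1.IsExactSeq Scheme.fppfPrecoverage u v)
    {U : Scheme.{u}} (g : U ⟶ S) {Z : Type u} [Group Z] (hZ : ∀ z : Z, IsOfFinOrder z → z = 1)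
    (e : Red.bc g M ≅ TwC.const U Z) (hG : TwC.IsConstGrp Z (Red.bc g M) e) (u₀ : U) :
    ∃ σ : pullback P.hom (U.fromSpecResidueField u₀ ≫ g) ⟶ E.left,
      σ ≫ v.left = pullback.fst _ _ ∧
      (∀ (L : Type u) [Field L] (x : Spec (.of L) ⟶ E.left) (b : Spec (.of L) ⟶ pullback P.hom (U.fromSpecResidueField u₀ ≫ g)),
        b ≫ pullback.fst _ _ = x ≫ v.left →
        x (IsLocalRing.closedPoint L) ∈ connectedComponentIn (E.hom ⁻¹' {g u₀}) (η[E].left (g u₀)) → x = b ≫ σ) ∧
      Set.range σ ⊆ MoreMor.sectionComponents E.hom η[E].left := by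
  have := hex.1
  have := hex.2.1
  obtain ⟨_, _⟩ := etale_surjective hex
  let K := U.residueField u₀
  let j : Spec K ⟶ S := U.fromSpecResidueField u₀ ≫ g
  let s : S := g u₀
  have hj : ∀ t, j t = s := fun t => by
    show g (U.fromSpecResidueField u₀ t) = s
    rw [Scheme.fromSpecResidueField_apply]
  have : Smooth E.hom := by rw [← Over.w v]; infer_instance
  let Y := pullback P.hom j
  let X := pullback E.hom j
  let p : X ⟶ Y := pullback.lift (pullback.fst E.hom j ≫ v.left) (pullback.snd E.hom j)
    (by rw [Category.assoc, Over.w v, pullback.condition])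
  have hp : IsPullback (pullback.fst E.hom j) p v.left (pullback.fst P.hom j) := by
    refine IsPullback.of_bot ?_ (pullback.lift_fst _ _ _).symm (IsPullback.of_hasPullback P.hom j)
    rw [pullback.lift_snd, Over.w v]
    exact IsPullback.of_hasPullback E.hom j
  have : Etale p := MorphismProperty.of_isPullback (P := @Etale) hp inferInstance
  have : Surjective p := MorphismProperty.of_isPullback (P := @Surjective) hp inferInstance
  have : Smooth (pullback.snd P.hom j) := inferInstance
  have : ConnectedSpace Y := GeometricallyConnected.geometrically_connectedSpace _ _ _ (IsPullback.of_hasPullback P.hom j)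
  have : IrreducibleSpace Y := irreducibleSpace_of_smooth (k := K) (pullback.snd P.hom j)
  have hY : ∀ y : Y, CAlg2.IsGeomUnibranch (Y.presheaf.stalk y) :=
    fun y => isGeomUnibranch_stalk_of_smooth_field (k := K) (pullback.snd P.hom j) y
  -- the tautological points
  let T : Over S := Over.mk (pullback.fst E.hom j ≫ E.hom)
  let x₁ : T ⟶ E := Over.homMk (pullback.fst E.hom j) rfl
  let c : T ⟶ Over.mk g := Over.homMk (pullback.snd E.hom j ≫ U.fromSpecResidueField u₀)
    ((Category.assoc _ _ _).trans pullback.condition.symm)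
  have huv : u ≫ v = 1 := hex.2.2.1
  let τ : Z → (X ⟶ X) := fun z => pullback.lift ((c ≫ mPt g e z ≫ u) * x₁).left (pullback.snd E.hom j)
    ((Over.w ((c ≫ mPt g e z ≫ u) * x₁)).trans pullback.condition)
  let τ' : Z → (T ⟶ T) := fun z => Over.homMk (τ z) (by
    show τ z ≫ pullback.fst E.hom j ≫ E.hom = _
    rw [← Category.assoc, pullback.lift_fst]
    exact Over.w _)
  have hτ₁ : ∀ z, τ' z ≫ x₁ = (c ≫ mPt g e z ≫ u) * x₁ := fun z => Over.OverMorphism.ext (pullback.lift_fst _ _ _)
  have hτc : ∀ z, τ' z ≫ c = c := fun z => Over.OverMorphism.ext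
    ((Category.assoc _ _ _).symm.trans (congrArg (· ≫ U.fromSpecResidueField u₀) (pullback.lift_snd _ _ _)))
  have hpr : TorsorSplit.IsPrincipal p Z τ := by
    refine ⟨fun z => ?_, ?_, fun z w => ?_, fun L _ a b hab => ?_⟩
    · apply pullback.hom_ext
      · rw [Category.assoc, pullback.lift_fst, ← Category.assoc, pullback.lift_fst, ← Over.comp_left, MonObj.mul_comp,
          Category.assoc, Category.assoc, huv, comp_one, comp_one, _root_.one_mul]
        rfl
      · rw [Category.assoc, pullback.lift_snd, pullback.lift_snd]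
    · apply pullback.hom_ext
      · rw [pullback.lift_fst, Category.id_comp, mPt_one g e hG, MonObj.one_comp, comp_one, _root_.one_mul]
        rfl
      · rw [pullback.lift_snd, Category.id_comp]
    · have h : τ' (z * w) = τ' w ≫ τ' z := by
        apply Over.OverMorphism.ext
        apply pullback.hom_ext
        · show (τ' (z * w) ≫ x₁).left = ((τ' w ≫ τ' z) ≫ x₁).left
          rw [Category.assoc, hτ₁, hτ₁, comp_mul, hτ₁, ← Category.assoc (τ' w), hτc, mPt_mul g e hG, MonObj.mul_comp,
            comp_mul, _root_.mul_assoc]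
        · show τ _ ≫ _ = (τ w ≫ τ z) ≫ _
          rw [Category.assoc, pullback.lift_snd, pullback.lift_snd, pullback.lift_snd]
      exact congrArg CommaMorphism.left h
    · let TL : Over S := Over.mk (a ≫ T.hom)
      have hsnd : b ≫ pullback.snd E.hom j = a ≫ pullback.snd E.hom j := by
        have h1 := congrArg (· ≫ pullback.snd P.hom j) hab
        simp only [p, Category.assoc, pullback.lift_snd] at h1
        exact h1.symm
      let a' : TL ⟶ T := Over.homMk a rfl
      let b' : TL ⟶ T := Over.homMk b (by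
        show b ≫ pullback.fst E.hom j ≫ E.hom = a ≫ pullback.fst E.hom j ≫ E.hom
        rw [pullback.condition, reassoc_of% hsnd])
      have hc : b' ≫ c = a' ≫ c := Over.OverMorphism.ext
        ((Category.assoc _ _ _).symm.trans ((congrArg (· ≫ U.fromSpecResidueField u₀) hsnd).trans (Category.assoc _ _ _)))
      have hv : (a' ≫ x₁) ≫ v = (b' ≫ x₁) ≫ v := by
        apply Over.OverMorphism.ext
        have h1 := congrArg (· ≫ pullback.fst P.hom j) hab
        simp only [p, Category.assoc, pullback.lift_fst] at h1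
        exact (Category.assoc _ _ _).trans (h1.trans (Category.assoc _ _ _).symm)
      obtain ⟨m, hm⟩ := FppfExact.exists_mul_right hex hv
      have : Subsingleton TL.left := inferInstanceAs (Subsingleton (Spec (CommRingCat.of L)))
      let t₀ : TL.left := IsLocalRing.closedPoint L
      let z := ixM g e (a' ≫ c) m t₀
      have hz : m = (a' ≫ c) ≫ mPt g e z := eq_mPt g e _ m z fun t => by rw [Subsingleton.elim t t₀]
      have hone : ∀ z', (a' ≫ c ≫ mPt g e z' ≫ u) * (a' ≫ x₁) = a' ≫ τ' z' ≫ x₁ := fun z' => by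
        rw [hτ₁, comp_mul]
      refine ⟨z, ?_, fun z' hz' => ?_⟩
      · show a ≫ τ z = b
        apply pullback.hom_ext
        · show (a' ≫ τ' z ≫ x₁).left = (b' ≫ x₁).left
          rw [← hone, hm, hz, mul_comm]
          simp only [Category.assoc]
        · show (a ≫ τ z) ≫ _ = _
          rw [Category.assoc, pullback.lift_snd, hsnd]
      · have h1 : a' ≫ τ' z' ≫ x₁ = b' ≫ x₁ := by
          apply Over.OverMorphism.ext
          show a ≫ τ z' ≫ pullback.fst E.hom j = b ≫ pullback.fst E.hom j
          rw [← hz', Category.assoc]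
        rw [← hone, hm, mul_comm] at h1
        have h2 : (a' ≫ c ≫ mPt g e z') = m :=
          FppfExact.mono hex (by simpa only [Category.assoc] using mul_left_cancel h1)
        rw [← Category.assoc] at h2
        rw [← ixM_mPt g e (a' ≫ c) z' t₀, h2]
  -- the sheet through the unit
  let b₀ : Spec K ⟶ X := pullback.lift (j ≫ η[E].left) (𝟙 _) (by
    rw [Category.assoc, show η[E].left ≫ E.hom = 𝟙 S from Over.w η[E]]; simp)
  obtain ⟨t, htp, y₀, hy₀⟩ := hpr.exists_section hZ hY (b₀ (IsLocalRing.closedPoint K))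
  -- the difference to the sheet
  have htsnd : p ≫ t ≫ pullback.snd E.hom j = pullback.snd E.hom j := by
    conv_rhs => rw [← pullback.lift_snd (pullback.fst E.hom j ≫ v.left) (pullback.snd E.hom j)
      (by rw [Category.assoc, Over.w v, pullback.condition] : (pullback.fst E.hom j ≫ v.left) ≫ P.hom = pullback.snd E.hom j ≫ j)]
    show p ≫ t ≫ _ = p ≫ _
    have := congrArg (· ≫ pullback.snd P.hom j) htp
    simp only [p, Category.assoc, pullback.lift_snd, Category.id_comp] at this
    rw [this]
  let x₂ : T ⟶ E := Over.homMk (p ≫ t ≫ pullback.fst E.hom j) (by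
    show (p ≫ t ≫ pullback.fst E.hom j) ≫ E.hom = pullback.fst E.hom j ≫ E.hom
    rw [pullback.condition, Category.assoc, Category.assoc, pullback.condition, reassoc_of% htsnd])
  have hx₂ : x₂ ≫ v = x₁ ≫ v := by
    apply Over.OverMorphism.ext
    have := congrArg (p ≫ · ≫ pullback.fst P.hom j) htp
    simp only [p, Category.assoc, pullback.lift_fst, Category.id_comp] at this
    show (p ≫ t ≫ pullback.fst E.hom j) ≫ v.left = pullback.fst E.hom j ≫ v.left
    rw [Category.assoc, Category.assoc]
    exact this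
  obtain ⟨d, hd⟩ := FppfExact.exists_mul_right hex hx₂
  let σ : Y ⟶ E.left := t ≫ pullback.fst E.hom j
  have hσv : σ ≫ v.left = pullback.fst P.hom j := by
    have := congrArg (· ≫ pullback.fst P.hom j) htp
    simp only [p, Category.assoc, pullback.lift_fst, Category.id_comp] at this
    rw [Category.assoc]
    exact this
  have hη : η[E].left s ∈ E.hom ⁻¹' {s} := congrArg (fun m : S ⟶ S => m s) (show η[E].left ≫ E.hom = 𝟙 S from Over.w η[E])
  have hb₀ : pullback.fst E.hom j (b₀ (IsLocalRing.closedPoint K)) = η[E].left s := by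
    rw [← Scheme.Hom.comp_apply, pullback.lift_fst, Scheme.Hom.comp_apply, hj]
  have hσC : Set.range σ ⊆ MoreMor.sectionComponents E.hom η[E].left := by
    refine SectionOpen.subset_sectionComponents E.hom (isPreconnected_range σ.continuous) (s := s) ?_ ⟨y₀, ?_⟩
      (SectionOpen.connectedComponentIn_subset_sectionComponents _ _ _ (mem_connectedComponentIn hη))
    · rintro _ ⟨w, rfl⟩
      show E.hom (σ w) = s
      rw [← Over.w v, ← Scheme.Hom.comp_apply, reassoc_of% hσv, pullback.condition, Scheme.Hom.comp_apply, hj]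
    · rw [Scheme.Hom.comp_apply, hy₀, hb₀]
  refine ⟨σ, hσv, fun L _ x b hb hx => ?_, hσC⟩
  -- the component of the unit is geometrically connected
  have hef : η[E].left ≫ E.hom = 𝟙 S := Over.w η[E]
  let C : E.left.Opens := ⟨MoreMor.sectionComponents E.hom η[E].left, SectionOpen.isOpen_sectionComponents E.hom _ hef⟩
  let F := E.hom.fiber s
  let D : F.Opens := E.hom.fiberι s ⁻¹ᵁ C
  have hD : (D : Set F) = E.hom.fiberι s ⁻¹' connectedComponentIn (E.hom ⁻¹' {s}) (η[E].left s) := by
    ext w
    have hw : E.hom.fiberι s w ∈ E.hom ⁻¹' {s} := by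
      rw [← E.hom.range_fiberι]; exact ⟨w, rfl⟩
    exact ⟨fun h => SectionOpen.mem_component E.hom h hw,
      fun h => SectionOpen.connectedComponentIn_subset_sectionComponents _ _ _ h⟩
  let eF : Spec (S.residueField s) ⟶ F := pullback.lift (S.fromSpecResidueField s ≫ η[E].left) (𝟙 _)
    (by rw [Category.assoc, hef]; simp)
  have heF : Set.range eF ⊆ Set.range D.ι := by
    rw [Scheme.Opens.range_ι, hD]
    rintro _ ⟨w, rfl⟩
    refine Set.mem_preimage.2 ?_
    rw [← Scheme.Hom.comp_apply eF, show eF ≫ E.hom.fiberι s = S.fromSpecResidueField s ≫ η[E].left from pullback.lift_fst _ _ _,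
      Scheme.Hom.comp_apply, Scheme.fromSpecResidueField_apply]
    exact mem_connectedComponentIn hη
  have : ConnectedSpace (D : Scheme.{u}) := by
    refine Subtype.connectedSpace ⟨⟨eF (IsLocalRing.closedPoint _), ?_⟩, ?_⟩
    · have := heF ⟨IsLocalRing.closedPoint _, rfl⟩
      rwa [Scheme.Opens.range_ι] at this
    · show _root_.IsPreconnected (D : Set F)
      rw [hD]
      refine (E.hom.fiberι s).isEmbedding.isInducing.isPreconnected_image.1 ?_
      rw [Set.image_preimage_eq_of_subset (by rw [E.hom.range_fiberι]; exact connectedComponentIn_subset _ _)]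
      exact isPreconnected_connectedComponentIn
  have : GeometricallyConnected (D.ι ≫ E.hom.fiberToSpecResidueField s) :=
    geometricallyConnected_of_section (k := S.residueField s) _ (IsOpenImmersion.lift D.ι eF heF)
      (by rw [IsOpenImmersion.lift_fac_assoc]; exact pullback.lift_snd _ _ _)
  let r : Spec K ⟶ Spec (S.residueField s) := Spec.map (g.residueFieldMap u₀)
  have hr : r ≫ S.fromSpecResidueField s = j := g.SpecMap_residueFieldMap_fromSpecResidueField u₀
  let W := pullback (D.ι ≫ E.hom.fiberToSpecResidueField s) r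
  have : ConnectedSpace W := GeometricallyConnected.geometrically_connectedSpace _ _ _ (IsPullback.of_hasPullback _ r)
  let ψ : W ⟶ X := pullback.lift (pullback.fst _ r ≫ D.ι ≫ E.hom.fiberι s) (pullback.snd _ r) (by
    rw [Category.assoc, Category.assoc, E.hom.fiber_fac, ← hr, ← pullback.condition_assoc]; simp)
  let A : Set X := Set.range ψ
  have hA : _root_.IsPreconnected A := isPreconnected_range ψ.continuous
  have hmemA : ∀ (L : Type u) [Field L] (xX : Spec (.of L) ⟶ X),
      pullback.fst E.hom j (xX (IsLocalRing.closedPoint L)) ∈ connectedComponentIn (E.hom ⁻¹' {s}) (η[E].left s) →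
      xX (IsLocalRing.closedPoint L) ∈ A := by
    intro L _ xX hxX
    let xF : Spec (.of L) ⟶ F := pullback.lift (xX ≫ pullback.fst E.hom j) (xX ≫ pullback.snd E.hom j ≫ r)
      (by rw [Category.assoc, pullback.condition, Category.assoc, Category.assoc, hr])
    have hxF : Set.range xF ⊆ Set.range D.ι := by
      rw [Scheme.Opens.range_ι, hD]
      rintro _ ⟨w, rfl⟩
      refine Set.mem_preimage.2 ?_
      rw [← Scheme.Hom.comp_apply xF, show xF ≫ E.hom.fiberι s = xX ≫ pullback.fst E.hom j from pullback.lift_fst _ _ _,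
        Scheme.Hom.comp_apply,
        Subsingleton.elim w (IsLocalRing.closedPoint L)]
      exact hxX
    let xW : Spec (.of L) ⟶ W := pullback.lift (IsOpenImmersion.lift D.ι xF hxF) (xX ≫ pullback.snd E.hom j)
      (by rw [IsOpenImmersion.lift_fac_assoc, Category.assoc]; exact pullback.lift_snd _ _ _)
    refine ⟨xW (IsLocalRing.closedPoint L), ?_⟩
    have : xW ≫ ψ = xX := by
      apply pullback.hom_ext
      · rw [Category.assoc, pullback.lift_fst, pullback.lift_fst_assoc, IsOpenImmersion.lift_fac_assoc]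
        exact pullback.lift_fst _ _ _
      · rw [Category.assoc, pullback.lift_snd, pullback.lift_snd]
    rw [← Scheme.Hom.comp_apply, this]
  let xX : Spec (.of L) ⟶ X := pullback.lift x (b ≫ pullback.snd P.hom j) (by
    rw [← Over.w v, ← Category.assoc, ← hb, Category.assoc, pullback.condition, Category.assoc])
  have hxX : pullback.fst E.hom j (xX (IsLocalRing.closedPoint L)) = x (IsLocalRing.closedPoint L) := by
    rw [← Scheme.Hom.comp_apply, pullback.lift_fst]
  have hbA : b₀ (IsLocalRing.closedPoint K) ∈ A :=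
    hmemA K b₀ (by rw [hb₀]; exact mem_connectedComponentIn hη)
  have hxA : xX (IsLocalRing.closedPoint L) ∈ A := hmemA L xX (by rw [hxX]; exact hx)
  -- the difference is constant on the component and trivial at the unit
  have hconst := (isLocallyConstant_ixM g e c d).apply_eq_of_isPreconnected hA hxA hbA
  have key : ∀ (L : Type u) [Field L] (xX : Spec (.of L) ⟶ X) (z : Z),
      ixM g e c d (xX (IsLocalRing.closedPoint L)) = z →
      (Over.homMk xX rfl : Over.mk (xX ≫ T.hom) ⟶ T) ≫ d = (Over.homMk xX rfl ≫ c) ≫ mPt g e z := by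
    intro L _ xX z hz
    refine eq_mPt g e _ _ z fun t => ?_
    have : Subsingleton (Over.mk (xX ≫ T.hom)).left := inferInstanceAs (Subsingleton (Spec (CommRingCat.of L)))
    rw [ixM_comp, Subsingleton.elim t (IsLocalRing.closedPoint L : Spec (CommRingCat.of L))]
    exact hz
  have hb₀t : b₀ = (b₀ ≫ p) ≫ t := by
    obtain ⟨z, hz, huniq⟩ := hpr.existsUnique K b₀ ((b₀ ≫ p) ≫ t) (by rw [Category.assoc, htp, Category.comp_id])
    have hfix : τ z (b₀ (IsLocalRing.closedPoint K)) = b₀ (IsLocalRing.closedPoint K) := by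
      refine (congrArg (fun m : Spec K ⟶ X => m (IsLocalRing.closedPoint K)) hz).trans ?_
      show t (p (b₀ (IsLocalRing.closedPoint K))) = _
      rw [← hy₀, ← Scheme.Hom.comp_apply t p, htp]
      rfl
    have := UnibEtale.locallyQuasiFinite_of_formallyUnramified p
    rw [hpr.eq_one_of_fixed hZ hfix, hpr.one, Category.comp_id] at hz
    exact hz
  have hz₁ : ixM g e c d (b₀ (IsLocalRing.closedPoint K)) = 1 := by
    let TK : Over S := Over.mk (b₀ ≫ T.hom)
    let a : TK ⟶ T := Over.homMk b₀ rfl
    have h1 : a ≫ x₂ = a ≫ x₁ := by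
      apply Over.OverMorphism.ext
      show b₀ ≫ p ≫ t ≫ pullback.fst E.hom j = b₀ ≫ pullback.fst E.hom j
      conv_rhs => rw [hb₀t]
      simp only [Category.assoc]
    have h2 := congrArg (a ≫ ·) hd
    simp only [comp_mul] at h2
    rw [← h1] at h2
    have h3 : (a ≫ d) ≫ u = 1 := by
      rw [Category.assoc]
      exact left_eq_mul.1 h2
    have h4 : a ≫ d = (a ≫ c) ≫ mPt g e 1 := by
      rw [mPt_one g e hG, comp_one]
      exact FppfExact.mono hex (h3.trans (MonObj.one_comp u).symm)
    show ixM g e c d (a.left (IsLocalRing.closedPoint K)) = 1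
    rw [← ixM_comp, h4, ixM_mPt]
  let a : Over.mk (xX ≫ T.hom) ⟶ T := Over.homMk xX rfl
  have h5 : a ≫ d = 1 := by
    rw [key L xX 1 (hconst.trans hz₁), mPt_one g e hG, comp_one]
  have h6 : a ≫ x₁ = a ≫ x₂ := by
    have := congrArg (a ≫ ·) hd
    simp only [comp_mul, ← Category.assoc a d u, h5, MonObj.one_comp, _root_.mul_one] at this
    exact this
  have h7 : xX ≫ pullback.fst E.hom j = xX ≫ p ≫ t ≫ pullback.fst E.hom j := congrArg CommaMorphism.left h6
  have h8 : xX ≫ p = b := by
    apply pullback.hom_ext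
    · rw [Category.assoc, pullback.lift_fst, pullback.lift_fst_assoc, hb]
    · rw [Category.assoc, pullback.lift_snd, pullback.lift_snd]
  rw [reassoc_of% h8, pullback.lift_fst] at h7
  exact h7

/-- Vanishing of homomorphisms and splitting of extensions by twisted lattices. -/
theorem hom_eq_one [Etale M.hom] [GeometricallyConnected P.hom] (φ : P ⟶ M) [IsMonHom φ] : φ = 1 :=
  eq_one_of_connected_fibres (fun s => (P.hom.isConnected_preimage_singleton s).isPreconnected) φ η[P]
    ((IsMonHom.one_hom φ).trans ExtConst.one_eq_eta.symm)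

theorem exists_splitting [Smooth P.hom] [GeometricallyConnected P.hom] [Etale M.hom]
    (hex : NonAbH1.IsExactSeq Scheme.fppfPrecoverage u v)
    (hloc : ∀ s : S, ∃ (U : Scheme.{u}) (g : U ⟶ S) (Z : Type u) (_ : Group Z) (e : Red.bc g M ≅ TwC.const U Z),
      (∀ z : Z, IsOfFinOrder z → z = 1) ∧ TwC.IsConstGrp Z (Red.bc g M) e ∧ s ∈ Set.range g) :
    ∃ s : P ⟶ E, IsMonHom s ∧ s ≫ v = 𝟙 P := by
  have := hex.1
  have := hex.2.1
  obtain ⟨_, _⟩ := etale_surjective hex
  have : Smooth E.hom := by rw [← Over.w v]; infer_instance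
  have hef : η[E].left ≫ E.hom = 𝟙 S := Over.w η[E]
  let C : E.left.Opens := ⟨MoreMor.sectionComponents E.hom η[E].left, SectionOpen.isOpen_sectionComponents E.hom _ hef⟩
  have : UniversallyInjective (C.ι ≫ v.left) := by
    refine ((tfae_universallyInjective (C.ι ≫ v.left)).out 0 1).mpr ?_
    intro L _ x y hxy
    simp only at hxy
    rw [← cancel_mono C.ι]
    let d : Spec (.of L) ⟶ S := (x ≫ C.ι) ≫ E.hom
    obtain ⟨U, g, Z, _, e, hZ, hG, u₀, hu₀⟩ := hloc (d (IsLocalRing.closedPoint L))
    obtain ⟨σ, -, hσ, -⟩ := exists_sheet hex g hZ e hG u₀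
    obtain ⟨w, -, hw⟩ := Scheme.Pullback.exists_preimage_pullback (f := d) (g := U.fromSpecResidueField u₀ ≫ g)
      (IsLocalRing.closedPoint L) (IsLocalRing.closedPoint (U.residueField u₀))
      (by rw [Scheme.Hom.comp_apply _ g, Scheme.fromSpecResidueField_apply, hu₀])
    let W := pullback d (U.fromSpecResidueField u₀ ≫ g)
    let r : Spec (W.residueField w) ⟶ Spec (.of L) := W.fromSpecResidueField w ≫ pullback.fst _ _
    have : Flat r := inferInstance
    have : Surjective r := ⟨fun a => ⟨IsLocalRing.closedPoint _, Subsingleton.elim _ _⟩⟩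
    have : Epi r := inferInstance
    rw [← cancel_epi r]
    have hy : (y ≫ C.ι) ≫ v.left = (x ≫ C.ι) ≫ v.left := by simpa [Category.assoc] using hxy.symm
    have hxd : d = ((x ≫ C.ι) ≫ v.left) ≫ P.hom := by rw [Category.assoc, Over.w v]
    let b : Spec (W.residueField w) ⟶ pullback P.hom (U.fromSpecResidueField u₀ ≫ g) :=
      pullback.lift (r ≫ (x ≫ C.ι) ≫ v.left) (W.fromSpecResidueField w ≫ pullback.snd _ _) (by
        rw [Category.assoc, ← hxd, Category.assoc, Category.assoc, pullback.condition])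
    have hb : b ≫ pullback.fst _ _ = (r ≫ x ≫ C.ι) ≫ v.left := by
      rw [pullback.lift_fst]; simp only [Category.assoc]
    have hb' : b ≫ pullback.fst _ _ = (r ≫ y ≫ C.ι) ≫ v.left := by
      rw [hb]; simp only [Category.assoc] at hy ⊢; rw [hy]
    refine (hσ _ _ b hb ?_).trans (hσ _ _ b hb' ?_).symm
    · show (x ≫ C.ι) (r (IsLocalRing.closedPoint (W.residueField w))) ∈ _
      rw [Subsingleton.elim (r _) (IsLocalRing.closedPoint L)]
      exact SectionOpen.mem_component _ (x (IsLocalRing.closedPoint L)).2 hu₀.symm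
    · show (y ≫ C.ι) (r (IsLocalRing.closedPoint (W.residueField w))) ∈ _
      rw [Subsingleton.elim (r _) (IsLocalRing.closedPoint L)]
      refine SectionOpen.mem_component _ (y (IsLocalRing.closedPoint L)).2 ?_
      refine Eq.trans ?_ hu₀.symm
      show E.hom ((y ≫ C.ι) (IsLocalRing.closedPoint L)) = _
      rw [hxd, ← Over.w v]
      exact congrArg (fun m : Spec (.of L) ⟶ P.left => P.hom (m (IsLocalRing.closedPoint L))) hy
  have : IsOpenImmersion (C.ι ≫ v.left) := EtFound.isOpenImmersion_of_etale_univInj _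
  have : IsIso (C.ι ≫ v.left) := by
    refine (isIso_iff_isOpenImmersion_and_surjective _).2 ⟨this, ⟨fun t => ?_⟩⟩
    obtain ⟨U, g, Z, _, e, hZ, hG, u₀, hu₀⟩ := hloc (P.hom t)
    obtain ⟨σ, hσ, -, hσC⟩ := exists_sheet hex g hZ e hG u₀
    obtain ⟨w, hw, -⟩ := Scheme.Pullback.exists_preimage_pullback (f := P.hom) (g := U.fromSpecResidueField u₀ ≫ g)
      t (IsLocalRing.closedPoint (U.residueField u₀))
      (by rw [Scheme.Hom.comp_apply _ g, Scheme.fromSpecResidueField_apply, hu₀])
    refine ⟨⟨σ w, hσC ⟨w, rfl⟩⟩, ?_⟩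
    show v.left (σ w) = t
    rw [← Scheme.Hom.comp_apply, hσ, hw]
  let sg : P ⟶ E := Over.homMk (inv (C.ι ≫ v.left) ≫ C.ι) (by
    rw [Category.assoc, IsIso.inv_comp_eq, ← Over.w v, Category.assoc])
  have hsg : sg ≫ v = 𝟙 P := Over.OverMorphism.ext (by
    show (inv (C.ι ≫ v.left) ≫ C.ι) ≫ v.left = _
    rw [Category.assoc, IsIso.inv_hom_id]
    rfl)
  have hone : η[P] ≫ sg = η[E] := by
    apply Over.OverMorphism.ext
    have hr : Set.range η[E].left ⊆ Set.range C.ι := by
      rw [Scheme.Opens.range_ι]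
      rintro _ ⟨a, rfl⟩
      exact SectionOpen.connectedComponentIn_subset_sectionComponents _ _ a
        (mem_connectedComponentIn (congrArg (fun m : S ⟶ S => m a) hef))
    have h := IsOpenImmersion.lift_fac C.ι η[E].left hr
    have h1 : IsOpenImmersion.lift C.ι η[E].left hr ≫ C.ι ≫ v.left = η[P].left := by
      rw [reassoc_of% h, ← Over.comp_left, IsMonHom.one_hom v]
    show η[P].left ≫ inv (C.ι ≫ v.left) ≫ C.ι = _
    rw [← h1, Category.assoc, IsIso.hom_inv_id_assoc, h]
  refine ⟨sg, ⟨hone, ?_⟩, hsg⟩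
  have hμ : ∀ (N : Over S) [GrpObj N], (μ[N] : N ⊗ N ⟶ N) = fst N N * snd N N :=
    fun N _ => by rw [Hom.mul_def, lift_fst_snd, Category.id_comp]
  have hb : (sg ⊗ₘ sg) ≫ μ[E] = (fst P P ≫ sg) * (snd P P ≫ sg) := by
    rw [hμ E, comp_mul, tensorHom_fst, tensorHom_snd]
  rw [hb]
  obtain ⟨d, hd⟩ := FppfExact.exists_mul_right hex (x := μ[P] ≫ sg) (y := (fst P P ≫ sg) * (snd P P ≫ sg)) (by
    rw [MonObj.mul_comp, Category.assoc, Category.assoc, Category.assoc, hsg, Category.comp_id, Category.comp_id,
      Category.comp_id, hμ P])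
  have hd1 : d = 1 := by
    have hconn : ∀ a : S, _root_.IsPreconnected ((P ⊗ P).hom ⁻¹' {a}) := fun a => by
      have : GeometricallyConnected (P ⊗ P).hom :=
        GeometricallyConnected.comp (pullback.fst P.hom P.hom) P.hom
      exact ((P ⊗ P).hom.isConnected_preimage_singleton a).isPreconnected
    refine eq_one_of_connected_fibres hconn d (lift η[P] η[P]) (FppfExact.mono hex ?_)
    have h1 : lift η[P] η[P] ≫ μ[P] ≫ sg = 1 := by
      rw [← Category.assoc, hμ P, comp_mul, lift_fst, lift_snd, ← ExtConst.one_eq_eta, _root_.mul_one,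
        ExtConst.one_eq_eta, hone, ← ExtConst.one_eq_eta]
    have h2 : lift η[P] η[P] ≫ ((fst P P ≫ sg) * (snd P P ≫ sg)) = 1 := by
      rw [comp_mul, ← Category.assoc, ← Category.assoc, lift_fst, lift_snd, hone, ← ExtConst.one_eq_eta, _root_.mul_one]
    rw [hd, comp_mul, h1, _root_.one_mul] at h2
    rw [Category.assoc, h2, MonObj.one_comp]
  rw [hd, hd1, MonObj.one_comp, _root_.mul_one]

end Main

end Groth.Agent.SGA7X.TwistedExt
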