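import Groth.Agent.SGA7X.ExtConst
import Groth.Agent.SGA7X.GroupUnibranch
import Groth.Agent.TwLocLib.ConstBC
import Groth.Prelude.Def_Red

/-!
An extension of the generic fibre by a constant group extends over a geometrically unibranch irreducible base.
-/

set_option autoImplicit false
set_option backward.isDefEq.respectTransparency.types false

universe u

open CategoryTheory Limits MonoidalCategory CartesianMonoidalCategory MonObj GrpObj AlgebraicGeometry

namespace Groth.Agent.SGA7X.GenericExt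

open TorsorConst

variable {S : Scheme.{u}} {Z : Type u} [Group Z]

/-- Points of a constant scheme with the same index are equal. -/
theorem hom_ext_ix {G T : Over S} [GrpObj G] (eG : G ≅ TwC.const S Z) (x y : T ⟶ G) (h : ∀ t, ix eG x t = ix eG y t) :
    x = y := by
  let U : Z → T.left.Opens := fun z => ⟨ix eG x ⁻¹' {z}, (isLocallyConstant_ix eG x).isOpen_fiber z⟩
  have hU : TopologicalSpace.IsOpenCover U :=
    TopologicalSpace.IsOpenCover.mk (top_unique fun t _ => TopologicalSpace.Opens.mem_iSup.2 ⟨ix eG x t, rfl⟩)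
  apply Over.OverMorphism.ext
  refine (T.left.openCoverOfIsOpenCover U hU).hom_ext _ _ fun z => ?_
  let T' : Over S := Over.mk ((U z).ι ≫ T.hom)
  let i : T' ⟶ T := Over.homMk (U z).ι rfl
  have h1 : i ≫ x = i ≫ y := by
    rw [eq_ptG_of_ix eG (i ≫ x) z fun t => by rw [ix_comp]; exact t.2,
      eq_ptG_of_ix eG (i ≫ y) z fun t => by rw [ix_comp, ← h]; exact t.2]
  exact congrArg CommaMorphism.left h1

/-- A locally constant function is the index of a point. -/
theorem exists_ix_eq {G T : Over S} [GrpObj G] (eG : G ≅ TwC.const S Z) (h : T.left → Z) (hh : IsLocallyConstant h) :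
    ∃ x : T ⟶ G, ∀ t, ix eG x t = h t := by
  let U : Z → T.left.Opens := fun z => ⟨h ⁻¹' {z}, hh.isOpen_fiber z⟩
  have hU : TopologicalSpace.IsOpenCover U :=
    TopologicalSpace.IsOpenCover.mk (top_unique fun t _ => TopologicalSpace.Opens.mem_iSup.2 ⟨h t, rfl⟩)
  let i : ∀ z, Over.mk ((U z).ι ≫ T.hom) ⟶ T := fun z => Over.homMk (U z).ι rfl
  obtain ⟨a, ha, hai⟩ := exists_section_of_disjoint (P := T.left) (fst T G).left U hU
    (fun z w hzw => Set.disjoint_left.2 fun t (hz : h t = z) (hw : h t = w) => hzw (hz.symm.trans hw))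
    (fun z => (lift (i z) (toUnit _ ≫ ptG eG z)).left)
    (fun z => congrArg CommaMorphism.left (lift_fst (i z) (toUnit _ ≫ ptG eG z)))
  let a' : T ⟶ T ⊗ G := Over.homMk a (by rw [← Over.w (fst T G), reassoc_of% ha])
  refine ⟨a' ≫ snd T G, fun t => ?_⟩
  have h1 : i (h t) ≫ a' = lift (i (h t)) (toUnit _ ≫ ptG eG (h t)) := Over.OverMorphism.ext (hai (h t))
  have h2 : ix eG (a' ≫ snd T G) ((i (h t)).left ⟨t, rfl⟩) = h t := by
    rw [← ix_comp, reassoc_of% h1, lift_snd, ix_ptG]
  exact h2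

section Restrict

variable [IrreducibleSpace S] (ξ : S)

/-- Restriction to the generic fibre. -/
noncomputable abbrev F : Over S ⥤ Over (Spec (S.residueField ξ)) := Over.pullback (S.fromSpecResidueField ξ)

/-- The constant group over the generic point. -/
noncomputable def isoξ {G : Over S} (eG : G ≅ TwC.const S Z) :
    Red.bc (S.fromSpecResidueField ξ) G ≅ TwC.const (Spec (S.residueField ξ)) Z :=
  (F ξ).mapIso eG ≪≫ Over.isoMk (TwLocLib.isPullback_cst (S.fromSpecResidueField ξ) Z).isoPullback.symm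
    (TwLocLib.isPullback_cst (S.fromSpecResidueField ξ) Z).isoPullback_inv_snd

theorem map_left_fst {A B : Over S} (x : A ⟶ B) :
    ((F ξ).map x).left ≫ pullback.fst B.hom (S.fromSpecResidueField ξ) = pullback.fst A.hom (S.fromSpecResidueField ξ) ≫ x.left :=
  pullback.lift_fst _ _ _

theorem ix_map {G T : Over S} [GrpObj G] (eG : G ≅ TwC.const S Z) (x : T ⟶ G) (w : ((F ξ).obj T).left) :
    ix (isoξ ξ eG) ((F ξ).map x) w = ix eG x (pullback.fst T.hom (S.fromSpecResidueField ξ) w) := by
  let j := S.fromSpecResidueField ξ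
  let q : GalTw.cst (Spec (S.residueField ξ)) Z ⟶ GalTw.cst S Z :=
    Sigma.desc fun z : Z => j ≫ Sigma.ι (fun _ : Z => S) z
  have h1 : ((F ξ).map x ≫ (isoξ ξ eG).hom).left ≫ q = pullback.fst T.hom j ≫ (x ≫ eG.hom).left := by
    have h2 : (isoξ ξ eG).hom.left ≫ q = ((F ξ).map eG.hom).left ≫ pullback.fst _ j := by
      show (((F ξ).map eG.hom).left ≫ (TwLocLib.isPullback_cst j Z).isoPullback.inv) ≫ q = _
      rw [Category.assoc]
      exact congrArg _ (TwLocLib.isPullback_cst j Z).isoPullback_inv_fst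
    rw [Over.comp_left, Category.assoc, h2, map_left_fst, ← Category.assoc, map_left_fst, Category.assoc]
    rfl
  symm
  rw [ix_eq_iff]
  obtain ⟨y, hy⟩ := (ix_eq_iff (isoξ ξ eG) ((F ξ).map x) w _).1 rfl
  refine ⟨j y, ?_⟩
  have h3 := congrArg (fun m : ((F ξ).obj T).left ⟶ GalTw.cst S Z => m w) h1
  simp only [Scheme.Hom.comp_apply] at h3
  refine Eq.trans ?_ h3
  rw [← hy]
  exact congrArg (fun m : Spec (S.residueField ξ) ⟶ GalTw.cst S Z => m y)
    (Sigma.ι_desc (f := fun _ : Z => Spec (S.residueField ξ))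
      (fun z : Z => j ≫ Sigma.ι (fun _ : Z => S) z) _).symm

variable {ξ} (hξ : IsGenericPoint ξ (Set.univ : Set S))

theorem range_fst (T : Over S) :
    Set.range (pullback.fst T.hom (S.fromSpecResidueField ξ)) = T.hom ⁻¹' {ξ} := by
  rw [Scheme.Pullback.range_fst, Scheme.range_fromSpecResidueField]

include hξ in
theorem genericPoint_mem {T : Over S} [Smooth T.hom] (t : T.left) :
    (irreducibleComponent_mem_irreducibleComponents t).1.genericPoint ∈
      Set.range (pullback.fst T.hom (S.fromSpecResidueField ξ)) := by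
  rw [range_fst]
  have hC := irreducibleComponent_mem_irreducibleComponents t
  have hgen := hC.1.isGenericPoint_genericPoint isClosed_irreducibleComponent
  obtain ⟨a, ha, haξ⟩ := Flat.generalizingMap T.hom (hξ.specializes (y := T.hom hC.1.genericPoint) trivial)
  have hle : irreducibleComponent t ⊆ closure {a} := fun c hc =>
    specializes_iff_mem_closure.1 (ha.trans (hgen.specializes hc))
  have heq : closure {a} = irreducibleComponent t :=
    le_antisymm (hC.2 isIrreducible_singleton.closure hle) hle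
  have : a = hC.1.genericPoint := IsGenericPoint.eq (S := irreducibleComponent t) heq hgen
  rw [← this]
  exact haξ

include hξ in
/-- Restriction of points of a constant group to the generic fibre is injective. -/
theorem map_injective {G T : Over S} [GrpObj G] [Smooth T.hom] (eG : G ≅ TwC.const S Z) {x y : T ⟶ G}
    (h : (F ξ).map x = (F ξ).map y) : x = y := by
  refine hom_ext_ix eG x y fun t => ?_
  obtain ⟨w, hw⟩ := genericPoint_mem hξ (T := T) t
  have key : ∀ z : T ⟶ G, ix eG z t = ix (isoξ ξ eG) ((F ξ).map z) w := fun z => by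
    rw [ix_map, hw]
    have hgen := (irreducibleComponent_mem_irreducibleComponents t).1.isGenericPoint_genericPoint
      isClosed_irreducibleComponent
    have := (hgen.specializes mem_irreducibleComponent).mem_open
      ((isLocallyConstant_ix eG z).isOpen_fiber (ix eG z t)) rfl
    exact this.symm
  rw [key, key, h]

include hξ in
/-- Points of a constant group over the generic fibre extend. -/
theorem map_surjective {G T : Over S} [GrpObj G] [Smooth T.hom] (hS : ∀ s : S, CAlg2.IsGeomUnibranch (S.presheaf.stalk s))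
    (eG : G ≅ TwC.const S Z) (g : (F ξ).obj T ⟶ (F ξ).obj G) : ∃ x : T ⟶ G, (F ξ).map x = g := by
  choose gp hgp using fun t : T.left => genericPoint_mem hξ (T := T) t
  let h : T.left → Z := fun t => ix (isoξ ξ eG) g (gp t)
  have hu : ∀ t : T.left, CAlg2.IsGeomUnibranch (T.left.presheaf.stalk t) := fun t =>
    isGeomUnibranch_stalk_of_smooth T.hom t (hS _)
  have hirr := fun t => exists_irreducible_nhd T.hom hS t
  have hh : IsLocallyConstant h := by
    refine (IsLocallyConstant.iff_exists_open _).2 fun t => ?_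
    obtain ⟨W, htW, hW⟩ := hirr t
    obtain ⟨C, hC, hWC⟩ := exists_mem_irreducibleComponents_subset_of_isIrreducible _ hW
    have hcomp : ∀ t' ∈ W, irreducibleComponent t' = C := fun t' ht' =>
      H23.FinCondSch.unique_component (nilradical_isPrime_of_isGeomUnibranch (hu t'))
        (irreducibleComponent_mem_irreducibleComponents t') hC mem_irreducibleComponent (hWC ht')
    refine ⟨W, W.2, htW, fun t' ht' => congrArg (ix (isoξ ξ eG) g) ((pullback.fst T.hom (S.fromSpecResidueField ξ)).isEmbedding.injective ?_)⟩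
    rw [hgp, hgp]
    congr 1
    rw [hcomp t' ht', hcomp t htW]
  obtain ⟨x, hx⟩ := exists_ix_eq eG h hh
  refine ⟨x, hom_ext_ix (isoξ ξ eG) _ _ fun w => ?_⟩
  rw [ix_map, hx]
  let t := pullback.fst T.hom (S.fromSpecResidueField ξ) w
  have hgen := (irreducibleComponent_mem_irreducibleComponents t).1.isGenericPoint_genericPoint
    isClosed_irreducibleComponent
  have hsp : gp t ⤳ w := by
    rw [← (pullback.fst T.hom (S.fromSpecResidueField ξ)).isEmbedding.isInducing.specializes_iff, hgp]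
    exact hgen.specializes mem_irreducibleComponent
  exact hsp.mem_open ((isLocallyConstant_ix (isoξ ξ eG) g).isOpen_fiber (ix (isoξ ξ eG) g w)) rfl

theorem isConstGrp_isoξ {G : Over S} [GrpObj G] (eG : G ≅ TwC.const S Z) (hG : TwC.IsConstGrp Z G eG) :
    TwC.IsConstGrp Z (Red.bc (S.fromSpecResidueField ξ) G) (isoξ ξ eG) := by
  let j := S.fromSpecResidueField ξ
  have key : ∀ z : Z, ptG (isoξ ξ eG) z = Functor.LaxMonoidal.ε (F ξ) ≫ (F ξ).map (ptG eG z) := fun z => by
    rw [ptG, Iso.comp_inv_eq]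
    apply Over.OverMorphism.ext
    have h0 : ((F ξ).map (ptG eG z) ≫ (F ξ).map eG.hom) = (F ξ).map (TwC.pt S Z z) := by
      rw [← Functor.map_comp, ptG, Category.assoc, Iso.inv_hom_id, Category.comp_id]
    have hε : (Functor.LaxMonoidal.ε (F ξ)).left ≫ pullback.snd (𝟙 S) j = 𝟙 _ := Over.w (Functor.LaxMonoidal.ε (F ξ))
    have hε1 : (Functor.LaxMonoidal.ε (F ξ)).left ≫ pullback.fst (𝟙 S) j = j := by
      have h1 := congrArg (fun m => (Functor.LaxMonoidal.ε (F ξ)).left ≫ m) (pullback.condition (f := 𝟙 S) (g := j))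
      simp only [Category.comp_id] at h1
      rw [h1, reassoc_of% hε]
    show Sigma.ι (fun _ : Z => Spec (S.residueField ξ)) z = ((Functor.LaxMonoidal.ε (F ξ) ≫ (F ξ).map (ptG eG z)) ≫ (F ξ).map eG.hom).left ≫
      (TwLocLib.isPullback_cst j Z).isoPullback.inv
    rw [Category.assoc, h0, Iso.eq_comp_inv]
    apply pullback.hom_ext
    · rw [Category.assoc]
      erw [(TwLocLib.isPullback_cst j Z).isoPullback_hom_fst]
      rw [Over.comp_left, Category.assoc, map_left_fst]
      simp only [Sigma.ι_desc]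
      show j ≫ Sigma.ι (fun _ : Z => S) z = (Functor.LaxMonoidal.ε (F ξ)).left ≫ pullback.fst (𝟙 S) j ≫ Sigma.ι (fun _ : Z => S) z
      rw [reassoc_of% hε1]
    · rw [Category.assoc]
      erw [(TwLocLib.isPullback_cst j Z).isoPullback_hom_snd, GalTw.ι_cstHom]
      exact (Over.w (Functor.LaxMonoidal.ε (F ξ) ≫ (F ξ).map (TwC.pt S Z z))).symm
  intro m n
  show ptG (isoξ ξ eG) m * ptG (isoξ ξ eG) n = ptG (isoξ ξ eG) (m * n)
  rw [key, key, key, ← ptG_mul eG hG, Functor.map_mul, comp_mul]

end Restrict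

section Build

variable [IrreducibleSpace S] (ξ : S) {G P : Over S} [GrpObj G] [GrpObj P]
  {E' : Over (Spec (S.residueField ξ))} [GrpObj E'] (s' : (F ξ).obj P ⟶ E') (u' : (F ξ).obj G ⟶ E')

omit [IrreducibleSpace S] [GrpObj G] [GrpObj P] in
/-- The underlying scheme of the extension; a definition, so that it does not inherit the product group law. -/
noncomputable def extObj (P G : Over S) : Over S := P ⊗ G

/-- The projection to the quotient. -/
noncomputable def pf (P G : Over S) : extObj P G ⟶ P := fst P G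

/-- The projection to the constant factor. -/
noncomputable def pg (P G : Over S) : extObj P G ⟶ G := snd P G

/-- A point of the extension from its two components. -/
noncomputable def liftE {T P G : Over S} (p : T ⟶ P) (g : T ⟶ G) : T ⟶ extObj P G := lift p g

omit [IrreducibleSpace S] in
@[reassoc (attr := simp)]
theorem liftE_pf {T P G : Over S} (p : T ⟶ P) (g : T ⟶ G) : liftE p g ≫ pf P G = p := lift_fst p g

omit [IrreducibleSpace S] in
@[reassoc (attr := simp)]
theorem liftE_pg {T P G : Over S} (p : T ⟶ P) (g : T ⟶ G) : liftE p g ≫ pg P G = g := lift_snd p g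

omit [IrreducibleSpace S] in
theorem extObj_hom_ext {T P G : Over S} {x y : T ⟶ extObj P G} (h1 : x ≫ pf P G = y ≫ pf P G)
    (h2 : x ≫ pg P G = y ≫ pg P G) : x = y := CartesianMonoidalCategory.hom_ext _ _ h1 h2

/-- The comparison with the given extension. -/
noncomputable def psi : (F ξ).obj (extObj P G) ⟶ E' :=
  ((F ξ).map (pf P G) ≫ s') * ((F ξ).map (pg P G) ≫ u')

theorem map_psi {T : Over S} (x : T ⟶ extObj P G) :
    (F ξ).map x ≫ psi ξ s' u' = ((F ξ).map (x ≫ pf P G) ≫ s') * ((F ξ).map (x ≫ pg P G) ≫ u') := by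
  rw [psi, comp_mul, Functor.map_comp_assoc, Functor.map_comp_assoc]

theorem exists_groupExtension (hξ : IsGenericPoint ξ (Set.univ : Set S))
    (hS : ∀ s : S, CAlg2.IsGeomUnibranch (S.presheaf.stalk s))
    (eG : G ≅ TwC.const S Z) [Smooth P.hom]
    (v' : E' ⟶ (F ξ).obj P) (hex : NonAbH1.IsExactSeq Scheme.fppfPrecoverage u' v') (hs : s' ≫ v' = 𝟙 _) :
    ∃ (E : Over S) (_ : GrpObj E) (u : G ⟶ E) (v : E ⟶ P)
      (φ : Red.bc (S.fromSpecResidueField ξ) E ≅ E'),
      NonAbH1.IsExactSeq Scheme.fppfPrecoverage u v ∧ IsMonHom φ.hom ∧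
        (Over.pullback (S.fromSpecResidueField ξ)).map u ≫ φ.hom = u' ∧
        φ.hom ≫ v' = (Over.pullback (S.fromSpecResidueField ξ)).map v := by
  have := hex.1
  have := hex.2.1
  have huv : u' ≫ v' = 1 := hex.2.2.1
  have : Etale G.hom := etale_hom eG
  have hsm : ∀ A B : Over S, Smooth A.hom → Smooth B.hom → Smooth (A ⊗ B).hom := fun A B _ _ =>
    inferInstanceAs (Smooth (pullback.fst A.hom B.hom ≫ A.hom))
  have hG0 : Smooth G.hom := inferInstance
  have hE : Smooth (extObj P G).hom := (hsm P G inferInstance hG0 : Smooth (P ⊗ G).hom)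
  have h1 : Smooth (𝟙_ (Over S)).hom := inferInstanceAs (Smooth (𝟙 S))
  let ψ := psi ξ s' u'
  have hψv : ψ ≫ v' = (F ξ).map (pf P G) := by
    show psi ξ s' u' ≫ v' = _
    rw [psi, MonObj.mul_comp, Category.assoc, Category.assoc, hs, huv, Category.comp_id, comp_one, _root_.mul_one]
  have inj : ∀ {T : Over S}, Smooth T.hom → ∀ {x y : T ⟶ extObj P G}, x ≫ pf P G = y ≫ pf P G →
      (F ξ).map x ≫ ψ = (F ξ).map y ≫ ψ → x = y := by
    intro T _ x y h1 h2
    refine extObj_hom_ext h1 (map_injective hξ eG ?_)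
    rw [map_psi, map_psi, h1] at h2
    exact FppfExact.mono hex (mul_left_cancel h2)
  have mk : ∀ {T : Over S}, Smooth T.hom → ∀ (p : T ⟶ P) (a : (F ξ).obj T ⟶ E'), a ≫ v' = (F ξ).map p →
      ∃ x : T ⟶ extObj P G, x ≫ pf P G = p ∧ (F ξ).map x ≫ ψ = a := by
    intro T _ p a ha
    obtain ⟨g, hg⟩ := FppfExact.exists_mul_right hex (x := (F ξ).map p ≫ s') (y := a)
      (by rw [Category.assoc, hs, Category.comp_id, ha])
    obtain ⟨x, hx⟩ := map_surjective hξ hS eG g
    refine ⟨liftE p x, liftE_pf _ _, ?_⟩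
    rw [map_psi, liftE_pf, liftE_pg, hx, hg]
  obtain ⟨one, hone₁, hone₂⟩ := mk h1 (1 : 𝟙_ (Over S) ⟶ P) 1 (by rw [MonObj.one_comp, Functor.map_one])
  obtain ⟨m, hm₁, hm₂⟩ := mk (hsm _ _ hE hE) ((fst (extObj P G) (extObj P G) ≫ pf P G) * (snd (extObj P G) (extObj P G) ≫ pf P G))
    (((F ξ).map (fst (extObj P G) (extObj P G)) ≫ ψ) * ((F ξ).map (snd (extObj P G) (extObj P G)) ≫ ψ))
    (by rw [MonObj.mul_comp, Category.assoc, Category.assoc, hψv, Functor.map_mul, Functor.map_comp, Functor.map_comp])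
  obtain ⟨iv, hiv₁, hiv₂⟩ := mk hE (pf P G)⁻¹ ψ⁻¹ (by rw [GrpObj.inv_comp, hψv, Functor.map_inv'])
  have compm₁ : ∀ {T : Over S} (w : T ⟶ (extObj P G) ⊗ (extObj P G)),
      (w ≫ m) ≫ pf P G = ((w ≫ fst _ _) ≫ pf P G) * ((w ≫ snd _ _) ≫ pf P G) := fun w => by
    rw [Category.assoc, hm₁, comp_mul, Category.assoc, Category.assoc]
  have compm₂ : ∀ {T : Over S} (w : T ⟶ (extObj P G) ⊗ (extObj P G)),
      (F ξ).map (w ≫ m) ≫ ψ = ((F ξ).map (w ≫ fst _ _) ≫ ψ) * ((F ξ).map (w ≫ snd _ _) ≫ ψ) := fun w => by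
    rw [Functor.map_comp_assoc, hm₂, comp_mul, Functor.map_comp_assoc, Functor.map_comp_assoc]
  have one₁ : ∀ {T : Over S} (w : T ⟶ 𝟙_ (Over S)), (w ≫ one) ≫ pf P G = 1 := fun w => by
    rw [Category.assoc, hone₁, comp_one]
  have one₂ : ∀ {T : Over S} (w : T ⟶ 𝟙_ (Over S)), (F ξ).map (w ≫ one) ≫ ψ = 1 := fun w => by
    rw [Functor.map_comp_assoc, hone₂, comp_one]
  let inst : GrpObj (extObj P G) :=
    { one := one
      mul := m
      one_mul := by
        refine inj (hsm _ _ h1 hE) ?_ ?_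
        · rw [compm₁, whiskerRight_fst, whiskerRight_snd, one₁, _root_.one_mul, leftUnitor_hom]
        · rw [compm₂, whiskerRight_fst, whiskerRight_snd, one₂, _root_.one_mul, leftUnitor_hom]
      mul_one := by
        refine inj (hsm _ _ hE h1) ?_ ?_
        · rw [compm₁, whiskerLeft_fst, whiskerLeft_snd, one₁, _root_.mul_one, rightUnitor_hom]
        · rw [compm₂, whiskerLeft_fst, whiskerLeft_snd, one₂, _root_.mul_one, rightUnitor_hom]
      mul_assoc := by
        refine inj (hsm _ _ (hsm _ _ hE hE) hE) ?_ ?_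
        · rw [← Category.assoc (α_ _ _ _).hom, compm₁, compm₁, whiskerRight_fst, whiskerRight_snd, compm₁]
          simp only [Category.assoc, whiskerLeft_fst, whiskerLeft_snd, associator_hom_fst,
            associator_hom_snd_fst_assoc, hm₁, comp_mul, associator_hom_snd_snd_assoc, associator_hom_fst_assoc,
            whiskerLeft_fst_assoc, whiskerLeft_snd_assoc, _root_.mul_assoc]
        · rw [← Category.assoc (α_ _ _ _).hom, compm₂, compm₂, whiskerRight_fst, whiskerRight_snd, compm₂,
            Category.assoc _ _ (fst _ _), Category.assoc _ _ (snd _ _), whiskerLeft_fst, whiskerLeft_snd,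
            ← Category.assoc (α_ _ _ _).hom (snd _ _) m, compm₂, associator_hom_fst]
          simp only [Category.assoc, associator_hom_snd_fst, associator_hom_snd_snd, _root_.mul_assoc]
      inv := iv
      left_inv := by
        refine inj hE ?_ ?_
        · rw [compm₁, lift_fst, lift_snd, one₁, hiv₁, Category.id_comp, inv_mul_cancel]
        · rw [compm₂, lift_fst, lift_snd, one₂, hiv₂, (F ξ).map_id, Category.id_comp, inv_mul_cancel]
      right_inv := by
        refine inj hE ?_ ?_
        · rw [compm₁, lift_fst, lift_snd, one₁, hiv₁, Category.id_comp, mul_inv_cancel]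
        · rw [compm₂, lift_fst, lift_snd, one₂, hiv₂, (F ξ).map_id, Category.id_comp, mul_inv_cancel] }
  obtain ⟨u₀, hu₁, hu₂⟩ := mk hG0 (1 : G ⟶ P) u' (by rw [huv, Functor.map_one])
  let u : G ⟶ (extObj P G) := u₀
  letI : GrpObj (extObj P G) := inst
  let v : (extObj P G) ⟶ P := pf P G
  have hμ : ∀ (N : Over S) [GrpObj N], (μ[N] : N ⊗ N ⟶ N) = fst N N * snd N N :=
    fun N _ => by rw [Hom.mul_def, lift_fst_snd, Category.id_comp]
  have hv : IsMonHom v :=
    { one_hom := by
        show one ≫ pf P G = _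
        rw [hone₁, ExtConst.one_eq_eta]
      mul_hom := by
        show m ≫ pf P G = (pf P G ⊗ₘ pf P G) ≫ μ[P]
        rw [hm₁, hμ P, comp_mul, tensorHom_fst, tensorHom_snd] }
  have hu : IsMonHom u :=
    { one_hom := by
        refine inj h1 ?_ ?_
        · rw [Category.assoc, hu₁, comp_one]
          exact hone₁.symm
        · rw [Functor.map_comp_assoc, hu₂, ← ExtConst.one_eq_eta, Functor.map_one, MonObj.one_comp]
          exact hone₂.symm
      mul_hom := by
        refine inj (hsm _ _ hG0 hG0) ?_ ?_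
        · show (μ[G] ≫ u) ≫ pf P G = ((u ⊗ₘ u) ≫ m) ≫ pf P G
          rw [compm₁, Category.assoc, hu₁, comp_one, tensorHom_fst, tensorHom_snd, Category.assoc, Category.assoc, hu₁,
            comp_one, comp_one, _root_.mul_one]
        · show (F ξ).map (μ[G] ≫ u) ≫ ψ = (F ξ).map ((u ⊗ₘ u) ≫ m) ≫ ψ
          rw [compm₂, Functor.map_comp_assoc, hu₂, hμ G, tensorHom_fst, tensorHom_snd, Functor.map_comp_assoc,
            Functor.map_comp_assoc, hu₂, Functor.map_mul, MonObj.mul_comp] }
  have hext : ∀ {A : Over (Spec (S.residueField ξ))} {a b : A ⟶ (F ξ).obj (extObj P G)},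
      a ≫ (F ξ).map (pf P G) = b ≫ (F ξ).map (pf P G) → a ≫ (F ξ).map (pg P G) = b ≫ (F ξ).map (pg P G) → a = b := by
    intro A a b h1 h2
    let adj := Over.mapPullbackAdj (S.fromSpecResidueField ξ)
    refine (adj.homEquiv A (extObj P G)).symm.injective (extObj_hom_ext ?_ ?_)
    · rw [← adj.homEquiv_naturality_right_symm, ← adj.homEquiv_naturality_right_symm, h1]
    · rw [← adj.homEquiv_naturality_right_symm, ← adj.homEquiv_naturality_right_symm, h2]
  obtain ⟨g, hg⟩ := FppfExact.exists_mul_right hex (x := v' ≫ s') (y := 𝟙 E')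
    (by rw [Category.assoc, hs, Category.comp_id, Category.id_comp])
  let adj := Over.mapPullbackAdj (S.fromSpecResidueField ξ)
  let ψi : E' ⟶ (F ξ).obj (extObj P G) := adj.homEquiv E' (extObj P G) (liftE ((adj.homEquiv E' P).symm v') ((adj.homEquiv E' G).symm g))
  have hi₁ : ψi ≫ (F ξ).map (pf P G) = v' := by
    rw [← adj.homEquiv_naturality_right, liftE_pf, Equiv.apply_symm_apply]
  have hi₂ : ψi ≫ (F ξ).map (pg P G) = g := by
    rw [← adj.homEquiv_naturality_right, liftE_pg, Equiv.apply_symm_apply]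
  have hψi : ψi ≫ ψ = 𝟙 E' := by
    show ψi ≫ psi ξ s' u' = _
    rw [psi, comp_mul, reassoc_of% hi₁, reassoc_of% hi₂, hg]
  have hiψ : ψ ≫ ψi = 𝟙 _ := by
    have h1 : ψ ≫ ψi ≫ (F ξ).map (pf P G) = (F ξ).map (pf P G) := by rw [hi₁, hψv]
    refine hext (by rw [Category.assoc, h1, Category.id_comp]) ?_
    rw [Category.assoc, hi₂, Category.id_comp]
    have h2 := congrArg (ψ ≫ ·) hg
    simp only [Category.comp_id, comp_mul, reassoc_of% hψv] at h2
    refine FppfExact.mono hex (mul_left_cancel (a := (F ξ).map (pf P G) ≫ s') ?_)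
    rw [Category.assoc, ← h2]
    rfl
  refine ⟨(extObj P G), inst, u, v, ⟨ψ, ψi, hiψ, hψi⟩, ⟨hu, hv, hu₁, ?_, ?_⟩, ⟨?_, ?_⟩, hu₂, hψv⟩
  · have hk : ((extObj P G) ◁ u) ≫ μ[(extObj P G)] = liftE (fst (extObj P G) G ≫ pf P G) ((fst (extObj P G) G ≫ pg P G) * snd (extObj P G) G) := by
      refine inj (hsm _ _ hE hG0) ?_ ?_
      · show (((extObj P G) ◁ u) ≫ m) ≫ pf P G = _
        rw [compm₁, whiskerLeft_fst, whiskerLeft_snd, Category.assoc, hu₁, comp_one, _root_.mul_one, liftE_pf]
      · show (F ξ).map (((extObj P G) ◁ u) ≫ m) ≫ ψ = _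
        rw [compm₂, whiskerLeft_fst, whiskerLeft_snd, (F ξ).map_comp_assoc (snd (extObj P G) G) u, show (F ξ).map u ≫ ψ = u' from hu₂, map_psi, map_psi, liftE_pf,
          liftE_pg, Functor.map_mul, MonObj.mul_comp, _root_.mul_assoc]
    rw [hk]
    refine IsPullback.of_isLimit' ⟨by rw [liftE_pf]⟩ ?_
    refine PullbackCone.IsLimit.mk _ (fun s => lift s.fst ((s.fst ≫ pg P G)⁻¹ * (s.snd ≫ pg P G)))
      (fun s => lift_fst _ _) (fun s => ?_) (fun s w hw₁ hw₂ => ?_)
    · apply extObj_hom_ext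
      · rw [Category.assoc, liftE_pf, lift_fst_assoc]
        exact s.condition
      · rw [Category.assoc, liftE_pg, comp_mul, lift_fst_assoc, lift_snd, mul_inv_cancel_left]
    · apply CartesianMonoidalCategory.hom_ext
      · rw [hw₁, lift_fst]
      · rw [lift_snd, ← hw₂, ← hw₁]
        simp only [Category.assoc, liftE_pg, comp_mul]
        rw [inv_mul_cancel_left]
  · refine ⟨Presieve.singleton (𝟙 P.left), Precoverage.HasIsos.mem_coverings_of_isIso _, ?_⟩
    rintro _ _ ⟨⟩
    exact ⟨(lift (𝟙 P) (1 : P ⟶ G)).left, congrArg CommaMorphism.left (lift_fst (𝟙 P) (1 : P ⟶ G))⟩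
  · show (Functor.LaxMonoidal.ε (F ξ) ≫ (F ξ).map one) ≫ ψ = η[E']
    rw [Category.assoc, hone₂, comp_one, ExtConst.one_eq_eta]
  · show (Functor.LaxMonoidal.μ (F ξ) (extObj P G) (extObj P G) ≫ (F ξ).map m) ≫ ψ = (ψ ⊗ₘ ψ) ≫ μ[E']
    have hμ' : (μ[E'] : E' ⊗ E' ⟶ E') = fst E' E' * snd E' E' := by rw [Hom.mul_def, lift_fst_snd, Category.id_comp]
    rw [Category.assoc, hm₂, hμ', comp_mul, comp_mul, tensorHom_fst, tensorHom_snd, ← Category.assoc, ← Category.assoc,
      Functor.Monoidal.μ_fst, Functor.Monoidal.μ_snd]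

end Build

theorem exists_extension [IrreducibleSpace S] (hS : ∀ s : S, CAlg2.IsGeomUnibranch (S.presheaf.stalk s))
    {ξ : S} (hξ : IsGenericPoint ξ (Set.univ : Set S)) (hZ : ∀ z : Z, IsOfFinOrder z → z = 1)
    {G P : Over S} [GrpObj G] [GrpObj P] (eG : G ≅ TwC.const S Z) (hG : TwC.IsConstGrp Z G eG) [Smooth P.hom]
    {E' : Over (Spec (S.residueField ξ))} [GrpObj E']
    (u' : (F ξ).obj G ⟶ E') (v' : E' ⟶ (F ξ).obj P) (hex : NonAbH1.IsExactSeq Scheme.fppfPrecoverage u' v') :
    ∃ (E : Over S) (_ : GrpObj E) (u : G ⟶ E) (v : E ⟶ P)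
      (φ : Red.bc (S.fromSpecResidueField ξ) E ≅ E'),
      NonAbH1.IsExactSeq Scheme.fppfPrecoverage u v ∧ IsMonHom φ.hom ∧
        (Over.pullback (S.fromSpecResidueField ξ)).map u ≫ φ.hom = u' ∧
        φ.hom ≫ v' = (Over.pullback (S.fromSpecResidueField ξ)).map v := by
  let k := S.residueField ξ
  let f : ((F ξ).obj P).left ⟶ Spec k := ((F ξ).obj P).hom
  have : Smooth f := inferInstanceAs (Smooth (pullback.snd P.hom (S.fromSpecResidueField ξ)))
  have : Subsingleton ↥(Spec k) := inferInstanceAs (Subsingleton (Spec (CommRingCat.of k)))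
  have : IrreducibleSpace ↥(Spec k) := inferInstanceAs (IrreducibleSpace (Spec (CommRingCat.of k)))
  have hk : ∀ t : Spec k, CAlg2.IsGeomUnibranch ((Spec k).presheaf.stalk t) := fun t =>
    isGeomUnibranch_stalk_of_smooth_field (k := k) (𝟙 (Spec k)) t
  obtain ⟨_, _⟩ := ExtConst.etale_surjective (isoξ ξ eG) hex
  obtain ⟨s, hs⟩ := (ExtConst.isPrincipal (isoξ ξ eG) (isConstGrp_isoξ eG hG) hex).exists_section_global hZ
    (fun y => isGeomUnibranch_stalk_of_smooth_field (k := k) f y) (fun x => exists_irreducible_nhd f hk x)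
  have := hex.2.1
  refine exists_groupExtension ξ (Over.homMk s ?_) u' hξ hS eG v' hex (Over.OverMorphism.ext hs)
  rw [← Over.w v', reassoc_of% hs]

end Groth.Agent.SGA7X.GenericExt
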