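import Mathlib

/-!
Derivations extend to the normalisation in characteristic zero.
-/

set_option autoImplicit false

namespace Groth.Agent.SGA7X.Seidenberg

open PowerSeries

section
variable {k A Q : Type*} [CommRing k] [CommRing A] [CommRing Q] [Algebra k A] [Algebra A Q] [Algebra ℚ Q]
  (D : Derivation k A A)

/-- The exponential of a derivation. -/
noncomputable def expFun (a : A) : PowerSeries Q :=
  PowerSeries.mk fun j => ((j.factorial : ℚ)⁻¹) • algebraMap A Q ((⇑D)^[j] a)

theorem constantCoeff_expFun (a : A) : constantCoeff (expFun (Q := Q) D a) = algebraMap A Q a := by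
  simp [expFun, ← coeff_zero_eq_constantCoeff_apply]

theorem coeff_one_expFun (a : A) : coeff 1 (expFun (Q := Q) D a) = algebraMap A Q (D a) := by
  simp [expFun]

theorem expFun_add (a b : A) : expFun (Q := Q) D (a + b) = expFun D a + expFun D b := by
  ext j
  have h : (⇑D)^[j] (a + b) = (⇑D)^[j] a + (⇑D)^[j] b := by
    induction j with
    | zero => rfl
    | succ j ih => rw [Function.iterate_succ_apply', ih, map_add, Function.iterate_succ_apply', Function.iterate_succ_apply']
  simp [expFun, h]

theorem expFun_algebraMap (r : k) :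
    expFun (Q := Q) D (algebraMap k A r) = C (algebraMap A Q (algebraMap k A r)) := by
  ext j
  cases j with
  | zero => simp [expFun]
  | succ j =>
    have h : (⇑D)^[j + 1] (algebraMap k A r) = 0 := by
      rw [Function.iterate_succ_apply, Derivation.map_algebraMap]
      exact iterate_map_zero D j
    simp [expFun, h, coeff_C]

theorem derivative_expFun (a : A) :
    derivative Q (expFun (Q := Q) D a) = expFun D (D a) := by
  ext j
  rw [coeff_derivative]
  simp only [expFun, coeff_mk, Function.iterate_succ_apply, Nat.factorial_succ]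
  rw [Algebra.smul_def, Algebra.smul_def, mul_comm, ← mul_assoc]
  congr 1
  rw [show ((j : Q) + 1) = algebraMap ℚ Q ((j : ℚ) + 1) by simp, ← map_mul]
  congr 1
  push_cast
  field_simp

theorem expFun_mul (a b : A) : expFun (Q := Q) D (a * b) = expFun D a * expFun D b := by
  ext j
  induction j generalizing a b with
  | zero => simp [constantCoeff_expFun, coeff_zero_eq_constantCoeff_apply]
  | succ j ih =>
    have h1 : coeff j (derivative Q (expFun (Q := Q) D (a * b))) =
        coeff j (derivative Q (expFun D a * expFun D b)) := by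
      rw [derivative_expFun, D.leibniz, expFun_add, map_add, smul_eq_mul, smul_eq_mul, ih, ih, Derivation.leibniz,
        map_add, derivative_expFun, derivative_expFun, smul_eq_mul, smul_eq_mul]
    rw [coeff_derivative, coeff_derivative] at h1
    have hu : IsUnit ((j : Q) + 1) := by
      rw [show ((j : Q) + 1) = algebraMap ℚ Q ((j : ℚ) + 1) by simp]
      exact (Ne.isUnit (by positivity : ((j : ℚ) + 1) ≠ 0)).map _
    exact hu.mul_right_cancel h1

/-- The exponential of a derivation as a ring homomorphism. -/
noncomputable def expHom : A →+* PowerSeries Q where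
  toFun := expFun D
  map_one' := by
    have h := expFun_algebraMap (Q := Q) D 1
    simpa using h
  map_mul' := expFun_mul D
  map_zero' := by
    have h := expFun_algebraMap (Q := Q) D 0
    simpa using h
  map_add' := expFun_add D

end

theorem exists_extension {k A : Type*} [Field k] [CharZero k] [CommRing A] [Algebra k A] [IsNoetherianRing A]
    (Q : Type*) [CommRing Q] [Algebra A Q] [Algebra k Q] [IsScalarTower k A Q] [IsLocalization (nonZeroDivisors A) Q]
    (D : Derivation k A A) :
    ∃ D' : Derivation k ↥(integralClosure A Q) ↥(integralClosure A Q),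
      ∀ a : A, (D' (algebraMap A ↥(integralClosure A Q) a) : Q) = algebraMap A Q (D a) := by
  letI : Algebra ℚ Q := ((algebraMap k Q).comp (algebraMap ℚ k)).toAlgebra
  let φ : A →+* PowerSeries Q := expHom D
  have hunit : ∀ c : nonZeroDivisors A, IsUnit (φ c) := fun c => by
    rw [isUnit_iff_constantCoeff]
    show IsUnit (constantCoeff (expFun D (c : A)))
    rw [constantCoeff_expFun]
    exact IsLocalization.map_units Q c
  let Φ : Q →+* PowerSeries Q := IsLocalization.lift hunit
  have hΦA : ∀ a, Φ (algebraMap A Q a) = φ a := IsLocalization.lift_eq hunit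
  have hΦ0 : ∀ q, constantCoeff (Φ q) = q := by
    have h : (constantCoeff (R := Q)).comp Φ = RingHom.id Q :=
      IsLocalization.ringHom_ext (nonZeroDivisors A) (RingHom.ext fun a => by
        simp only [RingHom.comp_apply, RingHom.id_apply, hΦA]
        exact constantCoeff_expFun D a)
    exact fun q => RingHom.congr_fun h q
  let d : Q → Q := fun q => coeff 1 (Φ q)
  have hmul : ∀ p q, d (p * q) = p * d q + q * d p := fun p q => by
    show coeff 1 (Φ (p * q)) = _
    rw [map_mul, coeff_one_mul, hΦ0, hΦ0]
    ring
  have hk : ∀ r : k, d (algebraMap k Q r) = 0 := fun r => by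
    show coeff 1 (Φ _) = 0
    rw [IsScalarTower.algebraMap_apply k A Q, hΦA]
    show coeff 1 (expFun D _) = 0
    rw [expFun_algebraMap]
    simp [coeff_C]
  have key : ∀ b : Q, IsIntegral A b → IsIntegral A (d b) := by
    intro b hb
    obtain ⟨a, c, rfl⟩ := IsLocalization.exists_mk'_eq (nonZeroDivisors A) b
    set b := IsLocalization.mk' Q a c with hbdef
    obtain ⟨P, hP, hPb⟩ := hb
    let n := P.natDegree
    let R := Algebra.adjoin A ({b} : Set Q)
    let cq : Q := algebraMap A Q (c : A)
    have hbc : b * cq = algebraMap A Q a := IsLocalization.mk'_spec Q a c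
    let R' : Subring (PowerSeries Q) :=
      { carrier := {f | ∀ j, coeff j f ∈ R}
        mul_mem' := fun {f g} hf hg j => by
          rw [coeff_mul]
          exact Subalgebra.sum_mem R fun x _ => R.mul_mem (hf _) (hg _)
        one_mem' := fun j => by
          rw [coeff_one]
          split <;> simp
        add_mem' := fun hf hg j => by
          rw [map_add]
          exact R.add_mem (hf j) (hg j)
        zero_mem' := fun j => by simp
        neg_mem' := fun hf j => by
          rw [map_neg]
          exact R.neg_mem (hf j) }
    have hφR : ∀ z : A, φ z ∈ R' := fun z j => by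
      show coeff j (expFun D z) ∈ R
      simp only [expFun, coeff_mk]
      rw [Algebra.smul_def]
      refine R.mul_mem ?_ (R.algebraMap_mem _)
      show algebraMap k Q (algebraMap ℚ k _) ∈ R
      rw [IsScalarTower.algebraMap_apply k A Q]
      exact R.algebraMap_mem _
    have hlow : ∀ i ≤ n, φ (c : A) ^ n * Φ b ^ i ∈ R' := fun i hi => by
      have h : φ (c : A) ^ n * Φ b ^ i = φ ((c : A) ^ (n - i) * a ^ i) := by
        rw [map_mul, map_pow, map_pow, ← hΦA a, ← hbc, map_mul, mul_pow,
          show Φ cq = φ (c : A) from hΦA _, show n = n - i + i by omega, pow_add]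
        rw [show n - i + i - i = n - i by omega]
        ring
      rw [h]
      exact hφR _
    have hall : ∀ i, φ (c : A) ^ n * Φ b ^ i ∈ R' := by
      intro i
      induction i using Nat.strong_induction_on with
      | _ i ih =>
        rcases Nat.lt_or_ge i n with hi | hi
        · exact hlow i hi.le
        · have hbn : b ^ n = -∑ j ∈ Finset.range n, algebraMap A Q (P.coeff j) * b ^ j := by
            have h := hPb
            rw [Polynomial.eval₂_eq_sum_range, Finset.sum_range_succ, hP.coeff_natDegree, map_one, one_mul] at h
            rw [eq_neg_iff_add_eq_zero, add_comm]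
            exact h
          obtain ⟨m, rfl⟩ : ∃ m, i = n + m := ⟨i - n, by omega⟩
          rw [pow_add, ← map_pow Φ b n, hbn, map_neg, map_sum, neg_mul, mul_neg, Finset.sum_mul, Finset.mul_sum]
          refine neg_mem (sum_mem fun j hj => ?_)
          rw [map_mul, map_pow, hΦA, mul_assoc, ← pow_add, mul_left_comm]
          exact mul_mem (hφR _) (ih (j + m) (by simp only [Finset.mem_range] at hj; omega))
    have hbR : C b ∈ R' := fun j => by
      rw [coeff_C]
      split
      · exact Algebra.self_mem_adjoin_singleton A b
      · exact R.zero_mem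
    have hpow : ∀ i, φ (c : A) ^ n * (Φ b - C b) ^ i ∈ R' := fun i => by
      rw [sub_eq_add_neg, add_pow, Finset.mul_sum]
      refine sum_mem fun j _ => ?_
      rw [← mul_assoc, ← mul_assoc]
      exact mul_mem (mul_mem (hall j) (pow_mem (neg_mem hbR) _)) (natCast_mem _ _)
    have hdb : ∀ i, cq ^ n * d b ^ i ∈ R := by
      intro i
      obtain ⟨w, hw⟩ : (X : PowerSeries Q) ∣ Φ b - C b := X_dvd_iff.2 (by rw [map_sub, hΦ0, constantCoeff_C, sub_self])
      have hw1 : constantCoeff w = d b := by
        have h := congrArg (coeff 1) hw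
        rw [map_sub, coeff_succ_X_mul, coeff_C, if_neg one_ne_zero, sub_zero, coeff_zero_eq_constantCoeff_apply] at h
        exact h.symm
      have h := hpow i i
      rw [hw, mul_pow, mul_left_comm, ← pow_one (X : PowerSeries Q), ← pow_mul, one_mul] at h
      have h2 : coeff i ((X : PowerSeries Q) ^ i * (φ (c : A) ^ n * w ^ i)) = constantCoeff (φ (c : A) ^ n * w ^ i) := by
        rw [← coeff_zero_eq_constantCoeff_apply]
        simpa using coeff_X_pow_mul (φ (c : A) ^ n * w ^ i) i 0
      rw [h2, map_mul, map_pow, map_pow, hw1] at h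
      rwa [show constantCoeff (φ (c : A)) = cq from constantCoeff_expFun D _] at h
    have hRfin : (Subalgebra.toSubmodule R).FG := IsIntegral.fg_adjoin_singleton ⟨P, hP, hPb⟩
    refine IsIntegral.of_mem_of_fg (Algebra.adjoin A ({d b} : Set Q)) ?_ _ (Algebra.self_mem_adjoin_singleton A _)
    obtain ⟨cu, hcu⟩ := (IsLocalization.map_units Q c).pow n
    let μ : Q →ₗ[A] Q := LinearMap.mulLeft A (↑cu⁻¹ : Q)
    have hfg : ((Subalgebra.toSubmodule R).map μ).FG := hRfin.map μ
    haveI : IsNoetherian A ((Subalgebra.toSubmodule R).map μ) := isNoetherian_of_fg_of_noetherian _ hfg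
    have hle : Subalgebra.toSubmodule (Algebra.adjoin A ({d b} : Set Q)) ≤ (Subalgebra.toSubmodule R).map μ := by
      intro x hx
      rw [Algebra.adjoin_singleton_eq_range_aeval] at hx
      obtain ⟨q, rfl⟩ := hx
      show Polynomial.aeval (d b) q ∈ _
      induction q using Polynomial.induction_on' with
      | add p q hp hq => rw [map_add]; exact add_mem hp hq
      | monomial i z =>
        rw [Polynomial.aeval_monomial, ← Algebra.smul_def]
        refine Submodule.smul_mem _ z ⟨cq ^ n * d b ^ i, hdb i, ?_⟩
        show (↑cu⁻¹ : Q) * (cq ^ n * d b ^ i) = _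
        rw [← hcu, Units.inv_mul_cancel_left]
    have h := (IsNoetherian.noetherian (Submodule.comap ((Subalgebra.toSubmodule R).map μ).subtype
      (Subalgebra.toSubmodule (Algebra.adjoin A ({d b} : Set Q))))).map ((Subalgebra.toSubmodule R).map μ).subtype
    rw [Submodule.map_comap_subtype, inf_eq_right.2 hle] at h
    exact h
  refine ⟨Derivation.mk' ⟨⟨fun x => ⟨d x.1, key x.1 x.2⟩, fun x y => Subtype.ext ?_⟩, fun r x => Subtype.ext ?_⟩
    (fun x y => Subtype.ext ?_), fun a => ?_⟩
  · show coeff 1 (Φ (x.1 + y.1)) = _
    rw [map_add, map_add]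
    rfl
  · show d (r • x.1) = r • d x.1
    rw [Algebra.smul_def, hmul, hk, mul_zero, add_zero, Algebra.smul_def]
  · show d (x.1 * y.1) = x.1 * d y.1 + y.1 * d x.1
    exact hmul _ _
  · show coeff 1 (Φ (algebraMap A Q a)) = _
    rw [hΦA]
    exact coeff_one_expFun D a

end Groth.Agent.SGA7X.Seidenberg
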