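import Groth.Prelude.Def_SGA7a
import Groth.Agent.Hensel.IntegralStrict
import Mathlib.RingTheory.DiscreteValuationRing.Basic
import Mathlib.FieldTheory.Galois.Infinite
import Mathlib.FieldTheory.IsSepClosed
import Mathlib.FieldTheory.PrimitiveElement
import Mathlib.RingTheory.AdjoinRoot
import Mathlib.RingTheory.Valuation.LocalSubring

/-!
Valuation subrings over a henselian valuation ring are unique; the elements fixed by inertia lie in
extensions generated by lifts of separable polynomials.
-/

set_option autoImplicit false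

universe u

open IsLocalRing Polynomial

namespace Groth.Agent.SGA7X

section Prufer

variable {Ω : Type u} [Field Ω]

theorem mem_or_inv_mem_of_root (S : Subring Ω) [IsLocalRing S]
    (hS : ∀ x : Ω, IsIntegral S x → x ∈ S) (a : Ω) (n : ℕ) :
    ∀ p : S[X], p.natDegree ≤ n → aeval a p = 0 → (∃ i, IsUnit (p.coeff i)) → a ∈ S ∨ a⁻¹ ∈ S := by
  induction n with
  | zero =>
    intro p hp h0 ⟨i, hi⟩
    rw [eq_C_of_natDegree_le_zero hp, aeval_C] at h0
    have hzero : p.coeff 0 = 0 := Subtype.ext h0
    rcases i with _ | i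
    · rw [hzero] at hi; exact absurd hi not_isUnit_zero
    · rw [coeff_eq_zero_of_natDegree_lt (by omega)] at hi
      exact absurd hi not_isUnit_zero
  | succ n ih =>
    intro p hp h0 hu
    by_cases hc : p.coeff (n + 1) = 0
    · refine ih p ?_ h0 hu
      exact natDegree_le_iff_coeff_eq_zero.2 fun N hN => by
        rcases Nat.lt_or_ge (n + 1) N with h | h
        · exact coeff_eq_zero_of_natDegree_lt (by omega)
        · rw [show N = n + 1 by omega, hc]
    set c := p.coeff (n + 1) with hcdef
    have hdeg : p.natDegree = n + 1 := le_antisymm hp (le_natDegree_of_ne_zero hc)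
    have hca : (c : Ω) * a ∈ S := by
      apply hS
      have h := isIntegral_leadingCoeff_smul p a h0
      rw [Algebra.smul_def, leadingCoeff, hdeg] at h
      exact h
    let d : S := ⟨(c : Ω) * a, hca⟩
    have hac : IsUnit c → a ∈ S := fun h => by
      have h1 : ((↑h.unit⁻¹ : S) : Ω) * ((c : Ω) * a) = a := by
        rw [← mul_assoc, ← Subring.coe_mul, IsUnit.val_inv_mul h, Subring.coe_one, one_mul]
      rw [← h1]
      exact S.mul_mem (SetLike.coe_mem _) hca
    by_cases hcu : IsUnit c
    · exact Or.inl (hac hcu)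
    let q : S[X] := p.erase (n + 1) + C d * X ^ n
    have hq0 : aeval a q = 0 := by
      have h := congrArg (aeval a) (monomial_add_erase p (n + 1))
      rw [map_add, h0, aeval_monomial] at h
      show aeval a (p.erase (n + 1) + C d * X ^ n) = 0
      rw [map_add, map_mul, aeval_C, map_pow, aeval_X, ← h, add_comm]
      congr 1
      show (c : Ω) * a * a ^ n = (c : Ω) * a ^ (n + 1)
      ring
    have hqdeg : q.natDegree ≤ n := by
      refine natDegree_le_iff_coeff_eq_zero.2 fun N hN => ?_
      rw [coeff_add, coeff_C_mul_X_pow, if_neg (by omega), add_zero, coeff_erase]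
      split_ifs with h
      · rfl
      · exact coeff_eq_zero_of_natDegree_lt (by omega)
    obtain ⟨i, hi⟩ := hu
    have hilt : i ≤ n := by
      by_contra hh
      rcases Nat.lt_or_ge (n + 1) i with h | h
      · rw [coeff_eq_zero_of_natDegree_lt (by omega)] at hi; exact not_isUnit_zero hi
      · exact hcu (by rwa [show i = n + 1 by omega] at hi)
    rcases Nat.lt_or_ge i n with h | h
    · refine ih q hqdeg hq0 ⟨i, ?_⟩
      rw [coeff_add, coeff_C_mul_X_pow, if_neg (by omega), add_zero, coeff_erase, if_neg (by omega)]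
      exact hi
    · obtain rfl : i = n := by omega
      have hqi : q.coeff i = p.coeff i + d := by
        rw [coeff_add, coeff_C_mul_X_pow, if_pos rfl, coeff_erase, if_neg (by omega)]
      by_cases hqu : IsUnit (q.coeff i)
      · exact ih q hqdeg hq0 ⟨i, hqu⟩
      have hdu : IsUnit d := by
        by_contra hd
        have h1 : q.coeff i - d ∈ maximalIdeal S :=
          sub_mem ((mem_maximalIdeal _).2 hqu) ((mem_maximalIdeal _).2 hd)
        rw [hqi, add_sub_cancel_right] at h1
        exact (mem_maximalIdeal _).1 h1 hi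
      refine Or.inr ?_
      have hc0 : (c : Ω) ≠ 0 := fun h => hc (Subtype.ext h)
      have h1 : ((↑hdu.unit⁻¹ : S) : Ω) * ((c : Ω) * a) = 1 := by
        have := congrArg (Subtype.val) (IsUnit.val_inv_mul hdu)
        exact this
      have h2 : a⁻¹ = ((↑hdu.unit⁻¹ : S) : Ω) * (c : Ω) :=
        inv_eq_of_mul_eq_one_left (by rw [mul_assoc]; exact h1)
      rw [h2]
      exact S.mul_mem (SetLike.coe_mem _) c.2

end Prufer

section LiesOver

variable {R K Ω : Type u} [CommRing R] [IsLocalRing R] [Field K] [Algebra R K] [Field Ω] [Algebra K Ω]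

/-- The residue map of a dominating valuation ring. -/
noncomputable def toW (W : ValuationSubring Ω) (hW : SGA7.LiesOver K R W) : R →+* W :=
  ((algebraMap K Ω).comp (algebraMap R K)).codRestrict W.toSubring hW.1

@[simp] theorem coe_toW (W : ValuationSubring Ω) (hW : SGA7.LiesOver K R W) (r : R) :
    (toW W hW r : Ω) = algebraMap K Ω (algebraMap R K r) := rfl

theorem isLocalHom_toW (W : ValuationSubring Ω) (hW : SGA7.LiesOver K R W) : IsLocalHom (toW W hW) := by
  refine ⟨fun r hr => ?_⟩
  by_contra h
  have h1 : toW W hW r ∈ maximalIdeal W :=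
    (W.valuation_lt_one_iff _).2 (hW.2 r ((mem_maximalIdeal _).2 h))
  exact (mem_maximalIdeal _).1 h1 hr

theorem aeval_mem_maximal (W : ValuationSubring Ω) (w : W) :
    w ∈ maximalIdeal W ↔ W.valuation (w : Ω) < 1 :=
  W.valuation_lt_one_iff w

variable [Algebra R Ω] [IsScalarTower R K Ω]

theorem mem_of_isIntegral (W : ValuationSubring Ω) (hW : SGA7.LiesOver K R W) (x : Ω) (hx : IsIntegral R x) :
    x ∈ W := by
  obtain ⟨p, hp, hp0⟩ := hx
  have hint : IsIntegral W x := by
    refine ⟨p.map (toW W hW), hp.map _, ?_⟩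
    rw [eval₂_map, ← hp0]
    congr 1
    ext r
    exact (IsScalarTower.algebraMap_apply R K Ω r).symm
  obtain ⟨y, rfl⟩ := IsIntegrallyClosed.isIntegral_iff.mp hint
  exact y.2

variable [IsDomain R] [ValuationRing R] [IsFractionRing R K] [HenselianLocalRing R]

/-- A valuation subring of an algebraic extension dominating a henselian valuation ring is its integral
closure. -/
theorem isIntegral_of_mem [Algebra.IsAlgebraic K Ω] (W : ValuationSubring Ω) (hW : SGA7.LiesOver K R W)
    (a : Ω) (ha : a ∈ W) : IsIntegral R a := by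
  let S : Subalgebra R Ω := integralClosure R Ω
  have : IsLocalRing S.toSubring := Hensel.isLocalRing_of_isIntegral_domain R S
  have hSint : ∀ x : Ω, IsIntegral S.toSubring x → x ∈ S.toSubring := fun x hx =>
    isIntegral_trans (R := R) (A := S) x hx
  obtain ⟨p, hp, hp0⟩ := (Algebra.IsAlgebraic.isAlgebraic (R := K) a)
  obtain ⟨i, hi, hmax⟩ := p.support.exists_max_image (fun j => ValuationRing.valuation R K (p.coeff j))
    ⟨p.natDegree, natDegree_mem_support_of_nonzero hp⟩
  have hi0 : p.coeff i ≠ 0 := mem_support_iff.1 hi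
  let q := C (p.coeff i)⁻¹ * p
  have hqi : q.coeff i = 1 := by rw [coeff_C_mul, inv_mul_cancel₀ hi0]
  have hlift : q ∈ lifts (algebraMap R K) := by
    rw [lifts_iff_coeff_lifts]
    intro j
    rw [coeff_C_mul]
    have hle : ValuationRing.valuation R K ((p.coeff i)⁻¹ * p.coeff j) ≤ 1 := by
      rw [map_mul, map_inv₀]
      by_cases hj : j ∈ p.support
      · exact inv_mul_le_one_of_le₀ (hmax j hj) zero_le'
      · rw [mem_support_iff, not_not] at hj
        rw [hj, map_zero, mul_zero]
        exact zero_le'
    exact (ValuationRing.mem_integer_iff R K _).1 hle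
  obtain ⟨q₀, hq₀⟩ := (mem_lifts q).1 hlift
  let incl : R →+* S.toSubring := algebraMap R S
  have hroot : aeval a (q₀.map incl) = 0 := by
    rw [aeval_def, eval₂_map]
    have : aeval a q₀ = 0 := by
      rw [← aeval_map_algebraMap K, hq₀]
      show aeval a (C _ * p) = 0
      rw [map_mul, hp0, mul_zero]
    exact this
  have hu : ∃ j, IsUnit ((q₀.map incl).coeff j) := by
    refine ⟨i, ?_⟩
    have h1 : q₀.coeff i = 1 := IsFractionRing.injective R K (by
      rw [map_one, ← coeff_map, hq₀, hqi])
    rw [coeff_map, h1, map_one]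
    exact isUnit_one
  rcases mem_or_inv_mem_of_root S.toSubring hSint a _ (q₀.map incl) le_rfl hroot hu with h | h
  · exact h
  by_contra hna
  let b : S := ⟨a⁻¹, h⟩
  have ha0 : a ≠ 0 := fun h0 => hna (h0 ▸ S.zero_mem)
  have hbn : ¬ IsUnit b := fun hb => hna (by
    have h1 : ((↑hb.unit⁻¹ : S) : Ω) = a := by
      apply mul_right_cancel₀ (inv_ne_zero ha0)
      rw [mul_inv_cancel₀ ha0]
      exact congrArg Subtype.val (IsUnit.val_inv_mul hb)
    exact h1 ▸ (SetLike.coe_mem (↑hb.unit⁻¹ : S)))
  let ι : S →+* W := (S.val : S →+* Ω).codRestrict W.toSubring (fun x => mem_of_isIntegral W hW x x.2)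
  have hprime : ((maximalIdeal W).comap ι).IsPrime := Ideal.IsPrime.comap _
  have hmaxS : ((maximalIdeal W).comap ι).IsMaximal := by
    refine Ideal.isMaximal_of_isIntegral_of_isMaximal_comap (R := R) _ ?_
    rw [Ideal.comap_comap]
    have h2 : (ι.comp (algebraMap R S)) = toW W hW := by
      ext r; exact IsScalarTower.algebraMap_apply R K Ω r
    rw [h2]
    have := isLocalHom_toW W hW
    rw [IsLocalRing.maximalIdeal_comap]
    exact maximalIdeal.isMaximal R
  have hbW : ι b ∈ maximalIdeal W := by
    have : b ∈ (maximalIdeal W).comap ι := by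
      rw [IsLocalRing.eq_maximalIdeal hmaxS]
      exact (mem_maximalIdeal _).2 hbn
    exact this
  refine (mem_maximalIdeal _).1 hbW ?_
  exact IsUnit.of_mul_eq_one (⟨a, ha⟩ : W) (Subtype.ext (inv_mul_cancel₀ ha0))

/-- Valuation subrings over a henselian valuation ring are unique in an algebraic extension. -/
theorem eq_of_liesOver [Algebra.IsAlgebraic K Ω] (W V : ValuationSubring Ω) (hW : SGA7.LiesOver K R W)
    (hV : SGA7.LiesOver K R V) : V = W := by
  ext x
  exact ⟨fun h => mem_of_isIntegral W hW x (isIntegral_of_mem V hV x h),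
    fun h => mem_of_isIntegral V hV x (isIntegral_of_mem W hW x h)⟩

end LiesOver

end Groth.Agent.SGA7X
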