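import Groth.Agent.RG11.ShrinkSmooth
import Groth.Agent.CAlgOdd.FiniteResidue
import Groth.Agent.UnibEtale.Comp
import Mathlib

/-!
Charts with connected fibres, flat over a smooth algebra, around a point with finite residue extension.
-/

set_option autoImplicit false
set_option backward.isDefEq.respectTransparency.types false

universe u

open CategoryTheory Limits AlgebraicGeometry TensorProduct

namespace Groth.Agent.SGA7X.SectionOpen

/-- Flat, locally of finite presentation. -/
def FlatLfp {X Y : Scheme.{u}} (f : X ⟶ Y) : Prop := Flat f ∧ LocallyOfFinitePresentation f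

theorem FlatLfp.comp {X Y Z : Scheme.{u}} {f : X ⟶ Y} {g : Y ⟶ Z} (hf : FlatLfp f) (hg : FlatLfp g) :
    FlatLfp (f ≫ g) := by
  obtain ⟨_, _⟩ := hf
  obtain ⟨_, _⟩ := hg
  exact ⟨inferInstance, inferInstance⟩

theorem FlatLfp.isOpenMap {X Y : Scheme.{u}} {f : X ⟶ Y} (hf : FlatLfp f) : IsOpenMap f := by
  obtain ⟨_, _⟩ := hf
  exact f.isOpenMap

theorem FlatLfp.baseChange {X Y X' Y' : Scheme.{u}} {q : X' ⟶ X} {f' : X' ⟶ Y'} {f : X ⟶ Y} {p : Y' ⟶ Y}
    (sq : IsPullback q f' f p) (hf : FlatLfp f) : FlatLfp f' :=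
  ⟨MorphismProperty.of_isPullback (P := @Flat) sq hf.1,
    MorphismProperty.of_isPullback (P := @LocallyOfFinitePresentation) sq hf.2⟩

theorem flatLfp_includeRight {R S T : Type u} [CommRing R] [CommRing S] [CommRing T] [Algebra R S] [Algebra R T]
    (hS : FlatLfp (Spec.map (CommRingCat.ofHom (algebraMap R S)))) :
    FlatLfp (Spec.map (CommRingCat.ofHom (Algebra.TensorProduct.includeRight : T →ₐ[R] S ⊗[R] T).toRingHom)) :=
  FlatLfp.baseChange (isPullback_SpecMap_of_isPushout _ _ _ _ (CommRingCat.isPushout_tensorProduct R S T)) hS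

theorem flatLfp_of_smooth (R S : Type u) [CommRing R] [CommRing S] [Algebra R S] [Algebra.Smooth R S] :
    FlatLfp (Spec.map (CommRingCat.ofHom (algebraMap R S))) :=
  ⟨(Flat.SpecMap_iff).2 (RingHom.flat_algebraMap_iff.2 inferInstance),
    (LocallyOfFinitePresentation.SpecMap_iff _).2 (RingHom.finitePresentation_algebraMap.2 inferInstance)⟩

theorem isPreconnected_fibre_of_geometricallyIntegral {X Y : Scheme.{u}} (a : X ⟶ Y) [GeometricallyIntegral a]
    (t : Y) : _root_.IsPreconnected (a ⁻¹' {t}) := by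
  rw [← a.range_fiberι t, ← Set.image_univ]
  exact (PreirreducibleSpace.isPreirreducible_univ (X := a.fiber t)).isPreconnected.image _
    (a.fiberι t).continuous.continuousOn

theorem exists_chart (R D : Type u) [CommRing R] [CommRing D] [Algebra R D] [Algebra.Smooth R D]
    (p : Ideal R) [p.IsPrime] (L : Type u) [Field L] [Algebra p.ResidueField L] [FiniteDimensional p.ResidueField L]
    [Algebra R L] [IsScalarTower R p.ResidueField L] (χ : D →ₐ[R] L) :
    ∃ (R₂ A : CommRingCat.{u}) (g : Spec R₂ ⟶ Spec (CommRingCat.of R)) (a : Spec A ⟶ Spec R₂)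
      (b : Spec A ⟶ Spec (CommRingCat.of D)) (v₀ : Spec A),
      FlatLfp g ∧ LocallyQuasiFinite g ∧ FlatLfp a ∧ FlatLfp b ∧
      b ≫ Spec.map (CommRingCat.ofHom (algebraMap R D)) = a ≫ g ∧
      (∀ t : Spec R₂, _root_.IsPreconnected (a ⁻¹' {t})) ∧
      (g (a v₀)).asIdeal = p ∧ (b v₀).asIdeal = RingHom.ker χ ∧
      ∀ σ : D →ₐ[R] R, (∀ d, χ d = algebraMap R L (σ d)) → ∃ O : (Spec R₂).Opens, a v₀ ∈ O ∧
        ∀ t ∈ O, ∃ v : Spec A, a v = t ∧ b v = Spec.map (CommRingCat.ofHom σ.toRingHom) (g t) := by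
  obtain ⟨R₁, _, _, _, _, hq, e, he⟩ := CAlgOdd.FiniteResidue.exists_residueField (R := R) p (L := L)
  let q := p.map (algebraMap R R₁)
  let L₁ := q.ResidueField
  let χ₁ : D →ₐ[R] L₁ :=
    { e.symm.toRingHom.comp χ.toRingHom with
      commutes' := fun r => by
        show e.symm (χ (algebraMap R D r)) = _
        rw [χ.commutes, ← he, e.symm_apply_apply] }
  let D₁ := R₁ ⊗[R] D
  let χD : D₁ →ₐ[R₁] L₁ := Algebra.TensorProduct.lift (Algebra.ofId R₁ L₁) χ₁ (fun _ _ => .all _ _)
  obtain ⟨R₂, _, _, θ, g₀, het, hg₀, hgi⟩ := RG11.exists_shrink_smooth (R₁ := R₁) (D₁ := D₁) q L₁ χD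
    (v := (fun i : Fin 0 => (0 : L₁))) (algebraicIndependent_empty_type) (fun z =>
      ⟨MvPolynomial.C z, 1, by simp, by simp; rfl⟩)
  let B := R₂ ⊗[R₁] D₁
  let A := Localization.Away g₀
  let iD : D →+* B := (Algebra.TensorProduct.includeRight : D₁ →ₐ[R₁] B).toRingHom.comp
    (Algebra.TensorProduct.includeRight : D →ₐ[R] D₁).toRingHom
  let g : Spec (CommRingCat.of R₂) ⟶ Spec (CommRingCat.of R) :=
    Spec.map (CommRingCat.ofHom (algebraMap R₁ R₂)) ≫ Spec.map (CommRingCat.ofHom (algebraMap R R₁))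
  let a : Spec (CommRingCat.of A) ⟶ Spec (CommRingCat.of R₂) := Spec.map (CommRingCat.ofHom (algebraMap R₂ A))
  let j : Spec (CommRingCat.of A) ⟶ Spec (CommRingCat.of B) := Spec.map (CommRingCat.ofHom (algebraMap B A))
  let b : Spec (CommRingCat.of A) ⟶ Spec (CommRingCat.of D) := j ≫ Spec.map (CommRingCat.ofHom iD)
  -- the point
  let τ : B →ₐ[R₁] L₁ :=
    Algebra.TensorProduct.lift ((IsScalarTower.toAlgHom R₁ q.ResidueField L₁).comp θ) χD (fun _ _ => .all _ _)
  have hτ0 : τ g₀ ≠ 0 := hg₀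
  let τA : A →+* L₁ := IsLocalization.Away.lift g₀ (g := τ.toRingHom) (isUnit_iff_ne_zero.2 hτ0)
  have hτA : ∀ z, τA (algebraMap B A z) = τ z := IsLocalization.Away.lift_eq g₀ _
  let v₀ : Spec (CommRingCat.of A) := ⟨RingHom.ker τA, RingHom.ker_isPrime τA⟩
  have hfl1 : FlatLfp (Spec.map (CommRingCat.ofHom (algebraMap R R₁))) :=
    ⟨(Flat.SpecMap_iff).2 (RingHom.flat_algebraMap_iff.2 inferInstance),
      (LocallyOfFinitePresentation.SpecMap_iff _).2 (RingHom.finitePresentation_algebraMap.2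
        (haveI := Module.finitePresentation_of_projective R R₁; Algebra.FinitePresentation.of_finitePresentation R R₁))⟩
  haveI : IsFinite (Spec.map (CommRingCat.ofHom (algebraMap R R₁))) :=
    (IsFinite.SpecMap_iff _).2 (RingHom.finite_algebraMap.2 inferInstance)
  haveI : Etale (Spec.map (CommRingCat.ofHom (algebraMap R₁ R₂))) :=
    (HasRingHomProperty.Spec_iff (P := @Etale)).2 (RingHom.etale_algebraMap.2 het)
  haveI : LocallyQuasiFinite (Spec.map (CommRingCat.ofHom (algebraMap R₁ R₂))) :=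
    UnibEtale.locallyQuasiFinite_of_formallyUnramified _
  have hfl2 : FlatLfp (Spec.map (CommRingCat.ofHom (algebraMap R₁ R₂))) := ⟨inferInstance, inferInstance⟩
  have hj : FlatLfp j := ⟨inferInstance, inferInstance⟩
  have hBR₂ : FlatLfp (Spec.map (CommRingCat.ofHom (algebraMap R₂ B))) := flatLfp_of_smooth R₂ B
  have hb : FlatLfp b := by
    refine hj.comp ?_
    simp only [iD, CommRingCat.ofHom_comp, Spec.map_comp]
    exact (flatLfp_includeRight hfl2).comp (flatLfp_includeRight hfl1)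
  have ha : FlatLfp a := by
    have : a = j ≫ Spec.map (CommRingCat.ofHom (algebraMap R₂ B)) := by
      rw [← Spec.map_comp, ← CommRingCat.ofHom_comp, ← IsScalarTower.algebraMap_eq]
    rw [this]
    exact hj.comp hBR₂
  have hiD : ∀ r : R, iD (algebraMap R D r) = algebraMap R₂ B (algebraMap R₁ R₂ (algebraMap R R₁ r)) := fun r => by
    show Algebra.TensorProduct.includeRight (R := R₁) (A := R₂) ((Algebra.TensorProduct.includeRight (R := R) (A := R₁)) (algebraMap R D r)) = _
    rw [AlgHom.commutes, IsScalarTower.algebraMap_apply R R₁ D₁, AlgHom.commutes,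
      IsScalarTower.algebraMap_apply R₁ R₂ B]
  have hτiD : ∀ d, τ (iD d) = χ₁ d := fun d => by
    show τ ((1 : R₂) ⊗ₜ[R₁] ((1 : R₁) ⊗ₜ[R] d)) = _
    simp only [τ, χD]
    erw [Algebra.TensorProduct.lift_tmul, Algebra.TensorProduct.lift_tmul]
    rw [map_one, map_one, one_mul, one_mul]
  refine ⟨CommRingCat.of R₂, CommRingCat.of A, g, a, b, v₀, hfl2.comp hfl1, inferInstance, ha, hb, ?_, ?_, ?_, ?_, ?_⟩
  · simp only [a, b, g, j, Category.assoc, ← Spec.map_comp]
    congr 1
    apply CommRingCat.hom_ext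
    ext r
    show algebraMap B A (iD (algebraMap R D r)) = algebraMap R₂ A (algebraMap R₁ R₂ (algebraMap R R₁ r))
    rw [hiD, ← IsScalarTower.algebraMap_apply R₂ B A]
  · intro t
    haveI : GeometricallyIntegral a := hgi
    exact isPreconnected_fibre_of_geometricallyIntegral a t
  · ext r
    show τA (algebraMap R₂ A (algebraMap R₁ R₂ (algebraMap R R₁ r))) = 0 ↔ r ∈ p
    rw [IsScalarTower.algebraMap_apply R₂ B A, ← hiD, hτA, hτiD, χ₁.commutes,
      ← map_eq_zero_iff e e.injective, he, IsScalarTower.algebraMap_apply R p.ResidueField L,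
      map_eq_zero_iff _ (algebraMap p.ResidueField L).injective, Ideal.algebraMap_residueField_eq_zero]
  · ext d
    show τA (algebraMap B A (iD d)) = 0 ↔ χ d = 0
    rw [hτA, hτiD]
    show e.symm (χ d) = 0 ↔ _
    rw [map_eq_zero_iff _ e.symm.injective]
  · intro σ hσ
    letI : Algebra R R₂ := ((algebraMap R₁ R₂).comp (algebraMap R R₁)).toAlgebra
    haveI : IsScalarTower R R₁ R₂ := IsScalarTower.of_algebraMap_eq' rfl
    let σD : D₁ →ₐ[R₁] R₂ := Algebra.TensorProduct.lift (Algebra.ofId R₁ R₂) ((Algebra.ofId R R₂).comp σ)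
      (fun _ _ => .all _ _)
    let σ₂ : B →ₐ[R₂] R₂ := Algebra.TensorProduct.lift (AlgHom.id R₂ R₂) σD (fun _ _ => .all _ _)
    let σB : B →ₐ[R₁] R₂ := σ₂.restrictScalars R₁
    have hcomp : ((IsScalarTower.toAlgHom R₁ q.ResidueField L₁).comp θ).comp σB = τ := by
      refine Algebra.TensorProduct.ext ?_ ?_
      · ext r
        simp [σB, σ₂, τ]
      · refine Algebra.TensorProduct.ext ?_ ?_
        · ext
        · ext d
          have h1 : σ₂ (iD d) = algebraMap R R₂ (σ d) := by
            show σ₂ ((1 : R₂) ⊗ₜ[R₁] ((1 : R₁) ⊗ₜ[R] d)) = _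
            simp only [σ₂, σD]
            erw [Algebra.TensorProduct.lift_tmul, Algebra.TensorProduct.lift_tmul]
            rw [map_one, map_one, one_mul, one_mul]
            rfl
          show algebraMap q.ResidueField L₁ (θ (σ₂ (iD d))) = τ (iD d)
          rw [h1, hτiD, IsScalarTower.algebraMap_apply R R₁ R₂, θ.commutes,
            ← IsScalarTower.algebraMap_apply R₁ q.ResidueField L₁, ← IsScalarTower.algebraMap_apply R R₁ L₁]
          show _ = e.symm (χ d)
          rw [hσ, ← he, e.symm_apply_apply]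
    refine ⟨⟨{t | σ₂ g₀ ∉ t.asIdeal}, (PrimeSpectrum.basicOpen (σ₂ g₀)).2⟩, ?_, fun t ht => ?_⟩
    · intro h
      have h' : τA (algebraMap R₂ A (σ₂ g₀)) = 0 := h
      rw [IsScalarTower.algebraMap_apply R₂ B A, hτA] at h'
      apply hτ0
      rw [← hcomp]
      refine Eq.trans ?_ h'
      rw [Algebra.TensorProduct.algebraMap_apply]
      simp only [τ]
      erw [Algebra.TensorProduct.lift_tmul]
      rw [map_one, mul_one]
      rfl
    · have ht' : σ₂ g₀ ∉ t.asIdeal := ht
      have hu : IsUnit ((algebraMap R₂ t.asIdeal.ResidueField).comp σ₂.toRingHom g₀) :=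
        isUnit_iff_ne_zero.2 fun h => ht' (Ideal.algebraMap_residueField_eq_zero.1 h)
      let ψ : A →+* t.asIdeal.ResidueField := IsLocalization.Away.lift g₀ hu
      have hψ : ∀ z, ψ (algebraMap B A z) = algebraMap R₂ t.asIdeal.ResidueField (σ₂ z) :=
        IsLocalization.Away.lift_eq g₀ _
      refine ⟨⟨RingHom.ker ψ, RingHom.ker_isPrime ψ⟩, PrimeSpectrum.ext ?_, PrimeSpectrum.ext ?_⟩
      · ext r
        show ψ (algebraMap R₂ A r) = 0 ↔ r ∈ t.asIdeal
        rw [IsScalarTower.algebraMap_apply R₂ B A, hψ, σ₂.commutes]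
        exact Ideal.algebraMap_residueField_eq_zero
      · ext d
        show ψ (algebraMap B A (iD d)) = 0 ↔ algebraMap R₁ R₂ (algebraMap R R₁ (σ d)) ∈ t.asIdeal
        rw [hψ, Ideal.algebraMap_residueField_eq_zero]
        have h1 : σ₂ (iD d) = algebraMap R R₂ (σ d) := by
          show σ₂ ((1 : R₂) ⊗ₜ[R₁] ((1 : R₁) ⊗ₜ[R] d)) = _
          simp only [σ₂, σD]
          erw [Algebra.TensorProduct.lift_tmul, Algebra.TensorProduct.lift_tmul]
          rw [map_one, map_one, one_mul, one_mul]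
          rfl
        rw [h1]
        rfl

end Groth.Agent.SGA7X.SectionOpen
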