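import Groth.Prelude.Def_SGA7a
import Groth.Agent.H23.MulEtale
import Groth.Agent.H23.RigidGamma
import Groth.Agent.H23.AlbFormal
import Mathlib.AlgebraicGeometry.ValuativeCriterion

/-!
Torsion points of an abelian scheme over a local ring with values in a valuation subring are
determined by their reduction; hence inertia fixes torsion points.
-/

set_option autoImplicit false

universe u

open CategoryTheory Limits AlgebraicGeometry MonoidalCategory CartesianMonoidalCategory MonObj IsLocalRing

namespace Groth.Agent.SGA7X

/-- Two points with values in a local ring of a formally unramified separated scheme which agree at the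
closed point are equal. -/
theorem eq_of_residue_eq {T S : Scheme.{u}} (f : T ⟶ S) [FormallyUnramified f] [LocallyOfFiniteType f]
    {A : Type u} [CommRing A] [IsLocalRing A] (a b : Spec (CommRingCat.of A) ⟶ T) (h : a ≫ f = b ≫ f)
    (hr : Spec.map (CommRingCat.ofHom (residue A)) ≫ a = Spec.map (CommRingCat.ofHom (residue A)) ≫ b) :
    a = b := by
  let g : Spec (CommRingCat.of A) ⟶ pullback f f := pullback.lift a b h
  let d := pullback.diagonal f
  let r := Spec.map (CommRingCat.ofHom (residue A))
  have hga : g ≫ pullback.fst f f = a := pullback.lift_fst _ _ _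
  have hgb : g ≫ pullback.snd f f = b := pullback.lift_snd _ _ _
  have hd1 : d ≫ pullback.fst f f = 𝟙 T := pullback.diagonal_fst f
  have hd2 : d ≫ pullback.snd f f = 𝟙 T := pullback.diagonal_snd f
  have hfac : (r ≫ a) ≫ d = r ≫ g := by
    apply pullback.hom_ext
    · exact ((((Category.assoc _ _ _).trans (congrArg ((r ≫ a) ≫ ·) hd1)).trans
        (Category.comp_id _)).trans (congrArg (r ≫ ·) hga.symm)).trans (Category.assoc _ _ _).symm
    · exact (((((Category.assoc _ _ _).trans (congrArg ((r ≫ a) ≫ ·) hd2)).trans
        (Category.comp_id _)).trans hr).trans (congrArg (r ≫ ·) hgb.symm)).trans (Category.assoc _ _ _).symm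
  have hmem : closedPoint A ∈ Set.range (pullback.fst g d).base := by
    refine ⟨(pullback.lift r (r ≫ a) hfac.symm).base (closedPoint (ResidueField A)), ?_⟩
    erw [← Scheme.Hom.comp_apply, pullback.lift_fst]
    exact comap_closedPoint (residue A)
  have hsurj : Surjective (pullback.fst g d) :=
    ⟨fun y => ((IsLocalRing.specializes_closedPoint (R := A) y).mem_open
      (pullback.fst g d).isOpenEmbedding.isOpen_range hmem)⟩
  have : IsIso (pullback.fst g d) := (isIso_iff_isOpenImmersion_and_epi_base _).2
    ⟨inferInstance, (TopCat.epi_iff_surjective _).2 hsurj.surj⟩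
  have hg : g = (inv (pullback.fst g d) ≫ pullback.snd g d) ≫ d := by
    rw [Category.assoc, ← pullback.condition, IsIso.inv_hom_id_assoc]
  have ha : a = inv (pullback.fst g d) ≫ pullback.snd g d := by
    rw [← hga]
    conv_lhs => rw [hg]
    rw [Category.assoc]
    erw [hd1]
    exact Category.comp_id _
  have hb : b = inv (pullback.fst g d) ≫ pullback.snd g d := by
    rw [← hgb]
    conv_lhs => rw [hg]
    rw [Category.assoc]
    erw [hd2]
    exact Category.comp_id _
  rw [ha, hb]

/-- Torsion points with values in a local ring of a proper smooth group scheme with geometrically connected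
fibres are determined by their reduction, if the order is invertible. -/
theorem torsion_eq_of_residue_eq {S : Scheme.{u}} (B : Over S) [GrpObj B] [IsProper B.hom] [Smooth B.hom]
    [GeometricallyConnected B.hom] (n : ℕ) (hn : IsUnit (n : Γ(S, ⊤)))
    {A : Type u} [CommRing A] [IsLocalRing A] (s : Spec (CommRingCat.of A) ⟶ S)
    (a b : Over.mk s ⟶ B) (ha : a ^ n = 1) (hb : b ^ n = 1)
    (hr : Spec.map (CommRingCat.ofHom (residue A)) ≫ a.left =
      Spec.map (CommRingCat.ofHom (residue A)) ≫ b.left) : a = b := by
  have : GeometricallyReduced B.hom := H23.RigidGamma.geometricallyReduced_of_smooth B.hom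
  have this_unr := H23.MulEtale.formallyUnramified_pow (X := B) n hn
  let f := (𝟙 B ^ n : B ⟶ B).left
  have : LocallyOfFiniteType f := by
    have : LocallyOfFiniteType ((𝟙 B ^ n : B ⟶ B).left ≫ B.hom) := by rw [Over.w]; infer_instance
    exact locallyOfFiniteType_of_comp _ B.hom
  let p := pullback.fst η[B].left f
  have : FormallyUnramified p :=
    (inferInstance : MorphismProperty.IsStableUnderBaseChange @FormallyUnramified.{u}).of_isPullback
      (IsPullback.of_hasPullback η[B].left f).flip this_unr
  have : LocallyOfFiniteType p := by infer_instance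
  have hlift : ∀ c : Over.mk s ⟶ B, c ^ n = 1 → s ≫ η[B].left = c.left ≫ f := by
    intro c hc
    have h : (c ≫ (𝟙 B ^ n)).left = (1 : Over.mk s ⟶ B).left := by
      rw [MonObj.comp_pow, Category.comp_id, hc]
    exact h.symm
  have key := eq_of_residue_eq p (pullback.lift s a.left (hlift a ha)) (pullback.lift s b.left (hlift b hb))
    ((pullback.lift_fst _ _ _).trans (pullback.lift_fst _ _ _).symm) (by
      apply pullback.hom_ext
      · rw [Category.assoc, Category.assoc]
        erw [pullback.lift_fst, pullback.lift_fst]
      · rw [Category.assoc, Category.assoc]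
        erw [pullback.lift_snd, pullback.lift_snd]
        exact hr)
  ext1
  exact ((pullback.lift_snd _ _ _).symm.trans (congrArg (· ≫ pullback.snd η[B].left f) key)).trans
    (pullback.lift_snd _ _ _)

end Groth.Agent.SGA7X
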