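import Groth.Agent.UnibEtale.Chart
import Groth.Agent.UnibEtale.Comp
import Groth.Agent.CycLib.Finite
import Groth.Agent.FibDim.AffineSpaceFibre
import Mathlib.GroupTheory.OrderOfElement

/-!
An etale surjective scheme over an irreducible geometrically unibranch scheme, principal homogeneous
under a torsion-free abstract group, has a section through every point.
-/

set_option autoImplicit false
set_option backward.isDefEq.respectTransparency.types false

universe u

open CategoryTheory Limits AlgebraicGeometry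

namespace Groth.Agent.SGA7X.TorsorSplit

variable {X P : Scheme.{u}} (p : X ⟶ P) (Z : Type u) [Group Z] (τ : Z → (X ⟶ X))

/-- The data: an action over `P` which is simply transitive on points with values in fields. -/
structure IsPrincipal : Prop where
  comp_hom : ∀ z, τ z ≫ p = p
  one : τ 1 = 𝟙 X
  mul : ∀ z w, τ (z * w) = τ w ≫ τ z
  existsUnique : ∀ (L : Type u) [Field L] (a b : Spec (CommRingCat.of L) ⟶ X), a ≫ p = b ≫ p →
    ∃! z, a ≫ τ z = b

variable {p Z τ}

theorem IsPrincipal.inv_comp (h : IsPrincipal p Z τ) (z : Z) : τ z ≫ τ z⁻¹ = 𝟙 X := by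
  rw [← h.mul, inv_mul_cancel, h.one]

theorem IsPrincipal.exists_map_eq (h : IsPrincipal p Z τ) {x y : X} (hxy : p x = p y) : ∃ z, τ z x = y := by
  obtain ⟨w, hw₁, hw₂⟩ := Scheme.Pullback.exists_preimage_pullback (f := p) (g := p) x y hxy
  let ι := (pullback p p).fromSpecResidueField w
  obtain ⟨z, hz, -⟩ := h.existsUnique _ (ι ≫ pullback.fst p p) (ι ≫ pullback.snd p p)
    (by rw [Category.assoc, Category.assoc, pullback.condition])
  refine ⟨z, ?_⟩
  let t : Spec ((pullback p p).residueField w) := IsLocalRing.closedPoint _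
  have h1 : ι t = w := Scheme.fromSpecResidueField_apply _ _
  have := congrArg (fun g : Spec ((pullback p p).residueField w) ⟶ X => g t) hz
  change τ z (pullback.fst p p (ι t)) = pullback.snd p p (ι t) at this
  rwa [h1, hw₁, hw₂] at this

/-- A group element fixing a point with finite residue extension is trivial when the group is torsion-free. -/
theorem IsPrincipal.eq_one_of_fixed (h : IsPrincipal p Z τ) (hZ : ∀ z : Z, IsOfFinOrder z → z = 1)
    [LocallyOfFiniteType p] [LocallyQuasiFinite p] {z : Z} {c : X} (hc : τ z c = c) : z = 1 := by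
  let K := P.residueField (p c)
  let L := X.residueField c
  let ι := X.fromSpecResidueField c
  let : Algebra K L := (p.residueFieldMap c).hom.toAlgebra
  have : Module.Finite K L :=
    CycLib.finite_residueFieldMap_of_rd_eq_zero p c (FibDim.rd_eq_zero_of_quasiFinite p c)
  have hι : ι ≫ p = Spec.map (p.residueFieldMap c) ≫ P.fromSpecResidueField (p c) :=
    (p.SpecMap_residueFieldMap_fromSpecResidueField c).symm
  obtain ⟨t, ht⟩ : ∃ t : Spec L ⟶ Spec L, t ≫ ι = ι ≫ τ z := by
    have key : ∀ (y : X), y = c → ∀ k : Spec L ⟶ Spec (X.residueField y),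
        k ≫ X.fromSpecResidueField y = ι ≫ τ z → ∃ t : Spec L ⟶ Spec L, t ≫ ι = ι ≫ τ z := by
      rintro _ rfl k hk
      exact ⟨k, hk⟩
    exact key _ hc _ ((τ z).SpecMap_residueFieldMap_fromSpecResidueField c)
  obtain ⟨φ, rfl⟩ := Spec.map_surjective t
  have hφ : p.residueFieldMap c ≫ φ = p.residueFieldMap c := by
    apply Spec.map_injective
    rw [← cancel_mono (P.fromSpecResidueField (p c)), Spec.map_comp, Category.assoc, ← hι, ← Category.assoc,
      ht, Category.assoc, h.comp_hom]
  let f : L →ₐ[K] L := { φ.hom with commutes' := fun r => congr($hφ r) }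
  have hinj : Function.Injective f := f.toRingHom.injective
  let e : L ≃ₐ[K] L := AlgEquiv.ofBijective f ⟨hinj, LinearMap.surjective_of_injective (f := f.toLinearMap) hinj⟩
  obtain ⟨n, hn, hen⟩ := (isOfFinOrder_of_finite e).exists_pow_eq_one
  have hiter : ∀ m : ℕ, Spec.map (CommRingCat.ofHom ((e ^ m : L ≃ₐ[K] L) : L →+* L)) ≫ ι = ι ≫ τ (z ^ m) := by
    intro m
    induction m with
    | zero =>
      rw [pow_zero, pow_zero, h.one, Category.comp_id]
      show Spec.map (𝟙 _) ≫ ι = ι
      rw [Spec.map_id, Category.id_comp]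
    | succ m ih =>
      rw [pow_succ' z, h.mul, ← Category.assoc, ← ih, Category.assoc, ← ht, ← Category.assoc, ← Spec.map_comp,
        pow_succ]
      congr 2
  have h1 := hiter n
  rw [hen] at h1
  have h2 : ι ≫ τ (1 : Z) = ι ≫ τ (z ^ n) := by
    rw [h.one, Category.comp_id, ← h1]
    show ι = Spec.map (𝟙 _) ≫ ι
    rw [Spec.map_id, Category.id_comp]
  have hzn : z ^ n = 1 := (h.existsUnique L ι (ι ≫ τ (1 : Z))
    (by rw [Category.assoc, h.comp_hom])).unique h2.symm rfl
  exact hZ z (isOfFinOrder_iff_pow_eq_one.2 ⟨n, hn, hzn⟩)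

/-- Sections through every point. -/
theorem IsPrincipal.exists_section (h : IsPrincipal p Z τ) (hZ : ∀ z : Z, IsOfFinOrder z → z = 1)
    [Etale p] [Surjective p] [IrreducibleSpace P] (hP : ∀ y : P, CAlg2.IsGeomUnibranch (P.presheaf.stalk y))
    (x₀ : X) : ∃ s : P ⟶ X, s ≫ p = 𝟙 P ∧ x₀ ∈ Set.range s := by
  have := UnibEtale.locallyQuasiFinite_of_formallyUnramified p
  obtain ⟨huniq, hcomp⟩ := UnibEtale.components p (fun x =>
    (Ideal.Quotient.isDomain_iff_prime _).1 (UnibEtale.stalk_of_etale p x ⊤ trivial (hP (p x))).1.1.1)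
  let C := irreducibleComponent x₀
  have hC : C ∈ irreducibleComponents X := irreducibleComponent_mem_irreducibleComponents x₀
  obtain ⟨hCo, c, ⟨hcC, hcη⟩, hcu⟩ := hcomp C hC
  have hCgen : IsGenericPoint c C := by
    have hg := hC.1.isGenericPoint_genericPoint (isClosed_of_mem_irreducibleComponents _ hC)
    rwa [hcu _ ⟨hg.mem, UnibEtale.map_generic p hC hg⟩] at hg
  let U : X.Opens := ⟨C, hCo⟩
  -- `C` meets each of its translates trivially
  have hstab : ∀ z a, a ∈ C → τ z a ∈ C → z = 1 := fun z a ha hza => by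
    refine h.eq_one_of_fixed hZ (c := c) ?_
    have h1 : τ z c ⤳ τ z a := (hCgen.specializes ha).map (τ z).continuous
    have h2 : τ z c ∈ C := h1.mem_open hCo hza
    refine hcu _ ⟨h2, ?_⟩
    show (τ z ≫ p) c = _
    rw [h.comp_hom]
    exact hcη
  have hsurj : Surjective (U.ι ≫ p) := by
    refine ⟨fun y => ?_⟩
    obtain ⟨x, rfl⟩ := p.surjective y
    obtain ⟨Z', ⟨hZ', hxZ'⟩, -⟩ := huniq x
    have hg := hZ'.1.isGenericPoint_genericPoint (isClosed_of_mem_irreducibleComponents _ hZ')
    obtain ⟨z, hz⟩ := h.exists_map_eq (x := hZ'.1.genericPoint) (y := c)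
      ((UnibEtale.map_generic p hZ' hg).trans hcη.symm)
    have h1 : c ⤳ τ z x := hz ▸ (hg.specializes hxZ').map (τ z).continuous
    have h2 : τ z x ∈ C := h1.mem_closed (isClosed_of_mem_irreducibleComponents _ hC) hcC
    refine ⟨⟨τ z x, h2⟩, ?_⟩
    show p (τ z x) = _
    rw [← Scheme.Hom.comp_apply, h.comp_hom]
  let q := U.ι ≫ p
  have : Surjective (pullback.diagonal q) := by
    refine ⟨fun w => ?_⟩
    let ι := (pullback q q).fromSpecResidueField w
    let a := ι ≫ pullback.fst q q
    let b := ι ≫ pullback.snd q q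
    obtain ⟨z, hz, -⟩ := h.existsUnique _ (a ≫ U.ι) (b ≫ U.ι) (by
      simp only [a, b, Category.assoc]
      exact congrArg (ι ≫ ·) pullback.condition)
    have hz1 : z = 1 := by
      refine hstab z _ ((a (IsLocalRing.closedPoint _) : U.toScheme)).2 ?_
      show τ z (U.ι (a _)) ∈ C
      have h3 : τ z (U.ι (a (IsLocalRing.closedPoint _))) = U.ι (b (IsLocalRing.closedPoint _)) := by
        exact congrArg (fun g : Spec ((pullback q q).residueField w) ⟶ X => g (IsLocalRing.closedPoint _)) hz
      rw [h3]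
      exact (b (IsLocalRing.closedPoint _)).2
    rw [hz1, h.one, Category.comp_id, cancel_mono] at hz
    refine ⟨a (IsLocalRing.closedPoint _), ?_⟩
    have h4 : a ≫ pullback.diagonal q = ι := by
      apply pullback.hom_ext
      · rw [Category.assoc, pullback.diagonal_fst, Category.comp_id]
      · rw [Category.assoc, pullback.diagonal_snd, Category.comp_id]
        exact hz
    rw [← Scheme.Hom.comp_apply, h4]
    exact Scheme.fromSpecResidueField_apply _ _
  have : IsIso (pullback.diagonal q) :=
    isIso_of_isOpenImmersion_of_opensRange_eq_top _ (top_unique fun z _ => (pullback.diagonal q).surjective z)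
  have : Mono q := (pullback.isIso_diagonal_iff q).1 this
  have : IsOpenImmersion q := IsOpenImmersion.of_flat_of_mono q
  have : IsIso q := isIso_of_isOpenImmersion_of_opensRange_eq_top _ (top_unique fun z _ => q.surjective z)
  refine ⟨inv q ≫ U.ι, by rw [Category.assoc, IsIso.inv_hom_id], ?_⟩
  refine ⟨q ⟨x₀, mem_irreducibleComponent⟩, ?_⟩
  rw [← Scheme.Hom.comp_apply, IsIso.hom_inv_id_assoc]
  rfl

end Groth.Agent.SGA7X.TorsorSplit
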