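import Groth.Agent.SGA7X.HenselValuation
import Mathlib.FieldTheory.SeparableDegree
import Mathlib.FieldTheory.Perfect

/-!
An element of a separable closure fixed by inertia lies in an extension generated by the root of a monic
polynomial with irreducible separable reduction.
-/

set_option autoImplicit false

universe u

open IsLocalRing Polynomial
open scoped IntermediateField

namespace Groth.Agent.SGA7X

/-- A monic polynomial with separable reduction is separable. -/
theorem separable_of_residue {R : Type u} [CommRing R] [IsLocalRing R] {p : R[X]} (hp : p.Monic)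
    (hs : (p.map (residue R)).Separable) : p.Separable := by
  have : Module.Finite R (AdjoinRoot p) := hp.finite_adjoinRoot
  have hu : IsUnit (AdjoinRoot.mk p (derivative p)) := by
    by_contra h
    obtain ⟨M, hM, hmem⟩ := exists_max_ideal_of_mem_nonunits h
    have hMm : (M.comap (algebraMap R (AdjoinRoot p))).IsMaximal :=
      Ideal.isMaximal_comap_of_isIntegral_of_isMaximal M
    let := Ideal.Quotient.field M
    let ψ : ResidueField R →+* AdjoinRoot p ⧸ M :=
      Ideal.Quotient.lift (maximalIdeal R) ((Ideal.Quotient.mk M).comp (algebraMap R _)) fun r hr => by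
        rw [← eq_maximalIdeal hMm] at hr
        exact Ideal.Quotient.eq_zero_iff_mem.2 hr
    have hψ : ψ.comp (residue R) = (Ideal.Quotient.mk M).comp (AdjoinRoot.of p) := by
      rw [← AdjoinRoot.algebraMap_eq]
      rfl
    have heval : ∀ q : R[X], (q.map (residue R)).eval₂ ψ (Ideal.Quotient.mk M (AdjoinRoot.root p)) =
        Ideal.Quotient.mk M (AdjoinRoot.mk p q) := by
      intro q
      rw [eval₂_map, hψ, ← hom_eval₂, ← AdjoinRoot.algebraMap_eq, ← aeval_def, AdjoinRoot.aeval_eq]
    refine hs.eval₂_derivative_ne_zero ψ (x := Ideal.Quotient.mk M (AdjoinRoot.root p)) ?_ ?_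
    · rw [heval, AdjoinRoot.mk_self, map_zero]
    · rw [derivative_map, heval]
      exact Ideal.Quotient.eq_zero_iff_mem.2 hmem
  obtain ⟨v, hv⟩ := hu.exists_left_inv
  obtain ⟨b, rfl⟩ := AdjoinRoot.mk_surjective v
  rw [← map_mul, ← map_one (AdjoinRoot.mk p), AdjoinRoot.mk_eq_mk] at hv
  obtain ⟨c, hc⟩ := hv
  exact (separable_def' p).2 ⟨-c, b, by linear_combination hc⟩

/-- Finitely many separable elements are polynomials in one separable element. -/
theorem exists_primitive_of_separable (k : Type u) {L : Type u} [Field k] [Field L] [Algebra k L]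
    (s : Set L) (hfin : s.Finite) (hsep : ∀ x ∈ s, IsSeparable k x) :
    ∃ θ : L, IsSeparable k θ ∧ ∀ x ∈ s, ∃ f : k[X], aeval θ f = x := by
  let E := IntermediateField.adjoin k s
  have : Algebra.IsSeparable k E := (IntermediateField.isSeparable_adjoin_iff_isSeparable _ _).2 hsep
  have : Finite s := hfin.to_subtype
  have : FiniteDimensional k E :=
    IntermediateField.finiteDimensional_adjoin fun x hx => IsSeparable.isIntegral (hsep x hx)
  obtain ⟨θ, hθ⟩ := Field.exists_primitive_element k E
  have hs : IsSeparable k θ.1 := by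
    show (minpoly k θ.1).Separable
    rw [← IntermediateField.minpoly_eq (S := E) θ]
    exact Algebra.IsSeparable.isSeparable k θ
  refine ⟨θ.1, hs, fun x hx => ?_⟩
  have hmem : (⟨x, IntermediateField.subset_adjoin k s hx⟩ : E) ∈
      (IntermediateField.adjoin k {θ}).toSubalgebra := by
    rw [hθ]; trivial
  rw [IntermediateField.adjoin_simple_toSubalgebra_of_isAlgebraic (Algebra.IsAlgebraic.isAlgebraic θ),
    Algebra.adjoin_singleton_eq_range_aeval] at hmem
  obtain ⟨f, hf⟩ := hmem
  refine ⟨f, ?_⟩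
  have h := congrArg E.val hf
  exact (aeval_algHom_apply E.val θ f).trans h

variable {R K Ω : Type u} [CommRing R] [IsLocalRing R] [Field K] [Algebra R K] [Field Ω] [Algebra K Ω]

/-- Roots of monic lifts of irreducible separable polynomials over the residue field. -/
def IsSepLift (R : Type u) [CommRing R] [IsLocalRing R] [Algebra R Ω] (γ : Ω) : Prop :=
  ∃ p : R[X], p.Monic ∧ Irreducible (p.map (residue R)) ∧ (p.map (residue R)).Separable ∧ aeval γ p = 0

theorem root_eq_of_residue_eq (W : ValuationSubring Ω) (hW : SGA7.LiesOver K R W) {p : R[X]}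
    (hs : (p.map (residue R)).Separable) {γ γ' : W} (h : p.eval₂ (toW W hW) γ = 0)
    (h' : p.eval₂ (toW W hW) γ' = 0) (he : residue W γ = residue W γ') : γ = γ' := by
  have := isLocalHom_toW W hW
  let f := p.map (toW W hW)
  have hf : f.eval γ = 0 := by rw [eval_map]; exact h
  have hf' : f.eval γ' = 0 := by rw [eval_map]; exact h'
  obtain ⟨k, hk⟩ := f.binomExpansion γ (γ' - γ)
  rw [add_sub_cancel, hf, hf'] at hk
  have hres : residue W (f.derivative.eval γ) ≠ 0 := by
    rw [derivative_map, eval_map, hom_eval₂,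
      ← IsLocalRing.ResidueField.map_comp_residue, ← eval₂_map, ← derivative_map]
    exact hs.eval₂_derivative_ne_zero _ (by
      rw [eval₂_map, IsLocalRing.ResidueField.map_comp_residue, ← hom_eval₂, h, map_zero])
  have hu : IsUnit (f.derivative.eval γ + k * (γ' - γ)) := by
    rw [← residue_ne_zero_iff_isUnit, map_add, map_mul, map_sub, he, sub_self, mul_zero, add_zero]
    exact hres
  have h0 : (f.derivative.eval γ + k * (γ' - γ)) * (γ' - γ) = 0 := by linear_combination -hk
  rw [hu.mul_right_eq_zero, sub_eq_zero] at h0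
  exact h0.symm

variable [Algebra R Ω] [IsScalarTower R K Ω]

theorem eval₂_toW_eq_zero_iff (W : ValuationSubring Ω) (hW : SGA7.LiesOver K R W) (p : R[X]) (γ : W) :
    p.eval₂ (toW W hW) γ = 0 ↔ aeval (γ : Ω) p = 0 := by
  have h : ((p.eval₂ (toW W hW) γ : W) : Ω) = aeval (γ : Ω) p := by
    show W.subtype (p.eval₂ (toW W hW) γ) = _
    rw [hom_eval₂, aeval_def]
    congr 1
    ext r
    exact (IsScalarTower.algebraMap_apply R K Ω r).symm
  rw [← h]
  exact (W.subtype_injective.eq_iff' (map_zero _)).symm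

theorem IsSepLift.isIntegral {γ : Ω} (h : IsSepLift R γ) : IsIntegral R γ := by
  obtain ⟨p, hp, -, -, hp0⟩ := h
  exact ⟨p, hp, hp0⟩

section Residue

variable (W : ValuationSubring Ω) (hW : SGA7.LiesOver K R W)

/-- The residue extension of a dominating valuation ring. -/
noncomputable def resMap : ResidueField R →+* ResidueField W :=
  have := isLocalHom_toW W hW
  ResidueField.map (toW W hW)

theorem resMap_residue (r : R) : resMap W hW (residue R r) = residue W (toW W hW r) := rfl

/-- Separable residues lift. -/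
theorem exists_sepLift [IsSepClosed Ω] (θ : ResidueField W)
    (hθ : letI := (resMap W hW).toAlgebra; IsSeparable (ResidueField R) θ) :
    ∃ γ : W, IsSepLift R (γ : Ω) ∧ residue W γ = θ := by
  let := (resMap W hW).toAlgebra
  have hint : IsIntegral (ResidueField R) θ := IsSeparable.isIntegral hθ
  have hlift : minpoly (ResidueField R) θ ∈ lifts (residue R) :=
    (mem_lifts _).2 (Polynomial.map_surjective _ residue_surjective _)
  obtain ⟨p, hp, -, hpm⟩ := lifts_and_natDegree_eq_and_monic hlift (minpoly.monic hint)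
  have hsep : (p.map (algebraMap R Ω)).Separable := (separable_of_residue hpm (hp ▸ hθ)).map
  have hspl := IsSepClosed.splits_of_separable _ hsep
  have hroots : ∀ x ∈ (p.map (algebraMap R Ω)).roots, x ∈ W := fun x hx => by
    refine mem_of_isIntegral W hW x ⟨p, hpm, ?_⟩
    have := (mem_roots'.1 hx).2
    rwa [IsRoot, eval_map] at this
  let rs : Multiset W := (p.map (algebraMap R Ω)).roots.attach.map fun x => ⟨x.1, hroots x.1 x.2⟩
  have hrs : rs.map W.subtype = (p.map (algebraMap R Ω)).roots := by
    rw [Multiset.map_map]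
    exact Multiset.attach_map_val _
  have hprod : p.map (toW W hW) = (rs.map fun x => X - C x).prod := by
    apply Polynomial.map_injective W.subtype W.subtype_injective
    rw [Polynomial.map_map, Polynomial.map_multiset_prod, Multiset.map_map]
    have h1 : W.subtype.comp (toW W hW) = algebraMap R Ω := by
      ext r; exact (IsScalarTower.algebraMap_apply R K Ω r).symm
    rw [h1, hspl.eq_prod_roots_of_monic (hpm.map _)]
    congr 1
    conv_lhs => rw [← hrs, Multiset.map_map]
    refine Multiset.map_congr rfl fun x _ => ?_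
    simp
  have h0 : (p.map (toW W hW)).eval₂ (residue W) θ = 0 := by
    rw [eval₂_map]
    have h := minpoly.aeval (ResidueField R) θ
    rw [← hp, aeval_def, eval₂_map] at h
    exact h
  rw [hprod, ← coe_eval₂RingHom, map_multiset_prod, Multiset.map_map, Multiset.prod_eq_zero_iff,
    Multiset.mem_map] at h0
  obtain ⟨γ, hγ, hγθ⟩ := h0
  simp only [Function.comp_apply, coe_eval₂RingHom, eval₂_sub, eval₂_X, eval₂_C, sub_eq_zero] at hγθ
  refine ⟨γ, ⟨p, hpm, hp ▸ minpoly.irreducible hint, hp ▸ hθ, ?_⟩, hγθ.symm⟩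
  obtain ⟨x, -, rfl⟩ := Multiset.mem_map.1 hγ
  have := (mem_roots'.1 x.2).2
  rwa [IsRoot, eval_map] at this

variable [IsDomain R] [ValuationRing R] [IsFractionRing R K] [HenselianLocalRing R] [Algebra.IsAlgebraic K Ω]

/-- Every automorphism preserves the valuation ring. -/
theorem comap_eq_self (hW : SGA7.LiesOver K R W) (σ : Ω ≃ₐ[K] Ω) : W.comap (σ : Ω →+* Ω) = W := by
  refine eq_of_liesOver (R := R) W _ hW ⟨fun r => ?_, fun r hr => ?_⟩
  · show σ (algebraMap K Ω (algebraMap R K r)) ∈ W
    rw [σ.commutes]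
    exact hW.1 r
  · by_contra h
    set V := W.comap (σ : Ω →+* Ω)
    set x := algebraMap K Ω (algebraMap R K r) with hx
    rw [not_lt] at h
    have hx0 : x ≠ 0 := fun h0 => by rw [h0, map_zero] at h; exact not_lt.2 h zero_lt_one
    have h1 : x⁻¹ ∈ V := by
      rw [← ValuationSubring.valuation_le_one_iff, map_inv₀]
      exact inv_le_one_of_one_le₀ h
    have h2 : x⁻¹ ∈ W := by
      have : σ x⁻¹ ∈ W := h1
      rwa [map_inv₀, hx, σ.commutes] at this
    have h3 := hW.2 r hr
    rw [← ValuationSubring.valuation_le_one_iff, map_inv₀] at h2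
    exact absurd h2 (not_le.2 ((one_lt_inv₀ (pos_iff_ne_zero.2 ((W.valuation).ne_zero_iff.2 hx0))).2 h3))

theorem map_mem (hW : SGA7.LiesOver K R W) (σ : Ω ≃ₐ[K] Ω) {x : Ω} (hx : x ∈ W) : σ x ∈ W := by
  rw [← comap_eq_self W hW σ] at hx
  exact hx

/-- The action on the residue field. -/
noncomputable def resAut (σ : Ω ≃ₐ[K] Ω) :
    letI := (resMap W hW).toAlgebra
    ResidueField W →ₐ[ResidueField R] ResidueField W :=
  letI := (resMap W hW).toAlgebra
  let σW : W →+* W := (σ : Ω →+* Ω).restrict W.toSubring W.toSubring (fun _ hx => map_mem W hW σ hx)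
  have : IsLocalHom σW := ⟨fun x hx => by
    obtain ⟨y, hy⟩ := hx.exists_right_inv
    refine IsUnit.of_mul_eq_one ⟨σ.symm y.1, map_mem W hW σ.symm y.2⟩ (Subtype.ext ?_)
    apply σ.injective
    show σ (x.1 * σ.symm y.1) = σ 1
    rw [map_mul, AlgEquiv.apply_symm_apply, map_one]
    exact congrArg Subtype.val hy⟩
  { ResidueField.map σW with
    commutes' := fun r => by
      obtain ⟨r, rfl⟩ := residue_surjective r
      show ResidueField.map σW (residue W (toW W hW r)) = residue W (toW W hW r)
      rw [ResidueField.map_residue]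
      congr 1
      exact Subtype.ext (σ.commutes _) }

theorem resAut_residue (σ : Ω ≃ₐ[K] Ω) (w : W) :
    letI := (resMap W hW).toAlgebra
    resAut W hW σ (residue W w) = residue W ⟨σ w, map_mem W hW σ w.2⟩ := rfl

theorem isIntegral_residue (w : W) :
    letI := (resMap W hW).toAlgebra
    IsIntegral (ResidueField R) (residue W w) := by
  let := (resMap W hW).toAlgebra
  obtain ⟨p, hp, hp0⟩ := isIntegral_of_mem W hW (w : Ω) w.2
  refine ⟨p.map (residue R), hp.map _, ?_⟩
  rw [eval₂_map]
  show p.eval₂ ((residue W).comp (toW W hW)) (residue W w) = 0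
  rw [← hom_eval₂, (eval₂_toW_eq_zero_iff W hW p w).2 hp0, map_zero]

/-- Automorphisms fixing the lifts of separable residues are in the inertia group. -/
theorem isInertia_of_fixes [IsSepClosed Ω] (hW : SGA7.LiesOver K R W) (σ : Ω ≃ₐ[K] Ω)
    (h : ∀ γ : Ω, IsSepLift R γ → σ γ = γ) : SGA7.IsInertia W σ := by
  let := (resMap W hW).toAlgebra
  intro x hx
  refine ⟨map_mem W hW σ hx, ?_⟩
  let w : W := ⟨x, hx⟩
  let θ := residue W w
  have hint : IsIntegral (ResidueField R) θ := isIntegral_residue W hW w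
  obtain ⟨q, hq⟩ := ExpChar.exists (ResidueField R)
  obtain ⟨g, hg, n, hn⟩ := (minpoly.irreducible hint).hasSeparableContraction q
  have hsepθ : IsSeparable (ResidueField R) (θ ^ q ^ n) := by
    refine hg.of_dvd (minpoly.dvd _ _ ?_)
    rw [← expand_aeval, hn, minpoly.aeval]
  obtain ⟨γ, hγ, hγθ⟩ := exists_sepLift W hW _ hsepθ
  have h1 : resAut W hW σ (θ ^ q ^ n) = θ ^ q ^ n := by
    rw [← hγθ, resAut_residue]
    congr 1
    exact Subtype.ext (h γ hγ)
  rw [map_pow] at h1
  have : ExpChar (ResidueField W) q := expChar_of_injective_algebraMap (algebraMap (ResidueField R) _).injective q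
  have h2 : residue W ⟨σ x, map_mem W hW σ hx⟩ = residue W w := iterateFrobenius_inj _ q n h1
  exact (W.valuation_lt_one_iff (⟨σ x, map_mem W hW σ hx⟩ - w)).1 (by
    rw [← residue_eq_zero_iff, map_sub, h2, sub_self])

/-- A finite set fixed by inertia lies in the extension generated by one lift of a separable residue. -/
theorem exists_sepLift_of_fixed [IsGalois K Ω] [IsSepClosed Ω] (hW : SGA7.LiesOver K R W) (T : Set Ω) (hT : T.Finite)
    (hfix : ∀ σ : Ω ≃ₐ[K] Ω, SGA7.IsInertia W σ → ∀ t ∈ T, σ t = t) :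
    ∃ γ : Ω, IsSepLift R γ ∧ T ⊆ K⟮γ⟯ := by
  classical
  let := (resMap W hW).toAlgebra
  let G : Set Ω := {γ | IsSepLift R γ}
  have hTG : ∀ t ∈ T, t ∈ IntermediateField.adjoin K G := by
    intro t ht
    rw [← InfiniteGalois.fixedField_fixingSubgroup (IntermediateField.adjoin K G)]
    rintro ⟨σ, hσ⟩
    refine hfix σ (isInertia_of_fixes W hW σ fun γ hγ => ?_) t ht
    exact hσ ⟨γ, IntermediateField.subset_adjoin K G hγ⟩
  choose! U hU hUt using fun t ht => IntermediateField.exists_finset_of_mem_adjoin (hTG t ht)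
  let V : Finset Ω := hT.toFinset.biUnion U
  have hV : ∀ v ∈ V, IsSepLift R v := by
    intro v hv
    obtain ⟨t, ht, hvt⟩ := Finset.mem_biUnion.1 hv
    exact hU t (hT.mem_toFinset.1 ht) hvt
  let res : V → ResidueField W := fun v => residue W ⟨v.1, mem_of_isIntegral W hW v.1 (hV v v.2).isIntegral⟩
  have hressep : ∀ v, IsSeparable (ResidueField R) (res v) := by
    rintro ⟨v, hv⟩
    obtain ⟨p, hpm, -, hps, hp0⟩ := hV v hv
    refine hps.of_dvd (minpoly.dvd _ _ ?_)
    rw [aeval_def, eval₂_map]
    show p.eval₂ ((residue W).comp (toW W hW)) (residue W _) = 0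
    rw [← hom_eval₂, (eval₂_toW_eq_zero_iff W hW p _).2 hp0, map_zero]
  obtain ⟨θ, hθsep, hθgen⟩ := exists_primitive_of_separable (ResidueField R) (Set.range res)
    (Set.finite_range res) (by rintro _ ⟨v, rfl⟩; exact hressep v)
  obtain ⟨γ, hγ, hγθ⟩ := exists_sepLift W hW θ hθsep
  refine ⟨γ, hγ, fun t ht => ?_⟩
  have hsub : IntermediateField.adjoin K (U t : Set Ω) ≤ K⟮(γ : Ω)⟯ := by
    rw [IntermediateField.adjoin_le_iff]
    intro v hvt
    have hv : v ∈ V := Finset.mem_biUnion.2 ⟨t, hT.mem_toFinset.2 ht, hvt⟩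
    rw [SetLike.mem_coe, ← InfiniteGalois.fixedField_fixingSubgroup K⟮(γ : Ω)⟯]
    rintro ⟨σ, hσ⟩
    have hσγ : σ γ = γ := hσ ⟨γ, IntermediateField.mem_adjoin_simple_self K _⟩
    obtain ⟨p, -, -, hps, hp0⟩ := hV v hv
    let w : W := ⟨v, mem_of_isIntegral W hW v (hV v hv).isIntegral⟩
    have hσw : aeval (σ v) p = 0 := by
      rw [show σ v = ((σ : Ω →ₐ[K] Ω).restrictScalars R) v from rfl, aeval_algHom_apply, hp0, map_zero]
    refine congrArg Subtype.val (root_eq_of_residue_eq W hW hps (γ := ⟨σ v, map_mem W hW σ w.2⟩) (γ' := w)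
      ((eval₂_toW_eq_zero_iff W hW p _).2 hσw) ((eval₂_toW_eq_zero_iff W hW p w).2 hp0) ?_)
    refine (resAut_residue W hW σ w).symm.trans ?_
    obtain ⟨f, hf⟩ := hθgen (residue W w) ⟨⟨v, hv⟩, rfl⟩
    have hwf : residue W w = aeval θ f := hf.symm
    rw [hwf, ← aeval_algHom_apply, ← hγθ, resAut_residue]
    rw [show (⟨σ γ, map_mem W hW σ γ.2⟩ : W) = γ from Subtype.ext hσγ]
  exact hsub (hUt t ht)

end Residue

end Groth.Agent.SGA7X
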